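import Groth.Agent.CliffSmooth.Norm
import Groth.Prelude.Def_QuadGrp2
import Mathlib.RingTheory.TensorProduct.Maps

/-!
# Base change of Clifford algebras, without inverting two
-/

set_option autoImplicit false

universe u

namespace Groth.Agent.CliffSmooth

open CliffordAlgebra TensorProduct QuadGrp

variable {R : Type u} [CommRing R] {M : Type u} [AddCommGroup M] [Module R M] [Module.Free R M]
  (Q : QuadraticForm R M) (A : Type u) [CommRing A] [Algebra R A]

theorem baseChangeForm_one_tmul (m : M) : baseChangeForm A Q (1 ⊗ₜ[R] m) = algebraMap R A (Q m) := by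
  simp [baseChangeForm, baseChange_tmul, Algebra.smul_def]

theorem polar_baseChangeForm (a c : A) (m m' : M) :
    QuadraticMap.polar (baseChangeForm A Q) (a ⊗ₜ[R] m) (c ⊗ₜ[R] m') =
      a * c * algebraMap R A (QuadraticMap.polar Q m m') := by
  have hs : ∀ (a : A) (m : M), a ⊗ₜ[R] m = a • ((1 : A) ⊗ₜ[R] m) := fun a m => by
    rw [TensorProduct.smul_tmul', smul_eq_mul, mul_one]
  rw [hs a m, hs c m', QuadraticMap.polar_smul_left, QuadraticMap.polar_smul_right, QuadraticMap.polar,
    ← TensorProduct.tmul_add, baseChangeForm_one_tmul, baseChangeForm_one_tmul, baseChangeForm_one_tmul,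
    QuadraticMap.polar, map_sub, map_sub, smul_eq_mul, smul_eq_mul]
  ring

/-- The vectors in `A ⊗ C(Q)`. -/
noncomputable def vecBC : A ⊗[R] M →ₗ[A] A ⊗[R] CliffordAlgebra Q :=
  TensorProduct.AlgebraTensorModule.map (LinearMap.id : A →ₗ[A] A) (ι Q)

theorem vecBC_tmul (a : A) (m : M) : vecBC Q A (a ⊗ₜ[R] m) = a ⊗ₜ[R] ι Q m := rfl

theorem vecBC_swap (x y : A ⊗[R] M) : vecBC Q A x * vecBC Q A y + vecBC Q A y * vecBC Q A x =
    algebraMap A (A ⊗[R] CliffordAlgebra Q) (QuadraticMap.polar (baseChangeForm A Q) x y) := by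
  induction x using TensorProduct.induction_on generalizing y with
  | zero => simp [QuadraticMap.polar]
  | add x₁ x₂ h₁ h₂ => rw [map_add, add_mul, mul_add, add_add_add_comm, h₁, h₂, QuadraticMap.polar_add_left, map_add]
  | tmul a m =>
    induction y using TensorProduct.induction_on with
    | zero => simp [QuadraticMap.polar]
    | add y₁ y₂ h₁ h₂ => rw [map_add, mul_add, add_mul, add_add_add_comm, h₁, h₂, QuadraticMap.polar_add_right, map_add]
    | tmul c m' =>
      rw [vecBC_tmul, vecBC_tmul, Algebra.TensorProduct.tmul_mul_tmul, Algebra.TensorProduct.tmul_mul_tmul,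
        mul_comm c a, ← TensorProduct.tmul_add, ι_mul_ι_add_swap, polar_baseChangeForm,
        Algebra.TensorProduct.algebraMap_apply, Algebra.algebraMap_self, RingHom.id_apply,
        Algebra.algebraMap_eq_smul_one, TensorProduct.tmul_smul, TensorProduct.smul_tmul', Algebra.smul_def, mul_comm]

theorem vecBC_sq (x : A ⊗[R] M) : vecBC Q A x * vecBC Q A x =
    algebraMap A (A ⊗[R] CliffordAlgebra Q) (baseChangeForm A Q x) := by
  induction x using TensorProduct.induction_on with
  | zero => simp
  | tmul a m =>
    rw [vecBC_tmul, Algebra.TensorProduct.tmul_mul_tmul, ι_sq_scalar, Algebra.TensorProduct.algebraMap_apply,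
      Algebra.algebraMap_self, RingHom.id_apply, Algebra.algebraMap_eq_smul_one, TensorProduct.tmul_smul,
      TensorProduct.smul_tmul', Algebra.smul_def]
    congr 1
    simp [baseChangeForm, baseChange_tmul, Algebra.smul_def, mul_comm]
  | add x y hx hy =>
    rw [map_add, add_mul, mul_add, mul_add, hx, hy, QuadraticMap.map_add (baseChangeForm A Q), map_add, map_add, ← vecBC_swap]
    abel

/-- To `A ⊗ C(Q)`. -/
noncomputable def toBC : CliffordAlgebra (baseChangeForm A Q) →ₐ[A] A ⊗[R] CliffordAlgebra Q :=
  CliffordAlgebra.lift _ ⟨vecBC Q A, vecBC_sq Q A⟩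

theorem toBC_ι (x : A ⊗[R] M) : toBC Q A (ι _ x) = vecBC Q A x := lift_ι_apply _ _ x

/-- `C(Q) → C(Q_A)`. -/
noncomputable def ofBCAux : CliffordAlgebra Q →ₐ[R] CliffordAlgebra (baseChangeForm A Q) :=
  CliffordAlgebra.lift Q ⟨(ι (baseChangeForm A Q)).restrictScalars R ∘ₗ TensorProduct.mk R A M 1, fun v => by
    refine (ι_sq_scalar (baseChangeForm A Q) (1 ⊗ₜ v)).trans ?_
    rw [baseChangeForm_one_tmul, ← IsScalarTower.algebraMap_apply]⟩

theorem ofBCAux_ι (m : M) : ofBCAux Q A (ι Q m) = ι _ ((1 : A) ⊗ₜ[R] m) := lift_ι_apply _ _ m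

/-- From `A ⊗ C(Q)`. -/
noncomputable def ofBC : A ⊗[R] CliffordAlgebra Q →ₐ[A] CliffordAlgebra (baseChangeForm A Q) :=
  Algebra.TensorProduct.lift (Algebra.ofId _ _) (ofBCAux Q A) fun _ _ => Algebra.commutes _ _

theorem ofBC_vecBC (x : A ⊗[R] M) : ofBC Q A (vecBC Q A x) = ι _ x := by
  induction x using TensorProduct.induction_on with
  | zero => simp
  | add a b ha hb => rw [map_add, map_add, ha, hb, map_add]
  | tmul a m =>
    rw [vecBC_tmul, ofBC, Algebra.TensorProduct.lift_tmul, ofBCAux_ι, Algebra.ofId_apply, ← Algebra.smul_def,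
      ← map_smul, TensorProduct.smul_tmul', smul_eq_mul, mul_one]

/-- The base change isomorphism. -/
noncomputable def cb : CliffordAlgebra (baseChangeForm A Q) ≃ₐ[A] A ⊗[R] CliffordAlgebra Q :=
  AlgEquiv.ofAlgHom (toBC Q A) (ofBC Q A)
    (by
      refine Algebra.TensorProduct.ext (AlgHom.ext fun a => ?_) (CliffordAlgebra.hom_ext (LinearMap.ext fun m => ?_))
      · change toBC Q A (ofBC Q A (a ⊗ₜ[R] 1)) = a ⊗ₜ[R] 1
        rw [ofBC, Algebra.TensorProduct.lift_tmul, map_one, mul_one, Algebra.ofId_apply, AlgHom.commutes,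
          Algebra.TensorProduct.algebraMap_apply, Algebra.algebraMap_self, RingHom.id_apply]
      · change toBC Q A (ofBC Q A ((1 : A) ⊗ₜ[R] ι Q m)) = (1 : A) ⊗ₜ[R] ι Q m
        rw [← vecBC_tmul, ofBC_vecBC, toBC_ι])
    (CliffordAlgebra.hom_ext (LinearMap.ext fun x => by
      change ofBC Q A (toBC Q A (ι _ x)) = ι _ x
      rw [toBC_ι, ofBC_vecBC]))

theorem cb_ι (x : A ⊗[R] M) : cb Q A (ι _ x) = vecBC Q A x := toBC_ι Q A x

/-- The parity projection on the base change. -/
noncomputable def parBC (i : ZMod 2) : A ⊗[R] CliffordAlgebra Q →ₗ[A] A ⊗[R] CliffordAlgebra Q := (par Q i).baseChange A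

theorem cb_par (i : ZMod 2) (x : CliffordAlgebra (baseChangeForm A Q)) :
    cb Q A (par _ i x) = parBC Q A i (cb Q A x) := by
  have hmem : ∀ (j : ZMod 2) (y : CliffordAlgebra (baseChangeForm A Q)), y ∈ evenOdd _ j →
      parBC Q A j (cb Q A y) = cb Q A y ∧ parBC Q A (j + 1) (cb Q A y) = 0 := by
    intro j y hy
    have key : cb Q A y ∈ LinearMap.range ((evenOdd Q j).subtype.baseChange A) := by
      induction y, hy using CliffordAlgebra.evenOdd_induction (Q := baseChangeForm A Q) (n := j) with
      | range_ι_pow v hv =>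
        rcases zmod_two_cases j with rfl | rfl
        · rw [ZMod.val_zero, pow_zero, Submodule.mem_one] at hv
          obtain ⟨r, rfl⟩ := hv
          exact ⟨r ⊗ₜ ⟨1, SetLike.one_mem_graded _⟩, by simp⟩
        · rw [ZMod.val_one, pow_one] at hv
          obtain ⟨m, rfl⟩ := hv
          rw [cb_ι]
          induction m using TensorProduct.induction_on with
          | zero => simp
          | add a b ha hb => rw [map_add]; exact Submodule.add_mem _ ha hb
          | tmul a w => exact ⟨a ⊗ₜ ⟨ι Q w, ι_mem_evenOdd_one Q w⟩, rfl⟩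
      | add x y hx hy ihx ihy => rw [map_add]; exact Submodule.add_mem _ ihx ihy
      | ι_mul_ι_mul m₁ m₂ x hx ih =>
        rw [map_mul, map_mul, cb_ι, cb_ι]
        obtain ⟨z, hz⟩ := ih
        rw [← hz]
        clear hz
        induction z using TensorProduct.induction_on with
        | zero => simp
        | add a b ha hb => rw [map_add, mul_add]; exact Submodule.add_mem _ ha hb
        | tmul c w =>
          induction m₁ using TensorProduct.induction_on with
          | zero => simp
          | add a b ha hb => rw [map_add, add_mul, add_mul]; exact Submodule.add_mem _ ha hb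
          | tmul a₁ w₁ =>
            induction m₂ using TensorProduct.induction_on with
            | zero => simp
            | add a b ha hb => rw [map_add, mul_add, add_mul]; exact Submodule.add_mem _ ha hb
            | tmul a₂ w₂ =>
              refine ⟨(a₁ * a₂ * c) ⊗ₜ ⟨ι Q w₁ * ι Q w₂ * w, ?_⟩, ?_⟩
              · simpa using SetLike.mul_mem_graded (ι_mul_ι_mem_evenOdd_zero Q w₁ w₂) w.2
              · simp [vecBC_tmul]
    obtain ⟨z, hz⟩ := key
    rw [← hz]
    clear hz
    induction z using TensorProduct.induction_on with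
    | zero => simp
    | add a b ha hb => rw [map_add, map_add, map_add]; exact ⟨by rw [ha.1, hb.1], by rw [ha.2, hb.2, add_zero]⟩
    | tmul c w =>
      refine ⟨?_, ?_⟩
      · simp [parBC, par_of_mem Q w.2]
      · simp [parBC, par_of_mem_ne Q w.2 (show j ≠ j + 1 by rcases zmod_two_cases j with rfl | rfl <;> decide)]
  conv_rhs => rw [← par_add_par _ x, map_add, map_add]
  rcases zmod_two_cases i with rfl | rfl
  · rw [(hmem 0 _ (par_mem _ 0 x)).1, show (0 : ZMod 2) = 1 + 1 from rfl, (hmem 1 _ (par_mem _ 1 x)).2, add_zero]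
  · rw [show parBC Q A 1 (cb Q A (par _ 0 x)) = 0 from (hmem 0 _ (par_mem _ 0 x)).2, (hmem 1 _ (par_mem _ 1 x)).1,
      zero_add]

/-- The vector projection on the base change. -/
noncomputable def nonVec : CliffordAlgebra Q →ₗ[R] CliffordAlgebra Q := LinearMap.id - (ι Q).comp (vecPart Q)

theorem mem_range_ι_iff (x : CliffordAlgebra (baseChangeForm A Q)) :
    x ∈ LinearMap.range (ι (baseChangeForm A Q)) ↔ (nonVec Q).baseChange A (cb Q A x) = 0 := by
  constructor
  · rintro ⟨m, rfl⟩
    rw [cb_ι]
    induction m using TensorProduct.induction_on with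
    | zero => simp
    | add a b ha hb => rw [map_add, map_add, ha, hb, add_zero]
    | tmul a w => simp [vecBC_tmul, nonVec, vecPart_ι]
  · intro h
    refine ⟨(vecPart Q).baseChange A (cb Q A x), (cb Q A).injective ?_⟩
    rw [cb_ι]
    have : ∀ z : A ⊗[R] CliffordAlgebra Q, vecBC Q A ((vecPart Q).baseChange A z) = z - (nonVec Q).baseChange A z := by
      intro z
      induction z using TensorProduct.induction_on with
      | zero => simp
      | add a b ha hb => simp only [map_add, ha, hb]; abel
      | tmul a w => simp [vecBC_tmul, nonVec, TensorProduct.tmul_sub]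
    rw [this, h, sub_zero]

/-- The star on the base change. -/
noncomputable def starL : CliffordAlgebra Q →ₗ[R] CliffordAlgebra Q :=
  reverse.comp involute.toLinearMap

theorem starL_apply (x : CliffordAlgebra Q) : starL Q x = star x := rfl

theorem starBC_mul (x y : A ⊗[R] CliffordAlgebra Q) :
    (starL Q).baseChange A (x * y) = (starL Q).baseChange A y * (starL Q).baseChange A x := by
  induction x using TensorProduct.induction_on with
  | zero => simp
  | add a b ha hb => rw [add_mul, map_add, map_add, mul_add, ha, hb]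
  | tmul a w =>
    induction y using TensorProduct.induction_on with
    | zero => simp
    | add c d hc hd => rw [mul_add, map_add, map_add, add_mul, hc, hd]
    | tmul c z => simp [starL_apply, mul_comm]

theorem cb_star (x : CliffordAlgebra (baseChangeForm A Q)) :
    cb Q A (star x) = (starL Q).baseChange A (cb Q A x) := by
  induction x using CliffordAlgebra.left_induction with
  | algebraMap a => simp [Algebra.TensorProduct.algebraMap_apply, starL_apply]
  | add a b ha hb => rw [star_add, map_add, map_add, map_add, ha, hb]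
  | ι_mul a m ha =>
    rw [star_mul, CliffordAlgebra.star_ι, map_mul, map_mul, map_neg, starBC_mul, ha, cb_ι]
    congr 1
    induction m using TensorProduct.induction_on with
    | zero => simp
    | add a b ha hb => rw [map_add, map_add, neg_add, ha, hb]
    | tmul a w => simp [vecBC_tmul, starL_apply, TensorProduct.tmul_neg]

variable {A} {B : Type u} [CommRing B] [Algebra R B] (φ : A →ₐ[R] B)

/-- The map of Clifford algebras over `φ`. -/
noncomputable def cbMap : CliffordAlgebra (baseChangeForm A Q) →+* CliffordAlgebra (baseChangeForm B Q) :=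
  ((cb Q B).symm.toAlgHom.toRingHom.comp
    (Algebra.TensorProduct.map φ (AlgHom.id R (CliffordAlgebra Q))).toRingHom).comp (cb Q A).toAlgHom.toRingHom

theorem cb_cbMap (x : CliffordAlgebra (baseChangeForm A Q)) :
    cb Q B (cbMap Q φ x) = Algebra.TensorProduct.map φ (AlgHom.id R (CliffordAlgebra Q)) (cb Q A x) :=
  (cb Q B).apply_symm_apply _

theorem cbMap_ι (v : A ⊗[R] M) :
    cbMap Q φ (ι _ v) = ι (baseChangeForm B Q) (LinearMap.rTensor M φ.toLinearMap v) := by
  apply (cb Q B).injective
  rw [cb_cbMap, cb_ι, cb_ι]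
  induction v using TensorProduct.induction_on with
  | zero => simp
  | add a b ha hb => simp only [map_add, ha, hb]
  | tmul a w => simp [vecBC_tmul]

theorem cbMap_algebraMap (a : A) : cbMap Q φ (algebraMap A _ a) = algebraMap B _ (φ a) := by
  apply (cb Q B).injective
  rw [cb_cbMap, AlgEquiv.commutes, AlgEquiv.commutes]
  simp [Algebra.TensorProduct.algebraMap_apply]

theorem polMat_baseChange {n : ℕ} (b : Module.Basis (Fin n) R M) :
    polMat (baseChangeForm A Q) (Algebra.TensorProduct.basis A b) = (polMat Q b).map (algebraMap R A) := by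
  ext i j
  simp [polMat, Algebra.TensorProduct.basis_apply, polar_baseChangeForm]

end Groth.Agent.CliffSmooth
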