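import Groth.Agent.CliffSmooth.BaseChange
import Groth.Agent.OrthSmooth.Rep
import Mathlib.LinearAlgebra.ExteriorAlgebra.Basis
import Mathlib.RingTheory.FinitePresentation
import Mathlib.RingTheory.Smooth.Basic

/-!
# The Clifford and Pin groups as affine schemes of solutions
-/

set_option autoImplicit false

universe u

namespace Groth.Agent.CliffSmooth

open CliffordAlgebra TensorProduct QuadGrp

variable {R : Type u} [CommRing R] {n : ℕ} (Q : QuadraticForm R (Fin n → R)) (pinFlag : Bool)

/-- A basis of the Clifford algebra. -/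
noncomputable def bC : Module.Basis (Finset (Fin n)) R (CliffordAlgebra Q) :=
  ((Pi.basisFun R (Fin n)).ExteriorAlgebra).map (toExt Q).symm

/-- Variables. -/
abbrev Var (n : ℕ) := (Finset (Fin n) ⊕ Finset (Fin n)) ⊕ Unit

/-- Indices of equations. -/
abbrev EqIdx (n : ℕ) := (Fin n ⊕ Fin n) ⊕ Fin 6

variable (A : Type u) [CommRing A] [Algebra R A]

/-- The equations. -/
noncomputable def eqs (u u' : A ⊗[R] CliffordAlgebra Q) (e : A) : EqIdx n → A ⊗[R] CliffordAlgebra Q
  | Sum.inl (Sum.inl i) => (nonVec Q).baseChange A (u * ((1 : A) ⊗ₜ ι Q (Pi.single i 1)) * u')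
  | Sum.inl (Sum.inr i) => (nonVec Q).baseChange A (u' * ((1 : A) ⊗ₜ ι Q (Pi.single i 1)) * u)
  | Sum.inr 0 => u * u' - 1
  | Sum.inr 1 => u' * u - 1
  | Sum.inr 2 => parBC Q A 1 (e • u)
  | Sum.inr 3 => parBC Q A 0 ((1 - e) • u)
  | Sum.inr 4 => (e * e - e) ⊗ₜ 1
  | Sum.inr 5 => if pinFlag then (starL Q).baseChange A u * u - 1 else 0

variable {A} {B : Type u} [CommRing B] [Algebra R B] (φ : A →ₐ[R] B)

/-- Change of rings. -/
noncomputable abbrev chg : A ⊗[R] CliffordAlgebra Q →ₐ[R] B ⊗[R] CliffordAlgebra Q :=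
  Algebra.TensorProduct.map φ (AlgHom.id R (CliffordAlgebra Q))

theorem chg_baseChange (f : CliffordAlgebra Q →ₗ[R] CliffordAlgebra Q) (x : A ⊗[R] CliffordAlgebra Q) :
    chg Q φ (f.baseChange A x) = f.baseChange B (chg Q φ x) := by
  induction x using TensorProduct.induction_on with
  | zero => simp
  | add a b ha hb => simp only [map_add, ha, hb]
  | tmul a w => simp

theorem chg_smul (a : A) (x : A ⊗[R] CliffordAlgebra Q) : chg Q φ (a • x) = φ a • chg Q φ x := by
  induction x using TensorProduct.induction_on with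
  | zero => simp
  | add a b ha hb => simp only [smul_add, map_add, ha, hb]
  | tmul c w => simp [TensorProduct.smul_tmul']

theorem chg_eqs (u u' : A ⊗[R] CliffordAlgebra Q) (e : A) (k : EqIdx n) :
    chg Q φ (eqs Q pinFlag A u u' e k) = eqs Q pinFlag B (chg Q φ u) (chg Q φ u') (φ e) k := by
  rcases k with (i | i) | k
  · simp only [eqs]; rw [chg_baseChange, map_mul (chg Q φ), map_mul (chg Q φ)]; simp
  · simp only [eqs]; rw [chg_baseChange, map_mul (chg Q φ), map_mul (chg Q φ)]; simp
  fin_cases k <;> simp only [eqs]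
  · simp
  · simp
  · rw [parBC, parBC, chg_baseChange, chg_smul]
  · rw [parBC, parBC, chg_baseChange, chg_smul, map_sub, map_one]
  · simp [TensorProduct.sub_tmul]
  · cases pinFlag <;> simp [chg_baseChange]

variable (A) in
/-- Solutions. -/
def Sol : Type u :=
  {p : ((A ⊗[R] CliffordAlgebra Q) × (A ⊗[R] CliffordAlgebra Q)) × A // ∀ k, eqs Q pinFlag A p.1.1 p.1.2 p.2 k = 0}

/-- The polynomial ring. -/
abbrev Pol (R : Type u) [CommRing R] (n : ℕ) := MvPolynomial (Var n) R

/-- The universal element. -/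
noncomputable def univU : Pol R n ⊗[R] CliffordAlgebra Q :=
  ∑ s, (MvPolynomial.X (Sum.inl (Sum.inl s)) : Pol R n) ⊗ₜ bC Q s

/-- The universal inverse. -/
noncomputable def univU' : Pol R n ⊗[R] CliffordAlgebra Q :=
  ∑ s, (MvPolynomial.X (Sum.inl (Sum.inr s)) : Pol R n) ⊗ₜ bC Q s

/-- The universal idempotent. -/
noncomputable def univE : Pol R n := MvPolynomial.X (Sum.inr ())

/-- The defining ideal. -/
noncomputable def rel : Ideal (Pol R n) :=
  Ideal.span (Set.range fun p : EqIdx n × Finset (Fin n) =>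
    (Algebra.TensorProduct.basis (Pol R n) (bC Q)).repr (eqs Q pinFlag (Pol R n) (univU Q) (univU' Q) univE p.1) p.2)

/-- The coordinate ring. -/
abbrev Coord : Type u := Pol R n ⧸ rel Q pinFlag

instance : Algebra.FinitePresentation R (Coord Q pinFlag) :=
  Algebra.FinitePresentation.quotient ⟨Set.Finite.toFinset (Set.finite_range _), by rw [Set.Finite.coe_toFinset]; rfl⟩

theorem repr_chg (x : A ⊗[R] CliffordAlgebra Q) (s : Finset (Fin n)) :
    (Algebra.TensorProduct.basis B (bC Q)).repr (chg Q φ x) s =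
      φ ((Algebra.TensorProduct.basis A (bC Q)).repr x s) := by
  induction x using TensorProduct.induction_on with
  | zero => simp
  | add a b ha hb => simp only [map_add, Finsupp.add_apply, ha, hb]
  | tmul a w => simp [Algebra.TensorProduct.basis_repr_tmul]

/-- The element with given coordinates. -/
noncomputable def ofCoord (c : Finset (Fin n) → A) : A ⊗[R] CliffordAlgebra Q := ∑ s, c s ⊗ₜ bC Q s

theorem repr_ofCoord (c : Finset (Fin n) → A) (s : Finset (Fin n)) :
    (Algebra.TensorProduct.basis A (bC Q)).repr (ofCoord Q c) s = c s := by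
  simp [ofCoord, Algebra.TensorProduct.basis_repr_tmul, Finsupp.single_apply]

theorem ofCoord_repr (x : A ⊗[R] CliffordAlgebra Q) :
    ofCoord Q (fun s => (Algebra.TensorProduct.basis A (bC Q)).repr x s) = x :=
  (Algebra.TensorProduct.basis A (bC Q)).repr.injective (Finsupp.ext fun s => repr_ofCoord Q _ s)

theorem chg_ofCoord (c : Finset (Fin n) → A) : chg Q φ (ofCoord Q c) = ofCoord Q (φ ∘ c) := by
  simp [ofCoord]

variable (A) in
/-- Points of the coordinate ring. -/
noncomputable def homEquiv : (Coord Q pinFlag →ₐ[R] A) ≃ Sol Q pinFlag A where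
  toFun f := ⟨((chg Q (f.comp (Ideal.Quotient.mkₐ R _)) (univU Q), chg Q (f.comp (Ideal.Quotient.mkₐ R _)) (univU' Q)),
      f (Ideal.Quotient.mk _ univE)), fun k => by
    change eqs Q pinFlag A _ _ ((f.comp (Ideal.Quotient.mkₐ R (rel Q pinFlag))) univE) k = 0
    rw [← chg_eqs]
    refine (Algebra.TensorProduct.basis A (bC Q)).repr.injective (Finsupp.ext fun s => ?_)
    rw [repr_chg, map_zero, Finsupp.zero_apply, AlgHom.comp_apply, Ideal.Quotient.mkₐ_eq_mk]
    refine (congrArg f (Ideal.Quotient.eq_zero_iff_mem.2 ?_)).trans (map_zero f)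
    exact Ideal.subset_span ⟨(k, s), rfl⟩⟩
  invFun p := Ideal.Quotient.liftₐ _ (MvPolynomial.aeval (Sum.elim (Sum.elim
      (fun s => (Algebra.TensorProduct.basis A (bC Q)).repr p.1.1.1 s)
      (fun s => (Algebra.TensorProduct.basis A (bC Q)).repr p.1.1.2 s)) fun _ => p.1.2)) (by
    intro x hx
    revert x
    change rel Q pinFlag ≤ RingHom.ker _
    rw [rel, Ideal.span_le]
    rintro _ ⟨⟨k, s⟩, rfl⟩
    rw [SetLike.mem_coe, RingHom.mem_ker]
    dsimp only
    rw [← repr_chg, chg_eqs]
    have h1 : ∀ (g : Finset (Fin n) → Var n) (y : A ⊗[R] CliffordAlgebra Q) (v : Var n → A),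
        (∀ s, v (g s) = (Algebra.TensorProduct.basis A (bC Q)).repr y s) →
        chg Q (MvPolynomial.aeval v) (∑ s, (MvPolynomial.X (g s) : Pol R n) ⊗ₜ bC Q s) = y := by
      intro g y v hv
      conv_rhs => rw [← ofCoord_repr Q y]
      simp [ofCoord, hv]
    rw [univU, univU', h1 _ p.1.1.1 _ (fun _ => rfl), h1 _ p.1.1.2 _ (fun _ => rfl), univE, MvPolynomial.aeval_X]
    simp [p.2 k])
  left_inv f := by
    refine Ideal.Quotient.algHom_ext R (MvPolynomial.algHom_ext fun v => ?_)
    simp only [AlgHom.comp_apply, Ideal.Quotient.mkₐ_eq_mk, Ideal.Quotient.liftₐ_apply, Ideal.Quotient.lift_mk,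
      RingHom.coe_coe, MvPolynomial.aeval_X]
    rcases v with (s | s) | ⟨⟩
    · simp only [Sum.elim_inl, univU]
      rw [show (∑ s, (MvPolynomial.X (Sum.inl (Sum.inl s)) : Pol R n) ⊗ₜ bC Q s) = ofCoord Q (fun s => MvPolynomial.X (Sum.inl (Sum.inl s))) from rfl,
        chg_ofCoord, repr_ofCoord]
      rfl
    · simp only [Sum.elim_inl, Sum.elim_inr, univU']
      rw [show (∑ s, (MvPolynomial.X (Sum.inl (Sum.inr s)) : Pol R n) ⊗ₜ bC Q s) = ofCoord Q (fun s => MvPolynomial.X (Sum.inl (Sum.inr s))) from rfl,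
        chg_ofCoord, repr_ofCoord]
      rfl
    · rfl
  right_inv p := by
    refine Subtype.ext (Prod.ext (Prod.ext ?_ ?_) ?_)
    · simp only [univU]
      conv_rhs => rw [← ofCoord_repr Q p.1.1.1]
      simp [ofCoord]
    · simp only [univU']
      conv_rhs => rw [← ofCoord_repr Q p.1.1.2]
      simp [ofCoord]
    · simp [univE]

theorem homEquiv_natural (f : Coord Q pinFlag →ₐ[R] A) :
    (homEquiv Q pinFlag B (φ.comp f)).1 = ((chg Q φ (homEquiv Q pinFlag A f).1.1.1, chg Q φ (homEquiv Q pinFlag A f).1.1.2),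
      φ (homEquiv Q pinFlag A f).1.2) := by
  have : ∀ x : Pol R n ⊗[R] CliffordAlgebra Q, chg Q ((φ.comp f).comp (Ideal.Quotient.mkₐ R (rel Q pinFlag))) x =
      chg Q φ (chg Q (f.comp (Ideal.Quotient.mkₐ R (rel Q pinFlag))) x) := by
    intro x
    induction x using TensorProduct.induction_on with
    | zero => simp
    | add a b ha hb => simp only [map_add, ha, hb]
    | tmul a w => simp
  exact Prod.ext (Prod.ext (this _) (this _)) rfl

end Groth.Agent.CliffSmooth
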