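import Groth.Agent.CliffSmooth.Good

/-!
# Even centre, normalisers and their infinitesimal lifting
-/

set_option autoImplicit false

universe u v

namespace Groth.Agent.CliffSmooth

open CliffordAlgebra
open scoped Pointwise

variable {R : Type u} [CommRing R] {M : Type v} [AddCommGroup M] [Module R M] [Module.Free R M]
  {Q : QuadraticForm R M} {n : ℕ} {b : Module.Basis (Fin n) R M}

theorem tail_two_eq_zero_of_contract (hb : Module.Basis (Fin n) R M) {x : ExteriorAlgebra R M}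
    (h : ∀ a a', contractLeft (Q := (0 : QuadraticForm R M)) a (contractLeft (Q := (0 : QuadraticForm R M)) a' x) = 0) :
    tail 2 x = 0 :=
  eq_zero_of_double_contract hb _ 0 (by rw [tail_tail]; rfl) fun a a' => by
    rw [contractLeft_tail, contractLeft_tail, h, map_zero]

/-- An even element commuting with all vectors is a scalar. -/
theorem even_central (hQ : GoodPolar Q b) {x : CliffordAlgebra Q} (hx : x ∈ evenOdd Q 0)
    (hc : ∀ v, ι Q v * x = x * ι Q v) : x ∈ (algebraMap R (CliffordAlgebra Q)).range := by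
  let 𝔞 : Ideal R :=
    { carrier := {r | r • x ∈ LinearMap.range (Algebra.linearMap R (CliffordAlgebra Q))}
      add_mem' := fun {r s} hr hs => by
        simp only [Set.mem_setOf_eq, add_smul] at *
        exact Submodule.add_mem _ hr hs
      zero_mem' := by simp only [Set.mem_setOf_eq, zero_smul]; exact Submodule.zero_mem _
      smul_mem' := fun s {r} hr => by
        simp only [Set.mem_setOf_eq, smul_eq_mul, mul_smul] at *
        exact Submodule.smul_mem _ _ hr }
  suffices (1 : R) ∈ 𝔞 by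
    change (1 : R) • x ∈ LinearMap.range (Algebra.linearMap R (CliffordAlgebra Q)) at this
    rw [one_smul] at this
    exact this
  refine hQ.mem_of_forall 𝔞 fun P => ⟨2, ?_⟩
  have hd : ∀ v, contractLeft (QuadraticMap.polarBilin Q v) x = 0 := fun v => by
    rw [← ι_mul_sub_involute_mul, involute_eq_of_mem_even hx, hc, sub_self]
  set z := toExt Q (P.D ^ 2 • x)
  have hz : z = z - tail 3 z := by
    have h2 : tail 2 z = 0 := tail_two_eq_zero_of_contract b fun a a' => by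
      simp only [z, map_smul]
      have := contract_contract_eq_zero P (contractLeft (Q := (0 : QuadraticForm R M)))
        (fun _ _ _ => contractLeft_comm _ _ _) (fun _ _ => contractLeft_contractLeft _ _) (toExt Q x)
        (fun j => by rw [← toExt_contractLeft, hd, map_zero]) a a'
      simpa only [map_smul] using this
    rw [show tail 3 z = tail 3 (tail 2 z) by rw [tail_tail]; rfl, h2, map_zero, sub_zero]
  have hz1 : tail 2 z = 0 := tail_two_eq_zero_of_contract b fun a a' => by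
    simp only [z, map_smul]
    have := contract_contract_eq_zero P (contractLeft (Q := (0 : QuadraticForm R M)))
      (fun _ _ _ => contractLeft_comm _ _ _) (fun _ _ => contractLeft_contractLeft _ _) (toExt Q x)
      (fun j => by rw [← toExt_contractLeft, hd, map_zero]) a a'
    simpa only [map_smul] using this
  -- the degree zero and one parts
  have hlow : ∀ y : ExteriorAlgebra R M, ∃ (r : R) (m : M),
      y - tail 2 y = algebraMap R _ r + ExteriorAlgebra.ι R m := by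
    intro y
    induction y using DirectSum.Decomposition.inductionOn (fun i : ℕ => ⋀[R]^i M) with
    | zero => exact ⟨0, 0, by simp⟩
    | add a c ha hc =>
      obtain ⟨r, m, h⟩ := ha
      obtain ⟨r', m', h'⟩ := hc
      exact ⟨r + r', m + m', by rw [map_add (tail 2), add_sub_add_comm, h, h', map_add, map_add]; abel⟩
    | @homogeneous i m =>
      obtain ⟨y, hy⟩ := m
      rw [tail_of_mem hy]
      rcases i with _ | _ | i
      · obtain ⟨r, rfl⟩ := mem_zero_iff.1 hy; exact ⟨r, 0, by simp⟩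
      · obtain ⟨a, rfl⟩ := mem_one_iff.1 hy; exact ⟨0, a, by simp⟩
      · exact ⟨0, 0, by simp⟩
  obtain ⟨r, m, hrm⟩ := hlow z
  rw [hz1, sub_zero] at hrm
  have hrm' : P.D ^ 2 • x = algebraMap R _ r + ι Q m := by
    apply (toExt Q).injective
    rw [map_add, toExt_algebraMap, toExt_ι]
    exact hrm
  refine ⟨r, ?_⟩
  change algebraMap R _ r = P.D ^ 2 • x
  have h0 := congrArg (par Q 0) hrm'
  rw [par_of_mem Q (Submodule.smul_mem _ _ hx), map_add, par_of_mem Q (SetLike.algebraMap_mem_graded _ _),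
    par_of_mem_ne Q (ι_mem_evenOdd_one Q m) (by decide), add_zero] at h0
  exact h0.symm

/-- The correction of a first order normalising defect. -/
theorem exists_corr (hQ : GoodPolar Q b) (I : Ideal R) (ε : M →ₗ[R] CliffordAlgebra Q)
    (hI : ∀ v, ε v ∈ I • (⊤ : Submodule R (CliffordAlgebra Q))) (hodd : ∀ v, ε v ∈ evenOdd Q 1)
    (hs : ∀ v, ∃ r : R, ι Q v * ε v + ε v * ι Q v = algebraMap R _ r) :
    ∃ y ∈ I • (⊤ : Submodule R (CliffordAlgebra Q)), y ∈ evenOdd Q 0 ∧
      ∀ v, ε v + (y * ι Q v - ι Q v * y) ∈ LinearMap.range (ι Q) := by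
  let d := fun v => contractLeft (Q := Q) (QuadraticMap.polarBilin Q v)
  obtain ⟨y₀, hy₀, hy⟩ := exists_contract_eq hQ I ((tail 3).comp ((toExt Q).toLinearMap.comp ε))
    (fun v => map_mem_smul (tail 3) I (map_mem_smul (toExt Q).toLinearMap I (hI v))) (fun v => by simp [tail_tail]) (fun v => by
      rw [LinearMap.comp_apply, contractLeft_tail, LinearMap.comp_apply, LinearEquiv.coe_coe, ← toExt_contractLeft,
        ← ι_mul_sub_involute_mul, involute_eq_of_mem_odd (hodd v)]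
      obtain ⟨r, hr⟩ := hs v
      rw [neg_mul, sub_neg_eq_add, hr, toExt_algebraMap, tail_algebraMap])
  set y₁ := (toExt Q).symm y₀
  have hy₁ : y₁ ∈ I • (⊤ : Submodule R (CliffordAlgebra Q)) := map_mem_smul (toExt Q).symm.toLinearMap I hy₀
  refine ⟨par Q 0 y₁, map_mem_smul _ I hy₁, par_mem Q 0 _, fun v => ?_⟩
  have h1 : d v (par Q 0 y₁) ∈ evenOdd Q 1 := contractLeft_mem_evenOdd Q _ 0 (par_mem Q 0 _)
  have h2 : d v (par Q 1 y₁) ∈ evenOdd Q 0 := contractLeft_mem_evenOdd Q _ 1 (par_mem Q 1 _)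
  have h3 : ε v - d v y₁ ∈ evenOdd Q 0 ⊔ LinearMap.range (ι Q) := by
    have := toExt_symm_mem_of_lt_three Q (toExt Q (ε v - d v y₁))
    have e : tail 3 (toExt Q (ε v - d v y₁)) = 0 := by
      rw [map_sub, toExt_contractLeft, LinearEquiv.apply_symm_apply, map_sub, hy]
      exact sub_self _
    rwa [e, sub_zero, LinearEquiv.symm_apply_apply] at this
  obtain ⟨a, ha, _, ⟨m, rfl⟩, hsum⟩ := Submodule.mem_sup.1 h3
  refine ⟨m, ?_⟩
  have h4 := congrArg (par Q 1) hsum
  rw [map_add, par_of_mem_ne Q ha (by decide), par_of_mem Q (ι_mem_evenOdd_one Q m), zero_add, map_sub,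
    par_of_mem Q (hodd v)] at h4
  rw [h4, show d v y₁ = d v (par Q 0 y₁) + d v (par Q 1 y₁) from by rw [← map_add, par_add_par], map_add,
    par_of_mem Q h1, par_of_mem_ne Q h2 (by decide), add_zero, show d v (par Q 0 y₁) = _ from rfl,
    ← ι_mul_sub_involute_mul, involute_eq_of_mem_even (par_mem Q 0 y₁)]
  abel

theorem mul_eq_zero_of_mem {I : Ideal R} (hI : I ^ 2 = ⊥) {A : Type*} [Ring A] [Algebra R A] {x y : A}
    (hx : x ∈ I • (⊤ : Submodule R A)) (hy : y ∈ I • (⊤ : Submodule R A)) : x * y = 0 := by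
  refine Submodule.smul_induction_on hx (fun r hr a _ => ?_) (fun a a' ha ha' => by rw [add_mul, ha, ha', add_zero])
  refine Submodule.smul_induction_on hy (fun s hs c _ => ?_) (fun c c' hc hc' => by rw [mul_add, hc, hc', add_zero])
  have h : r * s ∈ I ^ 2 := pow_two I ▸ Ideal.mul_mem_mul hr hs
  rw [hI, Ideal.mem_bot] at h
  rw [smul_mul_smul_comm, h, zero_smul]

theorem map_eq_zero_of_mem {I : Ideal R} (hI : I ^ 2 = ⊥) {N N' : Type*} [AddCommGroup N] [Module R N]
    [AddCommGroup N'] [Module R N'] (f : N →ₗ[R] N') (hf : ∀ x, f x ∈ I • (⊤ : Submodule R N')) {x : N}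
    (hx : x ∈ I • (⊤ : Submodule R N)) : f x = 0 := by
  refine Submodule.smul_induction_on hx (fun r hr a _ => ?_) (fun a a' ha ha' => by rw [map_add, ha, ha', add_zero])
  rw [map_smul]
  refine Submodule.smul_induction_on (hf a) (fun s hs c _ => ?_) (fun c c' hc hc' => by rw [smul_add, hc, hc', add_zero])
  have h : r * s ∈ I ^ 2 := pow_two I ▸ Ideal.mul_mem_mul hr hs
  rw [hI, Ideal.mem_bot] at h
  rw [smul_smul, h, zero_smul]

omit [Module.Free R M] in
theorem mem_GPin'_iff (u : (CliffordAlgebra Q)ˣ) : u ∈ QuadGrp.GPin' Q ↔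
    (∀ v, (u : CliffordAlgebra Q) * ι Q v * ↑u⁻¹ ∈ LinearMap.range (ι Q)) ∧
      ∀ v, (↑u⁻¹ : CliffordAlgebra Q) * ι Q v * u ∈ LinearMap.range (ι Q) := by
  rw [QuadGrp.mem_GPin']
  constructor
  · intro h
    refine ⟨fun v => ?_, fun v => ?_⟩
    · rw [← h]
      exact ⟨ι Q v, LinearMap.mem_range_self _ v, rfl⟩
    · have h' : ι Q v ∈ ConjAct.toConjAct u • LinearMap.range (ι Q) := h.symm ▸ LinearMap.mem_range_self _ v
      obtain ⟨_, ⟨w, rfl⟩, hw⟩ := h'
      change ConjAct.toConjAct u • ι Q w = ι Q v at hw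
      rw [ConjAct.units_smul_def, ConjAct.ofConjAct_toConjAct] at hw
      exact ⟨w, by rw [← hw]; simp [mul_assoc]⟩
  · rintro ⟨h1, h2⟩
    refine le_antisymm ?_ ?_
    · rintro _ ⟨_, ⟨v, rfl⟩, rfl⟩
      exact h1 v
    · rintro _ ⟨v, rfl⟩
      obtain ⟨w, hw⟩ := h2 v
      refine ⟨ι Q w, LinearMap.mem_range_self _ w, ?_⟩
      change (u : CliffordAlgebra Q) * ι Q w * ↑u⁻¹ = ι Q v
      rw [hw]; simp [mul_assoc]

omit [Module.Free R M] in
theorem conj_mem_evenOdd_one {u : (CliffordAlgebra Q)ˣ} (hu : QuadGrp.IsLocHomog Q (u : CliffordAlgebra Q)) (v : M) :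
    (u : CliffordAlgebra Q) * ι Q v * ↑u⁻¹ ∈ evenOdd Q 1 := by
  obtain ⟨e, he, h0, h1⟩ := hu
  obtain ⟨k0, k1⟩ := QuadGrp.isLocHomog_inv_aux Q u e h0 h1
  have a : (e • (u : CliffordAlgebra Q)) * ι Q v * (e • (↑u⁻¹ : CliffordAlgebra Q)) ∈ evenOdd Q (0 + 1 + 0) :=
    SetLike.mul_mem_graded (SetLike.mul_mem_graded h0 (ι_mem_evenOdd_one Q v)) k0
  have c : ((1 - e) • (u : CliffordAlgebra Q)) * ι Q v * ((1 - e) • (↑u⁻¹ : CliffordAlgebra Q)) ∈ evenOdd Q (1 + 1 + 1) :=
    SetLike.mul_mem_graded (SetLike.mul_mem_graded h1 (ι_mem_evenOdd_one Q v)) k1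
  have := Submodule.add_mem _ a (show _ ∈ evenOdd Q (0 + 1 + 0) from c)
  simp only [smul_mul_assoc, mul_smul_comm, smul_smul, ← add_smul] at this
  rwa [show e * e + (1 - e) * (1 - e) = 1 by linear_combination 2 * he.eq, one_smul] at this

/-- Clifford group points lift through square zero ideals. -/
theorem exists_lift (hQ : GoodPolar Q b) (I : Ideal R) (hI : I ^ 2 = ⊥) (u₁ u₁' : CliffordAlgebra Q) (e₁ : R)
    (h1 : u₁ * u₁' - 1 ∈ I • (⊤ : Submodule R (CliffordAlgebra Q)))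
    (h2 : u₁' * u₁ - 1 ∈ I • (⊤ : Submodule R (CliffordAlgebra Q)))
    (h3 : ∀ v, ∃ w, u₁ * ι Q v * u₁' - ι Q w ∈ I • (⊤ : Submodule R (CliffordAlgebra Q)))
    (h4 : ∀ v, ∃ w, u₁' * ι Q v * u₁ - ι Q w ∈ I • (⊤ : Submodule R (CliffordAlgebra Q)))
    (he : e₁ * e₁ - e₁ ∈ I) (h5 : e₁ • par Q 1 u₁ ∈ I • (⊤ : Submodule R (CliffordAlgebra Q)))
    (h6 : (1 - e₁) • par Q 0 u₁ ∈ I • (⊤ : Submodule R (CliffordAlgebra Q))) :
    ∃ (u : (CliffordAlgebra Q)ˣ) (e : R), u ∈ QuadGrp.GPin' Q ∧ IsIdempotentElem e ∧ e - e₁ ∈ I ∧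
      e • (u : CliffordAlgebra Q) ∈ evenOdd Q 0 ∧ (1 - e) • (u : CliffordAlgebra Q) ∈ evenOdd Q 1 ∧
      (u : CliffordAlgebra Q) - u₁ ∈ I • (⊤ : Submodule R (CliffordAlgebra Q)) ∧
      (↑u⁻¹ : CliffordAlgebra Q) - u₁' ∈ I • (⊤ : Submodule R (CliffordAlgebra Q)) := by
  set J : Submodule R (CliffordAlgebra Q) := I • ⊤
  have hml : ∀ (a : CliffordAlgebra Q) {x}, x ∈ J → a * x ∈ J := fun a _ hx => map_mem_smul (LinearMap.mulLeft R a) I hx
  have hmr : ∀ (a : CliffordAlgebra Q) {x}, x ∈ J → x * a ∈ J := fun a _ hx => map_mem_smul (LinearMap.mulRight R a) I hx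
  have hsm : ∀ {r : R}, r ∈ I → ∀ a : CliffordAlgebra Q, r • a ∈ J := fun hr a =>
    Submodule.smul_mem_smul hr Submodule.mem_top
  -- the idempotent
  let e := 3 * e₁ ^ 2 - 2 * e₁ ^ 3
  have hsq : (e₁ * e₁ - e₁) ^ 2 = 0 := by
    have h : (e₁ * e₁ - e₁) ^ 2 ∈ I ^ 2 := Ideal.pow_mem_pow he 2
    rwa [hI, Ideal.mem_bot] at h
  have hee : IsIdempotentElem e := by
    change e * e = e
    linear_combination (4 * e₁ ^ 2 - 4 * e₁ - 3) * hsq
  have hed : e - e₁ ∈ I := by
    rw [show e - e₁ = (e₁ * e₁ - e₁) * (1 - 2 * e₁) by simp only [e]; ring]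
    exact I.mul_mem_right _ he
  set u₀ : CliffordAlgebra Q := e • par Q 0 u₁ + (1 - e) • par Q 1 u₁
  have hu₀ : u₀ - u₁ ∈ J := by
    have := Submodule.sub_mem _ (Submodule.sub_mem _ (hsm hed (par Q 0 u₁ - par Q 1 u₁)) h6) h5
    convert this using 1
    simp only [u₀, smul_sub, sub_smul, one_smul]
    conv_lhs => arg 2; rw [← par_add_par Q u₁]
    abel
  have h1' : u₀ * u₁' - 1 ∈ J := by
    have := Submodule.add_mem _ (hmr u₁' hu₀) h1
    rwa [sub_mul, sub_add_sub_cancel] at this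
  have h2' : u₁' * u₀ - 1 ∈ J := by
    have := Submodule.add_mem _ (hml u₁' hu₀) h2
    rwa [mul_sub, sub_add_sub_cancel] at this
  have hinv : ∀ {x : CliffordAlgebra Q}, x - 1 ∈ J → x * (2 - x) = 1 ∧ (2 - x) * x = 1 := fun {x} hx => by
    have h := mul_eq_zero_of_mem hI hx hx
    constructor
    · calc x * (2 - x) = 1 - (x - 1) * (x - 1) := by noncomm_ring
        _ = 1 := by rw [h, sub_zero]
    · calc (2 - x) * x = 1 - (x - 1) * (x - 1) := by noncomm_ring
        _ = 1 := by rw [h, sub_zero]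
  have hr := (hinv h1').1
  have hl := (hinv h2').2
  rw [mul_assoc] at hr
  rw [← mul_assoc] at hl
  let u : (CliffordAlgebra Q)ˣ := ⟨u₀, u₁' * (2 - u₀ * u₁'), hr,
    left_inv_eq_right_inv hl hr ▸ hl⟩
  have hu' : (↑u⁻¹ : CliffordAlgebra Q) - u₁' ∈ J := by
    change u₁' * (2 - u₀ * u₁') - u₁' ∈ J
    rw [show u₁' * (2 - u₀ * u₁') - u₁' = -(u₁' * (u₀ * u₁' - 1)) by noncomm_ring]
    exact Submodule.neg_mem _ (hml _ h1')
  have he0 : e • (u : CliffordAlgebra Q) ∈ evenOdd Q 0 := by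
    change e • u₀ ∈ _
    rw [show e • u₀ = e • par Q 0 u₁ by
      simp only [u₀, smul_add, smul_smul, hee.eq, mul_sub, mul_one, sub_self, zero_smul, add_zero]]
    exact Submodule.smul_mem _ _ (par_mem Q 0 _)
  have he1 : (1 - e) • (u : CliffordAlgebra Q) ∈ evenOdd Q 1 := by
    change (1 - e) • u₀ ∈ _
    rw [show (1 - e) • u₀ = (1 - e) • par Q 1 u₁ by
      simp only [u₀, smul_add, smul_smul, hee.one_sub.eq, sub_mul, one_mul, hee.eq, sub_self, zero_smul, zero_add]]
    exact Submodule.smul_mem _ _ (par_mem Q 1 _)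
  -- the defect
  let c : M →ₗ[R] CliffordAlgebra Q :=
    ((LinearMap.mulRight R (↑u⁻¹ : CliffordAlgebra Q)).comp (LinearMap.mulLeft R (u : CliffordAlgebra Q))).comp (ι Q)
  have hc : ∀ v, c v = (u : CliffordAlgebra Q) * ι Q v * ↑u⁻¹ := fun v => rfl
  let g : M →ₗ[R] M := (vecPart Q).comp c
  let j : M →ₗ[R] CliffordAlgebra Q := c - (ι Q).comp g
  have hj : ∀ v, j v ∈ J := by
    intro v
    obtain ⟨w, hw⟩ := h3 v
    have hcw : c v - ι Q w ∈ J := by
      have := Submodule.add_mem _ (Submodule.add_mem _ (hml ((u : CliffordAlgebra Q) * ι Q v) hu')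
        (hmr u₁' (hmr (ι Q v) hu₀))) hw
      convert this using 1
      rw [hc]; change u₀ * _ * _ - _ = _
      change _ = u₀ * ι Q v * (↑u⁻¹ - u₁') + _ + _
      noncomm_ring
    have := Submodule.sub_mem _ hcw (map_mem_smul ((ι Q).comp (vecPart Q)) I hcw)
    convert this using 1
    simp [j, g, vecPart_ι, map_sub]
  have hcq : ∀ v, c v * c v = algebraMap R _ (Q v) := fun v => by
    rw [hc, show (u : CliffordAlgebra Q) * ι Q v * ↑u⁻¹ * ((u : CliffordAlgebra Q) * ι Q v * ↑u⁻¹) =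
      u * (ι Q v * (↑u⁻¹ * u) * ι Q v) * ↑u⁻¹ by noncomm_ring, Units.inv_mul, mul_one, ι_sq_scalar,
      ← Algebra.commutes, mul_assoc, Units.mul_inv, mul_one]
  let ε : M →ₗ[R] CliffordAlgebra Q :=
    ((LinearMap.mulRight R (u : CliffordAlgebra Q)).comp (LinearMap.mulLeft R (↑u⁻¹ : CliffordAlgebra Q))).comp j
  have hε : ∀ v, ε v = (↑u⁻¹ : CliffordAlgebra Q) * j v * u := fun v => rfl
  have hcodd : ∀ v, c v ∈ evenOdd Q 1 := conj_mem_evenOdd_one ⟨e, hee, he0, he1⟩
  have hεodd : ∀ v, ε v ∈ evenOdd Q 1 := by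
    intro v
    have hjv : j v ∈ evenOdd Q 1 := Submodule.sub_mem _ (hcodd v) (ι_mem_evenOdd_one Q _)
    obtain ⟨k0, k1⟩ := QuadGrp.isLocHomog_inv_aux Q u e he0 he1
    have a : (e • (↑u⁻¹ : CliffordAlgebra Q)) * j v * (e • (u : CliffordAlgebra Q)) ∈ evenOdd Q (0 + 1 + 0) :=
      SetLike.mul_mem_graded (SetLike.mul_mem_graded k0 hjv) he0
    have b' : ((1 - e) • (↑u⁻¹ : CliffordAlgebra Q)) * j v * ((1 - e) • (u : CliffordAlgebra Q)) ∈ evenOdd Q (1 + 1 + 1) :=
      SetLike.mul_mem_graded (SetLike.mul_mem_graded k1 hjv) he1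
    have := Submodule.add_mem _ a (show _ ∈ evenOdd Q (0 + 1 + 0) from b')
    simp only [smul_mul_assoc, mul_smul_comm, smul_smul, ← add_smul] at this
    rwa [show e * e + (1 - e) * (1 - e) = 1 by linear_combination 2 * hee.eq, one_smul] at this
  obtain ⟨y, hyJ, hy0, hy⟩ := exists_corr hQ I ε (fun v => hmr _ (hml _ (hj v))) hεodd fun v => by
    refine ⟨Q v - Q (g v), ?_⟩
    have hjj := mul_eq_zero_of_mem hI (hj v) (hj v)
    have hs : c v * j v + j v * c v = algebraMap R _ (Q v - Q (g v)) := by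
      rw [map_sub, ← hcq, ← ι_sq_scalar, show ι Q (g v) = c v - j v by simp [j]]
      simp only [mul_sub, sub_mul, hjj, sub_zero]
      abel
    calc ι Q v * ε v + ε v * ι Q v = ↑u⁻¹ * (c v * j v + j v * c v) * u := by
          simp [hε, hc, mul_assoc, mul_add, add_mul]
      _ = _ := by rw [hs, ← Algebra.commutes, mul_assoc, Units.inv_mul, mul_one]
  have hyy : y * y = 0 := mul_eq_zero_of_mem hI hyJ hyJ
  let uy : (CliffordAlgebra Q)ˣ := ⟨1 + y, 1 - y,
    by rw [show (1 + y) * (1 - y) = 1 - y * y by noncomm_ring, hyy, sub_zero],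
    by rw [show (1 - y) * (1 + y) = 1 - y * y by noncomm_ring, hyy, sub_zero]⟩
  let w : M →ₗ[R] M := (vecPart Q).comp (ε + ((LinearMap.mulLeft R y).comp (ι Q) - (LinearMap.mulRight R y).comp (ι Q)))
  have hw : ∀ v, ε v + (y * ι Q v - ι Q v * y) = ι Q (w v) := fun v => by
    obtain ⟨m, hm⟩ := hy v
    simp only [w, LinearMap.comp_apply, LinearMap.add_apply, LinearMap.sub_apply, LinearMap.mulLeft_apply,
      LinearMap.mulRight_apply]
    rw [← hm, vecPart_ι]
  have hwI : ∀ v, w v ∈ I • (⊤ : Submodule R M) := fun v => by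
    refine map_mem_smul (vecPart Q) I ?_
    exact Submodule.add_mem _ (hmr _ (hml _ (hj v))) (Submodule.sub_mem _ (hmr (ι Q v) hyJ) (hml (ι Q v) hyJ))
  have hG : ∀ v, (↑(u * uy) : CliffordAlgebra Q) * ι Q v * ↑(u * uy)⁻¹ = ι Q (g v + g (w v)) := by
    intro v
    have h0 : j (w v) = 0 := map_eq_zero_of_mem hI j hj (hwI v)
    have hyvy : y * ι Q v * y = 0 := mul_eq_zero_of_mem hI (hmr _ hyJ) hyJ
    have hgc : ∀ x, ι Q (g x) = c x - j x := fun x => by simp [j]
    rw [mul_inv_rev, Units.val_mul, Units.val_mul, map_add, hgc, hgc, h0, sub_zero]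
    change ↑u * (1 + y) * ι Q v * ((1 - y) * ↑u⁻¹) = _
    rw [hc (w v), ← hw]
    have : (u : CliffordAlgebra Q) * ε v * ↑u⁻¹ = j v := by simp [hε, mul_assoc]
    rw [hc v, ← this]
    have key : (1 + y) * ι Q v * (1 - y) = ι Q v + (y * ι Q v - ι Q v * y) := by
      calc (1 + y) * ι Q v * (1 - y) = ι Q v + (y * ι Q v - ι Q v * y) - y * ι Q v * y := by noncomm_ring
        _ = _ := by rw [hyvy, sub_zero]
    calc (u : CliffordAlgebra Q) * (1 + y) * ι Q v * ((1 - y) * ↑u⁻¹)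
        = ↑u * ((1 + y) * ι Q v * (1 - y)) * ↑u⁻¹ := by noncomm_ring
      _ = _ := by rw [key]; noncomm_ring
  -- surjectivity of the induced endomorphism
  have hfirst : ((↑(u * uy) : CliffordAlgebra Q) - u₁ ∈ J) ∧ (↑(u * uy)⁻¹ : CliffordAlgebra Q) - u₁' ∈ J := by
    constructor
    · rw [Units.val_mul, show (u : CliffordAlgebra Q) * ↑uy - u₁ = (u₀ - u₁) + u₀ * y by
        change u₀ * (1 + y) - u₁ = _
        noncomm_ring]
      exact Submodule.add_mem _ hu₀ (hml _ hyJ)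
    · rw [mul_inv_rev, Units.val_mul]
      change (1 - y) * (↑u⁻¹ : CliffordAlgebra Q) - u₁' ∈ J
      rw [show (1 - y) * (↑u⁻¹ : CliffordAlgebra Q) - u₁' = (↑u⁻¹ - u₁') - y * ↑u⁻¹ by noncomm_ring]
      exact Submodule.sub_mem _ hu' (hmr _ hyJ)
  let G : M →ₗ[R] M := g + g.comp w
  have hsurj : ∀ v, v ∈ LinearMap.range G := by
    have step : ∀ v, ∃ a, G a - v ∈ I • (⊤ : Submodule R M) := by
      intro v
      obtain ⟨a, ha⟩ := h4 v
      refine ⟨a, ?_⟩
      suffices ι Q (G a) - ι Q v ∈ J by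
        have := map_mem_smul (vecPart Q) I this
        rwa [map_sub, vecPart_ι, vecPart_ι] at this
      rw [show G a = g a + g (w a) from rfl, ← hG]
      set U := (↑(u * uy) : CliffordAlgebra Q)
      set U' := (↑(u * uy)⁻¹ : CliffordAlgebra Q)
      have hUU : U * U' = 1 := Units.mul_inv _
      have : U * ι Q a * U' - ι Q v = -(U * (U' * ι Q v * U - ι Q a) * U') := by
        simp only [mul_sub, sub_mul, ← mul_assoc, hUU, one_mul, mul_assoc (ι Q v), mul_one]
        abel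
      rw [this]
      refine Submodule.neg_mem _ (hmr _ (hml _ ?_))
      have := Submodule.add_mem _ (Submodule.add_mem _ (hml (U' * ι Q v) hfirst.1)
        (hmr u₁ (hmr (ι Q v) hfirst.2))) ha
      convert this using 1
      noncomm_ring
    intro v
    obtain ⟨a, ha⟩ := step v
    have : ∀ x ∈ I • (⊤ : Submodule R M), x ∈ LinearMap.range G := by
      intro x hx
      refine Submodule.smul_induction_on hx (fun r hr m _ => ?_) (fun _ _ => Submodule.add_mem _)
      obtain ⟨a', ha'⟩ := step m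
      refine ⟨r • a', ?_⟩
      rw [map_smul, ← sub_eq_zero, ← smul_sub]
      exact map_eq_zero_of_mem hI (LinearMap.lsmul R M r) (fun z => Submodule.smul_mem_smul hr Submodule.mem_top) ha'
    have h := Submodule.sub_mem _ (LinearMap.mem_range_self G a) (this _ ha)
    rwa [sub_sub_cancel] at h
  refine ⟨u * uy, e, (mem_GPin'_iff _).2 ⟨fun v => ⟨_, (hG v).symm⟩, fun v => ?_⟩, hee, hed, ?_, ?_, hfirst.1, hfirst.2⟩
  · obtain ⟨a, ha⟩ := hsurj v
    refine ⟨a, ?_⟩
    conv_rhs => rw [← ha, show G a = g a + g (w a) from rfl, ← hG]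
    simp [mul_assoc]
  · rw [Units.val_mul, ← smul_mul_assoc]
    simpa using SetLike.mul_mem_graded he0
      (show (1 + y) ∈ evenOdd Q 0 from Submodule.add_mem _ (SetLike.one_mem_graded _) hy0)
  · rw [Units.val_mul, ← smul_mul_assoc]
    simpa using SetLike.mul_mem_graded he1
      (show (1 + y) ∈ evenOdd Q 0 from Submodule.add_mem _ (SetLike.one_mem_graded _) hy0)

end Groth.Agent.CliffSmooth
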