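import Groth.Agent.CliffSmooth.EvenSplit
import Mathlib.RingTheory.Etale.StandardEtale
import Mathlib.RingTheory.Etale.Pi
import Mathlib.Algebra.Group.Pi.Units
import Mathlib.RingTheory.RingHom.Etale

/-!
# Regular forms of even rank split étale locally
-/

set_option autoImplicit false

universe u

namespace Groth.Agent.CliffSmooth

open CliffordAlgebra TensorProduct QuadGrp

variable {R : Type u} [CommRing R] {M : Type u} [AddCommGroup M] [Module R M] [Module.Free R M]
  {Q : QuadraticForm R M}

/-- A ring is an étale cover. -/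
def IsEtCover (A : Type u) [CommRing A] [Algebra R A] : Prop :=
  Module.FaithfullyFlat R A ∧ Algebra.Etale R A

theorem isEtCover_refl : IsEtCover (R := R) R := ⟨inferInstance, inferInstance⟩

theorem exists_et_unit {A : Type u} [CommRing A] [Algebra R A] (hA : IsEtCover (R := R) A) (σ : Type) [Finite σ]
    (r : MvPolynomial σ A)
    (h : ∀ p : Ideal A, p.IsPrime → ∀ (K : Type u) [Field K] (ψ : A →+* K), RingHom.ker ψ = p →
      ∃ x : σ → K, MvPolynomial.eval₂ ψ x r ≠ 0) :
    ∃ (A' : Type u) (_ : CommRing A') (_ : Algebra R A') (φ : A →ₐ[R] A') (x : σ → A'),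
      IsEtCover (R := R) A' ∧ IsUnit (MvPolynomial.eval₂ φ.toRingHom x r) := by
  classical
  obtain ⟨hff, het⟩ := hA
  have hloc : ∀ p : PrimeSpectrum A, ∃ g : A, g ∉ p.asIdeal ∧ ∃ x : σ → Localization.Away g,
      IsUnit (MvPolynomial.eval₂ (algebraMap A (Localization.Away g)) x r) := by
    intro p
    cases nonempty_fintype σ
    let K := p.asIdeal.ResidueField
    obtain ⟨x, hx⟩ := h p.asIdeal p.isPrime K (algebraMap A K) (Ideal.ker_algebraMap_residueField _)
    have hfr : ∀ s, ∃ (a d : A), d ∉ p.asIdeal ∧ algebraMap A K d * x s = algebraMap A K a := by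
      intro s
      obtain ⟨y, hy⟩ := IsLocalRing.residue_surjective (x s)
      obtain ⟨⟨a, d⟩, had⟩ := IsLocalization.surj p.asIdeal.primeCompl y
      refine ⟨a, d, d.2, ?_⟩
      rw [← hy]
      change IsLocalRing.residue _ (algebraMap A _ (d : A)) * IsLocalRing.residue _ y =
        IsLocalRing.residue _ (algebraMap A _ a)
      rw [← map_mul, mul_comm, had]
    choose a d hd hx' using hfr
    let D := ∏ s, d s
    have hD : D ∉ p.asIdeal := fun h0 => by
      haveI := p.isPrime
      obtain ⟨s, -, hs⟩ := Ideal.IsPrime.prod_mem_iff.1 h0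
      exact hd s hs
    let B := Localization.Away D
    have hu : ∀ s, IsUnit (algebraMap A B (d s)) := fun s =>
      isUnit_of_dvd_unit (map_dvd (algebraMap A B) (Finset.dvd_prod_of_mem d (Finset.mem_univ s)))
        (IsLocalization.Away.algebraMap_isUnit D)
    let xB : σ → B := fun s => algebraMap A B (a s) * ↑(hu s).unit⁻¹
    obtain ⟨⟨num, den⟩, hnd⟩ := IsLocalization.surj (Submonoid.powers D) (MvPolynomial.eval₂ (algebraMap A B) xB r)
    have hDK : algebraMap A K D ≠ 0 := fun h0 => hD (Ideal.algebraMap_residueField_eq_zero.1 h0)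
    let π : B →+* K := IsLocalization.Away.lift (S := B) D (g := algebraMap A K) (isUnit_iff_ne_zero.2 hDK)
    have hπ : ∀ c, π (algebraMap A B c) = algebraMap A K c := fun c => IsLocalization.Away.lift_eq _ _ _
    have hπx : ∀ s, π (xB s) = x s := by
      intro s
      have hds : algebraMap A K (d s) ≠ 0 := fun h0 => hd s (Ideal.algebraMap_residueField_eq_zero.1 h0)
      apply mul_left_cancel₀ hds
      rw [hx', ← hπ (d s), ← map_mul, mul_left_comm, IsUnit.mul_val_inv, mul_one, hπ]
    have hev : π (MvPolynomial.eval₂ (algebraMap A B) xB r) = MvPolynomial.eval₂ (algebraMap A K) x r := by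
      refine RingHom.congr_fun (f := π.comp (MvPolynomial.eval₂Hom (algebraMap A B) xB))
        (g := MvPolynomial.eval₂Hom (algebraMap A K) x) (MvPolynomial.ringHom_ext ?_ ?_) r
      · intro c; simp [hπ]
      · intro s; simp [hπx]
    have hnum : num ∉ p.asIdeal := by
      intro h0
      apply hx
      have := congrArg π hnd
      rw [map_mul, hev, hπ, hπ, Ideal.algebraMap_residueField_eq_zero.2 h0] at this
      refine (mul_eq_zero.1 this).resolve_right fun h1 => ?_
      obtain ⟨k, hk⟩ := den.2
      rw [← hk, map_pow] at h1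
      exact hDK (pow_eq_zero_iff'.1 h1).1
    refine ⟨D * num, fun h0 => ((p.isPrime.mem_or_mem h0).elim hD hnum), ?_⟩
    let B' := Localization.Away (D * num)
    have hDu : IsUnit (algebraMap A B' D) :=
      isUnit_of_dvd_unit (map_dvd (algebraMap A B') (dvd_mul_right D num))
        (IsLocalization.Away.algebraMap_isUnit (D * num))
    let j : B →+* B' := IsLocalization.Away.lift (S := B) D hDu
    have hj : ∀ c, j (algebraMap A B c) = algebraMap A B' c := fun c => IsLocalization.Away.lift_eq _ _ _
    refine ⟨fun s => j (xB s), ?_⟩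
    rw [show MvPolynomial.eval₂ (algebraMap A B') (fun s => j (xB s)) r =
        j (MvPolynomial.eval₂ (algebraMap A B) xB r) from (RingHom.congr_fun
          (f := j.comp (MvPolynomial.eval₂Hom (algebraMap A B) xB))
          (g := MvPolynomial.eval₂Hom (algebraMap A B') fun s => j (xB s))
          (MvPolynomial.ringHom_ext (fun c => by simp [hj]) fun s => by simp) r).symm]
    refine isUnit_of_mul_isUnit_left (y := j (algebraMap A B den)) ?_
    rw [← map_mul, hnd, hj]
    exact isUnit_of_dvd_unit (map_dvd (algebraMap A B') (dvd_mul_left num D))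
      (IsLocalization.Away.algebraMap_isUnit (D * num))
  choose g hg x hx using hloc
  have htop : Ideal.span (Set.range g) = ⊤ := by
    by_contra hne
    obtain ⟨m, hm, hle⟩ := Ideal.exists_le_maximal _ hne
    exact hg ⟨m, hm.isPrime⟩ (hle (Ideal.subset_span ⟨⟨m, hm.isPrime⟩, rfl⟩))
  have h1 : (1 : A) ∈ Submodule.span A (Set.range g) := by
    change (1 : A) ∈ Ideal.span (Set.range g)
    rw [htop]; trivial
  obtain ⟨S, hS, h1S⟩ := Submodule.mem_span_finite_of_mem_span h1
  have hS' : ∀ i : S, ∃ p, g p = i.1 := fun i => hS i.2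
  choose π hπ using hS'
  let A' := ∀ i : S, Localization.Away (g (π i))
  haveI : ∀ i : S, Algebra.Etale A (Localization.Away (g (π i))) := fun i =>
    Algebra.Etale.of_isLocalizationAway (g (π i))
  haveI : Algebra.Etale A A' := inferInstance
  haveI : Module.Flat A A' := Algebra.Smooth.flat A A'
  have hffA : Module.FaithfullyFlat A A' := by
    refine Module.FaithfullyFlat.of_comap_surjective fun p => ?_
    obtain ⟨i, hi⟩ : ∃ i : S, g (π i) ∉ p.asIdeal := by
      by_contra hne
      push Not at hne
      refine p.isPrime.ne_top ((Ideal.eq_top_iff_one _).2 ((Submodule.span_le (p := p.asIdeal)).2 ?_ h1S))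
      intro s hs
      rw [SetLike.mem_coe, show s = g (π ⟨s, hs⟩) from (hπ ⟨s, hs⟩).symm]
      exact hne _
    have hr : p ∈ Set.range (PrimeSpectrum.comap (algebraMap A (Localization.Away (g (π i))))) := by
      rw [PrimeSpectrum.localization_away_comap_range _ (g (π i))]
      exact hi
    obtain ⟨q, rfl⟩ := hr
    exact ⟨PrimeSpectrum.comap (Pi.evalRingHom _ i) q, PrimeSpectrum.ext rfl⟩
  refine ⟨A', inferInstance, inferInstance, IsScalarTower.toAlgHom R A A', fun s i => x (π i) s,
    ⟨Module.FaithfullyFlat.trans R A A', Algebra.Etale.comp R A A'⟩, Pi.isUnit_iff.2 fun i => ?_⟩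
  rw [show MvPolynomial.eval₂ (IsScalarTower.toAlgHom R A A').toRingHom (fun s i => x (π i) s) r i =
      MvPolynomial.eval₂ (algebraMap A (Localization.Away (g (π i)))) (x (π i)) r from ?_]
  · exact hx (π i)
  · exact RingHom.congr_fun
      (f := (Pi.evalRingHom _ i).comp (MvPolynomial.eval₂Hom (IsScalarTower.toAlgHom R A A').toRingHom fun s i => x (π i) s))
      (g := MvPolynomial.eval₂Hom (algebraMap A (Localization.Away (g (π i)))) (x (π i)))
      (MvPolynomial.ringHom_ext (fun c => by simp; rfl) fun s => by simp) r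

theorem exists_et_root {A : Type u} [CommRing A] [Algebra R A] (hA : IsEtCover (R := R) A) (β γ : A)
    (hD : IsUnit (β ^ 2 - 4 * γ)) :
    ∃ (A' : Type u) (_ : CommRing A') (_ : Algebra R A') (φ : A →ₐ[R] A') (t : A'),
      IsEtCover (R := R) A' ∧ t ^ 2 + φ β * t + φ γ = 0 := by
  obtain ⟨hff, het⟩ := hA
  let f : Polynomial A := Polynomial.X ^ 2 + (Polynomial.C β * Polynomial.X + Polynomial.C γ)
  have hf : f.Monic := Polynomial.monic_X_pow_add (by
    refine (Polynomial.degree_linear_le).trans_lt ?_
    norm_num)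
  obtain ⟨e, he⟩ := hD
  have hder : Polynomial.derivative f = 2 * Polynomial.X + Polynomial.C β := by
    simp [f, Polynomial.derivative_pow, Polynomial.C_ofNat]
  let P : StandardEtalePair A :=
    { f := f, monic_f := hf, g := 1,
      cond := ⟨Polynomial.derivative f * Polynomial.C (↑e⁻¹ : A), -4 * Polynomial.C (↑e⁻¹ : A), 1, by
        have h : Polynomial.derivative f * Polynomial.derivative f - 4 * f = Polynomial.C (e : A) := by
          rw [hder, he, map_sub, map_pow, map_mul, Polynomial.C_ofNat]; simp only [f]; ring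
        have h' : Polynomial.C (e : A) * Polynomial.C (↑e⁻¹ : A) = 1 := by
          rw [← map_mul, Units.mul_inv, map_one]
        rw [pow_one]
        linear_combination Polynomial.C (↑e⁻¹ : A) * h + h'⟩ }
  haveI hloc : IsLocalization.Away (1 : AdjoinRoot f) (Localization.Away (AdjoinRoot.mk P.f P.g)) := by
    have h1 : AdjoinRoot.mk P.f P.g = (1 : AdjoinRoot f) := map_one (AdjoinRoot.mk f)
    rw [← h1]
    infer_instance
  haveI : Algebra.Etale A (AdjoinRoot f) := Algebra.Etale.of_equiv (P.equivAwayAdjoinRoot.trans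
    ((IsLocalization.atOne (AdjoinRoot f) (Localization.Away (AdjoinRoot.mk P.f P.g))).restrictScalars A).symm)
  haveI := hf.free_adjoinRoot
  haveI := hf.finite_adjoinRoot
  haveI : Module.FaithfullyFlat A (AdjoinRoot f) := by
    rcases subsingleton_or_nontrivial A with hs | hs
    · haveI : Subsingleton (AdjoinRoot f) := Module.subsingleton A _
      exact Module.FaithfullyFlat.of_comap_surjective fun p => absurd (Subsingleton.elim p.asIdeal ⊤) p.isPrime.ne_top
    · haveI : Nontrivial (AdjoinRoot f) := by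
        have hnd : 0 < f.natDegree := by
          have : f.coeff 2 = 1 := by simp [f, Polynomial.coeff_X_of_ne_one]
          have := Polynomial.le_natDegree_of_ne_zero (p := f) (n := 2) (by rw [this]; exact one_ne_zero)
          omega
        let pb := AdjoinRoot.powerBasis' hf
        exact nontrivial_of_ne _ 0 (pb.basis.ne_zero ⟨0, by rw [show pb.dim = f.natDegree from rfl]; exact hnd⟩)
      infer_instance
  refine ⟨AdjoinRoot f, inferInstance, inferInstance, IsScalarTower.toAlgHom R A (AdjoinRoot f), AdjoinRoot.root f,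
    ⟨Module.FaithfullyFlat.trans R A _, Algebra.Etale.comp R A _⟩, ?_⟩
  have := AdjoinRoot.eval₂_root f
  simp only [f, Polynomial.eval₂_add, Polynomial.eval₂_mul, Polynomial.eval₂_C, Polynomial.eval₂_X,
    Polynomial.eval₂_X_pow] at this
  rw [add_assoc]
  exact this

/-- Generic vector of the polynomial ring. -/
theorem exists_next_et {n k : ℕ} (hk : 2 * k + 1 < n) (b : Module.Basis (Fin n) R M)
    (hrad : ∀ (K : Type u) [Field K] [Algebra R K],
      (∀ x : K ⊗[R] M, (∀ y, QuadraticMap.polar (baseChangeForm K Q) x y = 0) → baseChangeForm K Q x = 0 → x = 0) ∧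
        ∃ ψ : Module.Dual K (K ⊗[R] M), ∀ x : K ⊗[R] M,
          (∀ y, QuadraticMap.polar (baseChangeForm K Q) x y = 0) → ψ x = 0 → x = 0) {A : Type u} [CommRing A] [Algebra R A] (hA : IsEtCover (R := R) A)
    (F : Frame (baseChangeForm A Q) k) :
    ∃ (A' : Type u) (_ : CommRing A') (_ : Algebra R A'), IsEtCover (R := R) A' ∧
      Nonempty (Frame (baseChangeForm A' Q) (k + 1)) := by
  classical
  let P := MvPolynomial (Fin n ⊕ Fin n) A
  let φP : A →ₐ[R] P := IsScalarTower.toAlgHom R A P
  let X : P ⊗[R] M := (F.map φP).proj (∑ i, (MvPolynomial.X (Sum.inl i) : P) • ((1 : P) ⊗ₜ[R] b i))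
  let Y : P ⊗[R] M := (F.map φP).proj (∑ i, (MvPolynomial.X (Sum.inr i) : P) • ((1 : P) ⊗ₜ[R] b i))
  let r : P := baseChangeForm P Q X * (QuadraticMap.polar (baseChangeForm P Q) X Y ^ 2 -
    4 * baseChangeForm P Q X * baseChangeForm P Q Y)
  obtain ⟨A₁, _, _, φ, x, hA₁, hu⟩ := exists_et_unit hA (Fin n ⊕ Fin n) r fun p _ K _ ψ _ => by
    letI : Algebra R K := (ψ.comp (algebraMap R A)).toAlgebra
    let ψR : A →ₐ[R] K := ⟨ψ, fun _ => rfl⟩
    obtain ⟨hR1, hR2⟩ := hrad K
    obtain ⟨x, y, hxy⟩ := exists_pair (Algebra.TensorProduct.basis K b) hR1 hR2 (F.map ψR) hk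
    let c : Fin n ⊕ Fin n → K := Sum.elim (fun i => (Algebra.TensorProduct.basis K b).repr x i)
      (fun i => (Algebra.TensorProduct.basis K b).repr y i)
    refine ⟨c, ?_⟩
    let χ : P →ₐ[R] K :=
      { MvPolynomial.eval₂Hom ψ c with
        commutes' := fun a => by
          change MvPolynomial.eval₂Hom ψ c (MvPolynomial.C (algebraMap R A a)) = _
          rw [MvPolynomial.eval₂Hom_C]; rfl }
    have hF : ∀ z, (F.map ψR).proj (mapV χ z) = mapV χ ((F.map φP).proj z) := by
      intro z
      rw [← Frame.map_proj χ (F.map φP) z]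
      have hχ : ∀ a : A ⊗[R] M, mapV χ (mapV φP a) = mapV ψR a := by
        intro a
        induction a using TensorProduct.induction_on with
        | zero => simp
        | add y z hy hz => simp only [map_add, hy, hz]
        | tmul a w =>
          simp only [LinearMap.rTensor_tmul, AlgHom.toLinearMap_apply]
          congr 1
          exact MvPolynomial.eval₂Hom_C ψ c a
      simp [Frame.proj_apply, Frame.map, hχ]
    have hX : ∀ (s : Fin n → Fin n ⊕ Fin n) (w : K ⊗[R] M), (∀ i, c (s i) = (Algebra.TensorProduct.basis K b).repr w i) →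
        mapV χ (∑ i, (MvPolynomial.X (s i) : P) • ((1 : P) ⊗ₜ[R] b i)) = w := by
      intro s w hw
      conv_rhs => rw [← (Algebra.TensorProduct.basis K b).sum_repr w]
      rw [map_sum]
      refine Finset.sum_congr rfl fun i _ => ?_
      rw [mapV_smul, LinearMap.rTensor_tmul, AlgHom.toLinearMap_apply, map_one, Algebra.TensorProduct.basis_apply]
      congr 1
      exact (MvPolynomial.eval₂Hom_X' ψ c (s i)).trans (hw i)
    intro h0
    apply hxy
    rw [← hX Sum.inl x (fun _ => rfl), ← hX Sum.inr y (fun _ => rfl), hF, hF, form_mapV, form_mapV, polar_mapV,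
      ← map_pow, show (4 : K) = χ 4 from (map_ofNat χ 4).symm, ← map_mul, ← map_mul, ← map_sub, ← map_mul]
    exact h0
  -- specialise
  let χ : P →ₐ[R] A₁ :=
    { MvPolynomial.eval₂Hom φ.toRingHom x with
      commutes' := fun a => by
        change MvPolynomial.eval₂Hom φ.toRingHom x (MvPolynomial.C (algebraMap R A a)) = _
        rw [MvPolynomial.eval₂Hom_C]; exact φ.commutes a }
  let v := mapV χ X
  let w := mapV χ Y
  set F₁ := (F.map φP).map χ
  have hvF : ∀ z : P ⊗[R] M, (∀ i, QuadraticMap.polar (baseChangeForm A₁ Q) (F₁.e i) (mapV χ ((F.map φP).proj z)) = 0) ∧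
      ∀ i, QuadraticMap.polar (baseChangeForm A₁ Q) (F₁.f i) (mapV χ ((F.map φP).proj z)) = 0 := fun z => by
    refine ⟨fun i => ?_, fun i => ?_⟩
    · rw [show F₁.e i = mapV χ ((F.map φP).e i) from rfl, polar_mapV]
      exact (congrArg χ ((F.map φP).polar_e_proj i z).1).trans (map_zero χ)
    · rw [show F₁.f i = mapV χ ((F.map φP).f i) from rfl, polar_mapV]
      exact (congrArg χ ((F.map φP).polar_e_proj i z).2).trans (map_zero χ)
  have hu' : IsUnit (baseChangeForm A₁ Q v * (QuadraticMap.polar (baseChangeForm A₁ Q) v w ^ 2 -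
      4 * baseChangeForm A₁ Q v * baseChangeForm A₁ Q w)) := by
    simp only [v, w, form_mapV, polar_mapV, ← map_pow, ← map_mul, ← map_sub,
      show (4 : A₁) = χ 4 from (map_ofNat χ 4).symm]
    exact hu
  obtain ⟨ha, hD⟩ := IsUnit.mul_iff.1 hu'
  obtain ⟨a, ha'⟩ := ha
  have hdisc : IsUnit ((QuadraticMap.polar (baseChangeForm A₁ Q) v w * ↑a⁻¹) ^ 2 -
      4 * (baseChangeForm A₁ Q w * ↑a⁻¹)) := by
    have e : (QuadraticMap.polar (baseChangeForm A₁ Q) v w * ↑a⁻¹) ^ 2 - 4 * (baseChangeForm A₁ Q w * ↑a⁻¹) =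
        (QuadraticMap.polar (baseChangeForm A₁ Q) v w ^ 2 - 4 * baseChangeForm A₁ Q v * baseChangeForm A₁ Q w) *
          (↑a⁻¹ * ↑a⁻¹) := by
      linear_combination (4 * baseChangeForm A₁ Q w * ↑a⁻¹) * (a.mul_inv) +
        (4 * baseChangeForm A₁ Q w * ↑a⁻¹ * ↑a⁻¹) * ha'.symm
    rw [e]
    exact hD.mul ((a⁻¹).isUnit.mul (a⁻¹).isUnit)
  obtain ⟨A', _, _, φ', t, hA', ht⟩ := exists_et_root hA₁
    (QuadraticMap.polar (baseChangeForm A₁ Q) v w * ↑a⁻¹) (baseChangeForm A₁ Q w * ↑a⁻¹) hdisc
  refine ⟨A', ‹_›, ‹_›, hA', ?_⟩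
  set v' := mapV φ' v
  set w' := mapV φ' w
  set q' := baseChangeForm A' Q
  have hqv : q' v' = φ' ↑a := by simp only [q', v', form_mapV, ha']
  set β := QuadraticMap.polar q' v' w' with hβ
  have hD' : IsUnit (β ^ 2 - 4 * q' v' * q' w') := by
    simp only [β, q', v', w', form_mapV, polar_mapV, ← map_pow, ← map_mul, ← map_sub,
      show (4 : A') = φ' 4 from (map_ofNat φ' 4).symm]
    exact hD.map φ'
  -- the root
  have hroot : q' v' * t ^ 2 + β * t + q' w' = 0 := by
    have hinv : φ' ↑a * φ' ↑a⁻¹ = 1 := by rw [← map_mul, Units.mul_inv, map_one]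
    rw [map_mul, map_mul] at ht
    rw [hqv, hβ, show q' w' = φ' (baseChangeForm A₁ Q w) from form_mapV Q φ' w,
      show QuadraticMap.polar q' v' w' = φ' (QuadraticMap.polar (baseChangeForm A₁ Q) v w) from polar_mapV Q φ' v w]
    linear_combination φ' ↑a * ht - (φ' (QuadraticMap.polar (baseChangeForm A₁ Q) v w) * t +
      φ' (baseChangeForm A₁ Q w)) * hinv
  have hs : IsUnit (2 * q' v' * t + β) := by
    refine isUnit_of_mul_isUnit_left (y := 2 * q' v' * t + β) ?_
    rw [show (2 * q' v' * t + β) * (2 * q' v' * t + β) = β ^ 2 - 4 * q' v' * q' w' by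
      linear_combination 4 * q' v' * hroot]
    exact hD'
  obtain ⟨s, hs'⟩ := hs
  let z := t • v' + w'
  let u₀ := (↑s⁻¹ : A') • v'
  let f₀ := u₀ - q' u₀ • z
  have hqz : q' z = 0 := by
    simp only [z, QuadraticMap.map_add q', QuadraticMap.map_smul, QuadraticMap.polar_smul_left, smul_eq_mul, ← hβ]
    linear_combination hroot
  have hzu : QuadraticMap.polar q' z u₀ = 1 := by
    simp only [z, u₀, QuadraticMap.polar_add_left, QuadraticMap.polar_smul_left, QuadraticMap.polar_smul_right,
      QuadraticMap.polar_self, QuadraticMap.polar_comm q' w' v', ← hβ, smul_eq_mul, two_nsmul]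
    rw [show t * (q' v' + q' v') + β = 2 * q' v' * t + β by ring, ← hs', Units.inv_mul]
  have hzz : QuadraticMap.polar q' z z = 0 := by rw [QuadraticMap.polar_self, hqz, smul_zero]
  have hzf : QuadraticMap.polar q' z f₀ = 1 := by
    simp only [f₀, QuadraticMap.polar_sub_right, QuadraticMap.polar_smul_right, hzz, smul_zero, sub_zero, hzu]
  have hqf : q' f₀ = 0 := by
    rw [show f₀ = u₀ + (-q' u₀) • z by simp only [f₀]; module, QuadraticMap.map_add q',
      QuadraticMap.map_smul q' (-q' u₀) z, hqz, QuadraticMap.polar_smul_right, QuadraticMap.polar_comm, hzu,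
      smul_zero, smul_eq_mul]
    ring
  set F' := F₁.map φ'
  have horth : ∀ i, (QuadraticMap.polar q' (F'.e i) v' = 0 ∧ QuadraticMap.polar q' (F'.e i) w' = 0) ∧
      (QuadraticMap.polar q' (F'.f i) v' = 0 ∧ QuadraticMap.polar q' (F'.f i) w' = 0) := fun i => by
    simp only [F', Frame.map, v', w', q', polar_mapV]
    refine ⟨⟨?_, ?_⟩, ⟨?_, ?_⟩⟩
    · exact (congrArg φ' ((hvF _).1 i)).trans (map_zero φ')
    · exact (congrArg φ' ((hvF _).1 i)).trans (map_zero φ')
    · exact (congrArg φ' ((hvF _).2 i)).trans (map_zero φ')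
    · exact (congrArg φ' ((hvF _).2 i)).trans (map_zero φ')
  have hez : ∀ i, QuadraticMap.polar q' (F'.e i) z = 0 ∧ QuadraticMap.polar q' (F'.e i) f₀ = 0 ∧
      QuadraticMap.polar q' (F'.f i) z = 0 ∧ QuadraticMap.polar q' (F'.f i) f₀ = 0 := fun i => by
    obtain ⟨⟨a1, a2⟩, ⟨a3, a4⟩⟩ := horth i
    simp [z, f₀, u₀, QuadraticMap.polar_add_right, QuadraticMap.polar_sub_right, QuadraticMap.polar_smul_right,
      a1, a2, a3, a4]
  refine ⟨⟨Fin.snoc F'.e z, Fin.snoc F'.f f₀, ?_, ?_, ?_, ?_, ?_⟩⟩
  · intro i; induction i using Fin.lastCases with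
    | last => simpa using hqz
    | cast i => simpa using F'.qe i
  · intro i; induction i using Fin.lastCases with
    | last => simpa using hqf
    | cast i => simpa using F'.qf i
  · intro i j
    induction i using Fin.lastCases with
    | last => induction j using Fin.lastCases with
      | last => simpa using hzf
      | cast j => simpa [QuadraticMap.polar_comm q' z, (Fin.castSucc_lt_last j).ne'] using (hez j).2.2.1
    | cast i => induction j using Fin.lastCases with
      | last => simpa [(Fin.castSucc_lt_last i).ne] using (hez i).2.1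
      | cast j => simpa [Fin.castSucc_inj] using F'.ef i j
  · intro i j
    induction i using Fin.lastCases with
    | last => induction j using Fin.lastCases with
      | last => simpa using hzz
      | cast j => simpa [QuadraticMap.polar_comm q' z] using (hez j).1
    | cast i => induction j using Fin.lastCases with
      | last => simpa using (hez i).1
      | cast j => simpa using F'.ee i j
  · intro i j
    induction i using Fin.lastCases with
    | last => induction j using Fin.lastCases with
      | last => simp [QuadraticMap.polar_self, hqf]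
      | cast j => simpa [QuadraticMap.polar_comm q' f₀] using (hez j).2.2.2
    | cast i => induction j using Fin.lastCases with
      | last => simpa using (hez i).2.2.2
      | cast j => simpa using F'.ff i j

/-- Regular forms of even rank split étale locally. -/
theorem exists_evenFrame_et {m : ℕ} (b : Module.Basis (Fin (2 * m)) R M) (hQ : IsRegular Q) :
    ∃ (A : Type u) (_ : CommRing A) (_ : Algebra R A), IsEtCover (R := R) A ∧
      Nonempty (Frame (baseChangeForm A Q) m) := by
  have hfr : ∀ k, k ≤ m → ∃ (A : Type u) (_ : CommRing A) (_ : Algebra R A), IsEtCover (R := R) A ∧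
      Nonempty (Frame (baseChangeForm A Q) k) := by
    intro k
    induction k with
    | zero =>
      intro _
      exact ⟨R, inferInstance, inferInstance, isEtCover_refl,
        ⟨⟨Fin.elim0, Fin.elim0, fun i => i.elim0, fun i => i.elim0, fun i => i.elim0, fun i => i.elim0,
          fun i => i.elim0⟩⟩⟩
    | succ k ih =>
      intro hk
      obtain ⟨A, _, _, hA, ⟨F⟩⟩ := ih (Nat.le_of_succ_le hk)
      exact exists_next_et (by omega) b (fun K _ _ => ⟨fun x hx _ => radical_eq_zero b hQ K x hx,
        ⟨0, fun x hx _ => radical_eq_zero b hQ K x hx⟩⟩) hA F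
  exact hfr m le_rfl

end Groth.Agent.CliffSmooth
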