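import Groth.Agent.OrthSmooth.Eichler

/-!
# Isometries of nondegenerate forms of even rank over an algebraically closed field
-/

set_option autoImplicit false

universe u v

namespace Groth.Agent.CliffSmooth

open Groth.Agent.OrthSmooth

variable {K : Type u} [Field K] [IsAlgClosed K]

/-- `r` moves one hyperbolic plane only, diagonally or exchanging the isotropic lines. -/
def PlaneMap {V : Type v} [AddCommGroup V] [Module K V] (q : QuadraticForm K V) (r : V →ₗ[K] V) : Prop :=
  ∃ e f : V, IsPair q e f ∧
    (∀ u, QuadraticMap.polarBilin q e u = 0 → QuadraticMap.polarBilin q f u = 0 → r u = u) ∧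
    ∃ c : K, c ≠ 0 ∧ ((r e = c • e ∧ r f = c⁻¹ • f) ∨ (r e = c • f ∧ r f = c⁻¹ • e))

/-- An isometry is an elementary one composed with one moving a single plane. -/
theorem exists_el_plane : ∀ (m : ℕ) (W : Type v) [AddCommGroup W] [Module K W] [FiniteDimensional K W]
    (q : QuadraticForm K W), 1 ≤ m → Module.finrank K W = 2 * m →
    (∀ v, (∀ w, QuadraticMap.polarBilin q v w = 0) → v = 0) → ∀ g : W →ₗ[K] W, (∀ v, q (g v) = q v) →
      ∃ s r : W →ₗ[K] W, El q s ∧ PlaneMap q r ∧ g = s ∘ₗ r := by
  intro m
  induction m using Nat.strong_induction_on with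
  | _ m ih =>
    intro W _ _ _ q hm hn hq g hg
    have hqa : RadAniso q := fun v hv _ => hq v hv
    -- a hyperbolic pair
    obtain ⟨e, he0, he⟩ : ∃ e : W, e ≠ 0 ∧ q e = 0 := by
      let b := Module.finBasisOfFinrankEq K W hn
      set v := b ⟨0, by omega⟩
      set w := b ⟨1, by omega⟩
      by_cases hw : q w = 0
      · exact ⟨w, b.ne_zero _, hw⟩
      obtain ⟨s, hs⟩ := exists_root_quadratic (q w) (QuadraticMap.polarBilin q v w) (q v) (Or.inl hw)
      refine ⟨v + s • w, fun h0 => ?_, ?_⟩
      · have := congrArg (fun z => b.repr z ⟨0, by omega⟩) h0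
        simp [v, w, Finsupp.single_apply, Fin.ext_iff] at this
      · rw [q_add, q_smul, map_smul, smul_eq_mul]
        linear_combination hs
    obtain ⟨w, hw⟩ : ∃ w, QuadraticMap.polarBilin q e w ≠ 0 := by
      by_contra hcon
      push Not at hcon
      exact he0 (hq e hcon)
    set f₀ := (QuadraticMap.polarBilin q e w)⁻¹ • w
    have hef₀ : QuadraticMap.polarBilin q e f₀ = 1 := by simp [f₀, hw, -QuadraticMap.polarBilin_apply_apply]
    set f := f₀ - q f₀ • e
    have h : IsPair q e f := by
      refine ⟨he, ?_, by simp [f, hef₀, bil_self, he, -QuadraticMap.polarBilin_apply_apply]⟩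
      simp only [f, sub_eq_add_neg, ← neg_smul, q_add, q_smul, he, map_smul, smul_eq_mul, bil_comm q f₀ e, hef₀]
      ring
    have hbg : QuadraticMap.polarBilin q (g e) (g f) = 1 := by
      rw [QuadraticMap.polarBilin_apply_apply, QuadraticMap.polar, ← map_add, hg, hg, hg]
      exact h.bef
    have hU : ∀ {e f : W}, IsPair q e f → Module.finrank K (compl q e f) = 2 * (m - 1) ∧
        ∀ v : compl q e f, (∀ w, QuadraticMap.polarBilin (qU q e f) v w = 0) → v = 0 := by
      intro e f h
      refine ⟨?_, fun v hv => ?_⟩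
      · have := (splitEquiv q h).finrank_eq
        rw [Module.finrank_prod, Module.finrank_prod, Module.finrank_self, hn] at this
        omega
      · refine Subtype.ext (hq v.1 fun w => ?_)
        obtain ⟨h1, h2⟩ := (mem_compl q).1 v.2
        obtain ⟨⟨⟨a, b⟩, u⟩, rfl⟩ := (splitEquiv q h).surjective w
        have := hv u
        rw [bil_qU] at this
        simp [splitEquiv_apply, bil_comm q v.1 e, h1, bil_comm q v.1 f, h2, this, -QuadraticMap.polarBilin_apply_apply]
    rcases eq_or_lt_of_le hm with rfl | hm2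
    · refine ⟨LinearMap.id, g, El.one, ⟨e, f, h, ?_, ?_⟩, (LinearMap.id_comp g).symm⟩
      · intro u hu hu'
        haveI : Subsingleton (compl q e f) := Module.finrank_zero_iff.1 ((hU h).1)
        have : (⟨u, (mem_compl q).2 ⟨hu, hu'⟩⟩ : compl q e f) = 0 := Subsingleton.elim _ _
        rw [show u = 0 from congrArg Subtype.val this, map_zero]
      · haveI : Subsingleton (compl q e f) := Module.finrank_zero_iff.1 ((hU h).1)
        have hsplit : ∀ x : W, ∃ a b : K, x = a • e + b • f := fun x => by
          obtain ⟨⟨⟨a, b⟩, u⟩, rfl⟩ := (splitEquiv q h).surjective x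
          exact ⟨a, b, by rw [splitEquiv_apply, Subsingleton.elim u 0]; simp⟩
        obtain ⟨a, b, hge⟩ := hsplit (g e)
        obtain ⟨a', b', hgf⟩ := hsplit (g f)
        have hqv : ∀ a b : K, q (a • e + b • f) = a * b := fun a b => by
          rw [q_add, q_smul, q_smul, h.qe, h.qf, map_smul, map_smul, LinearMap.smul_apply, h.bef, smul_eq_mul,
            smul_eq_mul]
          ring
        have hab : a * b = 0 := by rw [← hqv, ← hge, hg, h.qe]
        have hab' : a' * b' = 0 := by rw [← hqv, ← hgf, hg, h.qf]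
        have hone : a * b' + b * a' = 1 := by
          rw [← hbg, hge, hgf]
          simp only [map_add, map_smul, LinearMap.add_apply, LinearMap.smul_apply, smul_eq_mul, bil_self, h.qe, h.qf,
            h.bef, bil_comm q f e]
          ring
        rcases mul_eq_zero.1 hab with rfl | rfl
        · rw [zero_mul, zero_add] at hone
          have hb : b ≠ 0 := left_ne_zero_of_mul_eq_one hone
          have ha' : a' = b⁻¹ := eq_inv_of_mul_eq_one_right hone
          have hb' : b' = 0 := (mul_eq_zero.1 hab').resolve_left (by rw [ha']; exact inv_ne_zero hb)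
          exact ⟨b, hb, Or.inr ⟨by rw [hge, zero_smul, zero_add], by rw [hgf, ha', hb', zero_smul, add_zero]⟩⟩
        · rw [zero_mul, add_zero] at hone
          have ha : a ≠ 0 := left_ne_zero_of_mul_eq_one hone
          have hb' : b' = a⁻¹ := eq_inv_of_mul_eq_one_right hone
          have ha' : a' = 0 := (mul_eq_zero.1 hab').resolve_right (by rw [hb']; exact inv_ne_zero ha)
          exact ⟨a, ha, Or.inl ⟨by rw [hge, zero_smul, add_zero], by rw [hgf, ha', hb', zero_smul, zero_add]⟩⟩
    have hbig : ∀ {e f : W}, IsPair q e f → ∃ x, QuadraticMap.polarBilin q x e = 0 ∧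
        QuadraticMap.polarBilin q x f = 0 ∧ q x ≠ 0 := by
      intro e f h
      obtain ⟨hd, hr⟩ := hU h
      by_contra hcon
      push Not at hcon
      have hall : ∀ u : compl q e f, qU q e f u = 0 := fun u => by
        obtain ⟨h1, h2⟩ := (mem_compl q).1 u.2
        exact hcon u.1 (by rw [bil_comm, h1]) (by rw [bil_comm, h2])
      have : Subsingleton (compl q e f) := ⟨fun u w => by
        have hz : ∀ u : compl q e f, u = 0 := fun u => hr u (fun w => by
          rw [QuadraticMap.polarBilin_apply_apply, QuadraticMap.polar, hall, hall, hall, sub_zero, sub_zero])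
        rw [hz u, hz w]⟩
      rw [Module.finrank_zero_of_subsingleton] at hd
      omega
    have h' : IsPair q (g e) (g f) := ⟨(hg e).trans h.qe, (hg f).trans h.qf, hbg⟩
    obtain ⟨t, ht, hte, htf⟩ := exists_move q hqa hbig h' h
    set g' := t ∘ₗ g
    have hg' : ∀ v, q (g' v) = q v := fun v => (ht.isometry q _).trans (hg v)
    have hbil : ∀ v w, QuadraticMap.polarBilin q (g' v) (g' w) = QuadraticMap.polarBilin q v w := fun v w => by
      rw [QuadraticMap.polarBilin_apply_apply, QuadraticMap.polarBilin_apply_apply, QuadraticMap.polar,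
        QuadraticMap.polar, ← map_add, hg', hg', hg']
    have hge : g' e = e := hte
    have hgf : g' f = f := htf
    have hmem : ∀ u ∈ compl q e f, g' u ∈ compl q e f := fun u hu => by
      rw [mem_compl] at hu ⊢
      constructor
      · rw [← hge, hbil]; exact hu.1
      · rw [← hgf, hbil]; exact hu.2
    set gU := g'.restrict hmem
    have hext : g' = extU q h gU := LinearMap.ext fun v => by
      obtain ⟨⟨⟨a, b⟩, u⟩, rfl⟩ := (splitEquiv q h).surjective v
      rw [splitEquiv_apply, extU_apply, map_add, map_add, map_smul, map_smul, hge, hgf]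
      rfl
    obtain ⟨hd, hr⟩ := hU h
    obtain ⟨sU, rU, hsU, ⟨e', f', hp', hfix, c, hc, hcase⟩, hgU⟩ :=
      ih (m - 1) (by omega) (compl q e f) (qU q e f) (by omega) hd hr gU fun u => hg' u.1
    obtain ⟨s, hs, hst⟩ := ht.exists_inv q
    have hcomp : extU q h gU = extU q h sU ∘ₗ extU q h rU := LinearMap.ext fun v => by
      obtain ⟨⟨⟨a, b⟩, u⟩, rfl⟩ := (splitEquiv q h).surjective v
      rw [hgU, LinearMap.comp_apply, splitEquiv_apply, extU_apply, extU_apply, extU_apply]
      rfl
    have hin : ∀ u : compl q e f, extU q h rU u.1 = (rU u).1 := fun u => by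
      simpa using extU_apply q h rU 0 0 u
    refine ⟨s ∘ₗ extU q h sU, extU q h rU, hs.comp q (El.ext_mem q h hsU), ⟨e'.1, f'.1, ⟨hp'.qe, hp'.qf, ?_⟩,
      fun u hu hu' => ?_, c, hc, ?_⟩, ?_⟩
    · rw [← bil_qU]; exact hp'.bef
    · obtain ⟨⟨⟨a, b⟩, u₀⟩, rfl⟩ := (splitEquiv q h).surjective u
      obtain ⟨h1, h2⟩ := (mem_compl q).1 e'.2
      obtain ⟨h3, h4⟩ := (mem_compl q).1 f'.2
      simp only [splitEquiv_apply, map_add, map_smul, smul_eq_mul, bil_comm q e'.1 e, bil_comm q e'.1 f,
        bil_comm q f'.1 e, bil_comm q f'.1 f, h1, h2, h3, h4, mul_zero, zero_add] at hu hu'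
      rw [splitEquiv_apply, extU_apply, hfix u₀ (by rwa [bil_qU]) (by rwa [bil_qU])]
    · rw [hin, hin]
      exact hcase.imp (fun hh => ⟨congrArg Subtype.val hh.1, congrArg Subtype.val hh.2⟩)
        fun hh => ⟨congrArg Subtype.val hh.1, congrArg Subtype.val hh.2⟩
    · rw [LinearMap.comp_assoc, ← hcomp, ← hext, ← LinearMap.comp_assoc, hst, LinearMap.id_comp]

end Groth.Agent.CliffSmooth
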