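import Groth.Agent.CliffSmooth.EvenRelDim
import Groth.Agent.CliffSmooth.EvenGen
import Groth.Agent.QuadCentre.Reflection
import Groth.Agent.OrthSmooth.Connected
import Mathlib.RingTheory.Localization.Away.Basic
import Mathlib.RingTheory.Localization.Basic

/-!
# Connectedness of the fibres of the special orthogonal group in even rank
-/

set_option autoImplicit false

universe u

namespace Groth.Agent.CliffSmooth

open CliffordAlgebra QuadGrp Matrix Groth.Agent.OrthSmooth Groth.Agent.QuadHalfDisc TensorProduct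

section Moves

variable {B : Type u} [CommRing B] {V : Type u} [AddCommGroup V] [Module B V] (q : QuadraticForm B V)

/-- An Eichler transformation over a ring. -/
noncomputable def eichB (a x : V) : V →ₗ[B] V :=
  LinearMap.id + ((QuadraticMap.polarBilin q).flip a).smulRight x -
    ((QuadraticMap.polarBilin q).flip x + q x • (QuadraticMap.polarBilin q).flip a).smulRight a

theorem eichB_apply (a x v : V) : eichB q a x v = v + QuadraticMap.polar q v a • x -
    (QuadraticMap.polar q v x + q x * QuadraticMap.polar q v a) • a := by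
  simp [eichB]

theorem eichB_isometry {a x : V} (ha : q a = 0) (hax : QuadraticMap.polar q a x = 0) (v : V) :
    q (eichB q a x v) = q v := by
  rw [eichB_apply, sub_eq_add_neg, ← neg_smul]
  simp only [QuadraticMap.map_add q, QuadraticMap.map_smul, ha, QuadraticMap.polar_smul_right,
    QuadraticMap.polar_add_left, QuadraticMap.polar_smul_left, QuadraticMap.polar_comm q x a, hax, smul_eq_mul]
  ring

/-- A torus element on a hyperbolic plane. -/
noncomputable def torusB (e f : V) (c c' : B) : V →ₗ[B] V :=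
  LinearMap.id + (QuadraticMap.polarBilin q f).smulRight ((c - 1) • e) +
    (QuadraticMap.polarBilin q e).smulRight ((c' - 1) • f)

theorem torusB_apply (e f : V) (c c' : B) (v : V) : torusB q e f c c' v =
    v + (QuadraticMap.polar q f v * (c - 1)) • e + (QuadraticMap.polar q e v * (c' - 1)) • f := by
  simp [torusB, smul_smul]

theorem torusB_isometry {e f : V} (he : q e = 0) (hf : q f = 0) (hef : QuadraticMap.polar q e f = 1) {c c' : B}
    (hc : c * c' = 1) (v : V) : q (torusB q e f c c' v) = q v := by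
  simp only [torusB_apply, QuadraticMap.map_add q, QuadraticMap.map_smul, QuadraticMap.polar_add_left,
    QuadraticMap.polar_smul_left, QuadraticMap.polar_smul_right, he, hf, hef, QuadraticMap.polar_comm q v e,
    QuadraticMap.polar_comm q v f, smul_eq_mul]
  linear_combination (QuadraticMap.polar q f v * QuadraticMap.polar q e v) * hc

end Moves

variable {R : Type u} [CommRing R]

section Functorial

variable {M : Type u} [AddCommGroup M] [Module R M] {A B C : Type u} [CommRing A] [Algebra R A] [CommRing B] [Algebra R B]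
  [CommRing C] [Algebra R C]

theorem mapV_comp (φ : A →ₐ[R] B) (ψ : B →ₐ[R] C) (v : A ⊗[R] M) : mapV ψ (mapV φ v) = mapV (ψ.comp φ) v := by
  induction v using TensorProduct.induction_on with
  | zero => simp
  | add x y hx hy => simp only [map_add, hx, hy]
  | tmul a w => simp

theorem mapV_id (v : A ⊗[R] M) : mapV (AlgHom.id R A) v = v := by
  induction v using TensorProduct.induction_on with
  | zero => simp
  | add x y hx hy => simp only [map_add, hx, hy]
  | tmul a w => simp

variable [Module.Free R M] (Q : QuadraticForm R M) (φ : A →ₐ[R] B)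

theorem mapV_eichB (a x v : A ⊗[R] M) : mapV φ (eichB (baseChangeForm A Q) a x v) =
    eichB (baseChangeForm B Q) (mapV φ a) (mapV φ x) (mapV φ v) := by
  simp only [eichB_apply, polar_mapV, form_mapV, map_add, map_sub, mapV_smul, map_mul]

theorem mapV_torusB (e f : A ⊗[R] M) (c c' : A) (v : A ⊗[R] M) : mapV φ (torusB (baseChangeForm A Q) e f c c' v) =
    torusB (baseChangeForm B Q) (mapV φ e) (mapV φ f) (φ c) (φ c') (mapV φ v) := by
  simp only [torusB_apply, polar_mapV, map_add, mapV_smul, map_mul, map_sub, map_one]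

end Functorial

variable {n : ℕ} {Q : QuadraticForm R (Fin n → R)}

theorem isSol_one (A : Type u) [CommRing A] [Algebra R A] : IsSol Q ∅ (1 : Matrix (Fin n) (Fin n) A) := by
  rw [isSol_empty_iff]; simp

theorem isSol_mul {A : Type u} [CommRing A] [Algebra R A] {g g' : Matrix (Fin n) (Fin n) A} (hg : IsSol Q ∅ g)
    (hg' : IsSol Q ∅ g') : IsSol Q ∅ (g * g') := by
  rw [isSol_empty_iff] at *
  rw [show (g * g')ᵀ * (wMat Q).map (algebraMap R A) * (g * g') =
    g'ᵀ * (gᵀ * (wMat Q).map (algebraMap R A) * g) * g' by simp only [Matrix.transpose_mul, Matrix.mul_assoc],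
    co_congr g' hg, hg']

theorem isSol_map {A B : Type u} [CommRing A] [Algebra R A] [CommRing B] [Algebra R B] (φ : A →ₐ[R] B)
    {g : Matrix (Fin n) (Fin n) A} (hg : IsSol Q ∅ g) : IsSol Q ∅ (g.map φ) := by
  have h := ((homEquiv Q ∅ B) (φ.comp ((homEquiv Q ∅ A).symm ⟨g, hg⟩))).2
  convert h using 1
  ext i j
  simp [OrthSmooth.homEquiv]

theorem isSol_toMatrix {A : Type u} [CommRing A] [Algebra R A] (T : (A ⊗[R] (Fin n → R)) →ₗ[A] (A ⊗[R] (Fin n → R)))
    (hT : ∀ v, baseChangeForm A Q (T v) = baseChangeForm A Q v) : IsSol Q ∅ (LinearMap.toMatrix (bA A) (bA A) T) := by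
  rw [isSol_empty_iff]
  have hg : (baseChangeForm A Q).comp T = LinearMap.BilinMap.toQuadraticMap ((bilA Q A).compl₁₂ T T) := by
    ext x
    rw [baseChangeForm_eq, LinearMap.BilinMap.toQuadraticMap_apply, LinearMap.compl₁₂_apply, QuadraticMap.comp_apply,
      LinearMap.BilinMap.toQuadraticMap_apply]
  have h0 : (baseChangeForm A Q).comp T = baseChangeForm A Q := QuadraticMap.ext hT
  have h1 := congrArg (coeffs (bA A) (LinearEquiv.refl A A)) h0
  rw [hg, coeffs_toQuadraticMap, LinearMap.toMatrix₂_compl₁₂ (bA A) (bA A) (bA A) (bA A), toMatrix₂_bilA,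
    coeffs_baseChangeForm] at h1
  exact h1

theorem toMatrix_map {A B : Type u} [CommRing A] [Algebra R A] [CommRing B] [Algebra R B] (φ : A →ₐ[R] B)
    (T : (A ⊗[R] (Fin n → R)) →ₗ[A] (A ⊗[R] (Fin n → R))) (T' : (B ⊗[R] (Fin n → R)) →ₗ[B] (B ⊗[R] (Fin n → R)))
    (h : ∀ v, T' (mapV φ v) = mapV φ (T v)) :
    (LinearMap.toMatrix (bA A) (bA A) T).map φ = LinearMap.toMatrix (bA B) (bA B) T' := by
  ext i j
  rw [Matrix.map_apply, LinearMap.toMatrix_apply, LinearMap.toMatrix_apply, ← repr_rTensor]
  congr 2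
  have := h (bA A j)
  rw [show mapV φ (bA A j) = bA B j by simp [bA_apply]] at this
  exact this.symm

variable {K : Type u} [Field K] [Algebra R K]
  {eqn : Finset (MvPolynomial (Fin n × Fin n) R)}

/-- The value at a point. -/
noncomputable def valP (x : K ⊗[R] Coord Q eqn) (g : Matrix (Fin n) (Fin n) K) (hg : IsSol Q eqn g) : K :=
  Algebra.TensorProduct.lift (Algebra.ofId K K) ((OrthSmooth.homEquiv Q eqn K).symm ⟨g, hg⟩) (fun _ _ => .all _ _) x

/-- An idempotent keeps its value along a path. -/
theorem valP_path (hidem : IdemEqn Q eqn) (ε : K ⊗[R] Coord Q eqn) (hε : IsIdempotentElem ε)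
    {B : Type u} [CommRing B] [IsDomain B] [Algebra K B] [Algebra R B] [IsScalarTower R K B] (χ₀ χ₁ : B →ₐ[K] K)
    {G : Matrix (Fin n) (Fin n) B} (hG : IsSol Q ∅ G) {g₀ g₁ : Matrix (Fin n) (Fin n) K}
    (h₀ : G.map χ₀ = g₀) (h₁ : G.map χ₁ = g₁) (hg₀ : IsSol Q eqn g₀) :
    ∃ hg₁ : IsSol Q eqn g₁, valP ε g₁ hg₁ = valP ε g₀ hg₀ := by
  have haev : ∀ (χ : B →ₐ[K] K) (p : MvPolynomial (Fin n × Fin n) R),
      χ (MvPolynomial.aeval (fun ij : Fin n × Fin n => G ij.1 ij.2) p) =
        MvPolynomial.aeval (fun ij : Fin n × Fin n => (G.map χ) ij.1 ij.2) p := fun χ p => by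
    change ((χ.restrictScalars R).comp (MvPolynomial.aeval fun ij : Fin n × Fin n => G ij.1 ij.2)) p = _
    exact DFunLike.congr_fun (MvPolynomial.algHom_ext fun ij => by simp) p
  have hGeq : IsSol Q eqn G := ⟨hG.1, fun p hp => by
    rcases IsIdempotentElem.iff_eq_zero_or_one.1 (hidem B G hG p hp) with h | h
    · exact h
    · have := haev χ₀ p
      rw [h, map_one, h₀, hg₀.2 p hp] at this
      exact absurd this one_ne_zero⟩
  let Φ : K ⊗[R] Coord Q eqn →ₐ[K] B :=
    Algebra.TensorProduct.lift (Algebra.ofId K B) ((OrthSmooth.homEquiv Q eqn B).symm ⟨G, hGeq⟩) (fun _ _ => .all _ _)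
  have hsol : ∀ χ : B →ₐ[K] K, IsSol Q eqn (G.map χ) := fun χ =>
    ⟨(isSol_map (χ.restrictScalars R) hG).1, fun p hp => by rw [← haev, hGeq.2 p hp, map_zero]⟩
  have hΦ : ∀ χ : B →ₐ[K] K, χ (Φ ε) = valP ε _ (hsol χ) := by
    intro χ
    change (χ.comp Φ) ε = valP ε _ (hsol χ)
    refine DFunLike.congr_fun (Algebra.TensorProduct.ext (Algebra.ext_id _ _ _) ?_) ε
    refine Ideal.Quotient.algHom_ext R (MvPolynomial.algHom_ext fun ij => ?_)
    simp [Φ, OrthSmooth.homEquiv]
  subst h₀ h₁
  refine ⟨hsol χ₁, ?_⟩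
  rw [← hΦ, show valP ε _ hg₀ = valP ε _ (hsol χ₀) from rfl, ← hΦ]
  rcases IsIdempotentElem.iff_eq_zero_or_one.1 (hε.map Φ) with h | h <;> simp [h]

variable (hidem : IdemEqn Q eqn)

include hidem in
/-- Translating by elementary isometries keeps the values. -/
theorem valP_el (ε : K ⊗[R] Coord Q eqn) (hε : IsIdempotentElem ε) {t : K ⊗[R] (Fin n → R) →ₗ[K] K ⊗[R] (Fin n → R)}
    (ht : El (baseChangeForm K Q) t) : ∀ (g : Matrix (Fin n) (Fin n) K) (hg : IsSol Q eqn g),
      ∃ hg' : IsSol Q eqn (LinearMap.toMatrix (bA K) (bA K) t * g),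
        valP ε _ hg' = valP ε g hg := by
  induction ht with
  | one => intro g hg; simp only [LinearMap.toMatrix_id, one_mul]; exact ⟨hg, trivial⟩
  | @step a x ha hax t _ ih =>
    intro g hg
    obtain ⟨hg₁, e₁⟩ := ih g hg
    simp only [LinearMap.toMatrix_comp (bA K) (bA K) (bA K), Matrix.mul_assoc]
    let ι' : K →ₐ[R] Polynomial K := IsScalarTower.toAlgHom R K (Polynomial K)
    let aB := mapV (M := Fin n → R) ι' a
    let xB : Polynomial K ⊗[R] (Fin n → R) := (Polynomial.X : Polynomial K) • mapV ι' x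
    let qB := baseChangeForm (Polynomial K) Q
    have haB : qB aB = 0 := by simp only [qB, aB, form_mapV, ha, map_zero]
    have haxB : QuadraticMap.polar qB aB xB = 0 := by
      rw [QuadraticMap.polarBilin_apply_apply] at hax
      simp only [qB, aB, xB, QuadraticMap.polar_smul_right, polar_mapV, hax, map_zero, smul_zero]
    let T := LinearMap.toMatrix (bA (R := R) (n := n) (Polynomial K)) (bA (Polynomial K)) (eichB qB aB xB)
    let G := T * (LinearMap.toMatrix (bA K) (bA K) t * g).map ι'
    have hG : IsSol Q ∅ G :=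
      isSol_mul (isSol_toMatrix _ (eichB_isometry qB haB haxB)) (isSol_map ι' (isSol_of_subset hg₁))
    have hev : ∀ c : K, G.map (Polynomial.aeval (R := K) c) =
        LinearMap.toMatrix (bA K) (bA K) (eich (baseChangeForm K Q) a (c • x)) *
          (LinearMap.toMatrix (bA K) (bA K) t * g) := by
      intro c
      let χ : Polynomial K →ₐ[R] K := (Polynomial.aeval (R := K) c).restrictScalars R
      have hχι : χ.comp ι' = AlgHom.id R K := AlgHom.ext fun k => by simp [χ, ι']
      change G.map χ = _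
      rw [Matrix.map_mul]
      congr 1
      · refine toMatrix_map χ _ _ fun v => ?_
        rw [mapV_eichB, show mapV χ aB = a by rw [show mapV χ aB = mapV χ (mapV ι' a) from rfl, mapV_comp, hχι, mapV_id],
          show mapV χ xB = c • x by
            rw [show mapV χ xB = mapV χ ((Polynomial.X : Polynomial K) • mapV ι' x) from rfl, mapV_smul, mapV_comp,
              hχι, mapV_id]
            simp [χ]]
        rw [eich_apply, eichB_apply]
        simp [QuadraticMap.polarBilin_apply_apply]
      · ext i j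
        exact AlgHom.congr_fun hχι _
    have h0 : G.map (Polynomial.aeval (R := K) (0 : K)) = LinearMap.toMatrix (bA K) (bA K) t * g := by
      rw [hev, zero_smul, show eich (baseChangeForm K Q) a 0 = LinearMap.id from LinearMap.ext fun v => by
        simp [eich_apply], LinearMap.toMatrix_id, one_mul]
    have h1 := hev 1
    rw [one_smul] at h1
    obtain ⟨hg₂, e₂⟩ := valP_path hidem ε hε (Polynomial.aeval (0 : K)) (Polynomial.aeval (1 : K)) hG h0 h1 hg₁
    exact ⟨hg₂, e₂.trans e₁⟩

include hidem in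
/-- A torus element of a plane has the value of the identity. -/
theorem valP_torus (ε : K ⊗[R] Coord Q eqn) (hε : IsIdempotentElem ε) {e f : K ⊗[R] (Fin n → R)}
    (he : baseChangeForm K Q e = 0) (hf : baseChangeForm K Q f = 0)
    (hef : QuadraticMap.polar (baseChangeForm K Q) e f = 1) {c : K} (hc : c ≠ 0)
    (h1 : IsSol Q eqn (1 : Matrix (Fin n) (Fin n) K)) :
    ∃ hg' : IsSol Q eqn (LinearMap.toMatrix (bA K) (bA K) (torusB (baseChangeForm K Q) e f c c⁻¹)),
      valP ε _ hg' = valP ε 1 h1 := by
  let B := Localization.Away (Polynomial.X : Polynomial K)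
  haveI : IsDomain B := IsLocalization.isDomain_localization
    (powers_le_nonZeroDivisors_of_noZeroDivisors Polynomial.X_ne_zero)
  let s : B := algebraMap (Polynomial K) B Polynomial.X
  let s' : B := IsLocalization.Away.invSelf (S := B) (Polynomial.X : Polynomial K)
  have hs : s * s' = 1 := IsLocalization.Away.mul_invSelf _
  let ι' : K →ₐ[R] B := IsScalarTower.toAlgHom R K B
  let qB := baseChangeForm B Q
  let eB := mapV (M := Fin n → R) ι' e
  let fB := mapV (M := Fin n → R) ι' f
  let G := LinearMap.toMatrix (bA (R := R) (n := n) B) (bA B) (torusB qB eB fB s s')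
  have hG : IsSol Q ∅ G := by
    refine isSol_toMatrix _ (torusB_isometry qB ?_ ?_ ?_ hs)
    · simp only [qB, eB, form_mapV, he, map_zero]
    · simp only [qB, fB, form_mapV, hf, map_zero]
    · simp only [qB, eB, fB, polar_mapV, hef, map_one]
  have hpt : ∀ d : K, d ≠ 0 → ∃ χ : B →ₐ[K] K, G.map χ =
      LinearMap.toMatrix (bA K) (bA K) (torusB (baseChangeForm K Q) e f d d⁻¹) := by
    intro d hd
    let χ : B →ₐ[K] K := IsLocalization.liftAlgHom (M := Submonoid.powers (Polynomial.X : Polynomial K))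
      (f := (Polynomial.aeval d : Polynomial K →ₐ[K] K)) fun y => by
        obtain ⟨k, hk⟩ := y.2
        rw [← hk, map_pow, Polynomial.aeval_X]
        exact (isUnit_iff_ne_zero.2 hd).pow k
    refine ⟨χ, toMatrix_map (χ.restrictScalars R) _ _ fun v => ?_⟩
    have hχι : (χ.restrictScalars R).comp ι' = AlgHom.id R K := AlgHom.ext fun k => by simp [ι']
    have hχs : χ s = d := by simp [χ, s]
    have hχs' : χ s' = d⁻¹ := eq_inv_of_mul_eq_one_right (by rw [← hχs, ← map_mul, hs, map_one])
    rw [mapV_torusB, show mapV (χ.restrictScalars R) eB = e by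
        rw [show mapV (χ.restrictScalars R) eB = mapV (χ.restrictScalars R) (mapV ι' e) from rfl, mapV_comp, hχι, mapV_id],
      show mapV (χ.restrictScalars R) fB = f by
        rw [show mapV (χ.restrictScalars R) fB = mapV (χ.restrictScalars R) (mapV ι' f) from rfl, mapV_comp, hχι, mapV_id],
      AlgHom.restrictScalars_apply, AlgHom.restrictScalars_apply, hχs, hχs']
  obtain ⟨χ₀, hχ₀⟩ := hpt 1 one_ne_zero
  obtain ⟨χ₁, hχ₁⟩ := hpt c hc
  rw [inv_one, show torusB (baseChangeForm K Q) e f (1 : K) 1 = LinearMap.id from LinearMap.ext fun v => by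
    simp [torusB_apply], LinearMap.toMatrix_id] at hχ₀
  exact valP_path hidem ε hε χ₀ χ₁ hG hχ₀ hχ₁ h1

omit [Field K] [Algebra R K] in
/-- A reflection does not fix the centre of the even part. -/
theorem refl_notMem_SOeven {A : Type u} [CommRing A] [Nontrivial A] {V : Type u} [AddCommGroup V] [Module A V]
    [Module.Free A V] (q : QuadraticForm A V) (D : Datum q) (v : V) (a : A) (h : a * q v = 1) :
    QuadCentre.refl q v a h ∉ SOeven q := by
  rintro ⟨hg, hd⟩
  set Φ := CliffordAlgebra.map (isometryOfMem q _ hg)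
  have hΦ : ∀ y, Φ y * ι q v = ι q v * involute y := by
    intro y
    induction y using CliffordAlgebra.induction with
    | algebraMap r => rw [AlgHom.commutes, AlgHom.commutes]; exact Algebra.commutes r _
    | ι z => rw [map_apply_ι, isometryOfMem_apply, QuadCentre.ι_refl_mul, involute_ι, mul_neg]
    | add x y hx hy => rw [map_add, map_add, add_mul, mul_add, hx, hy]
    | mul x y hx hy => rw [map_mul, map_mul, mul_assoc, hy, ← mul_assoc, hx, mul_assoc]
  have hℓ : ∀ i, D.ℓ i = 0 := by
    intro i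
    have h1 := hΦ (D.x i)
    rw [show Φ (D.x i) = D.x i from hd ⟨D.x i, (D.tr i).1⟩
        (Subalgebra.mem_center_iff.2 fun y => Subtype.ext ((D.tr i).comm y.2)),
      involute_eq_of_mem_even (D.tr i).1, (D.tr i).2.2, add_mul, eq_comm, add_eq_left] at h1
    have h2 := congrArg (fun z => a • (z * ι q v)) h1
    simp only [mul_assoc, ι_sq_scalar, zero_mul, smul_zero, ← Algebra.commutes, ← Algebra.smul_def, smul_smul, h,
      one_smul] at h2
    exact h2
  refine one_ne_zero (α := A) (algebraMap_injective q ?_)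
  rw [map_one, map_zero, ← D.one]
  exact Finset.sum_eq_zero fun i _ => by rw [hℓ, zero_mul]

section Main

variable {m : ℕ} {Q : QuadraticForm R (Fin (2 * m) → R)} (hQ : IsRegular Q) (D : Datum Q)

theorem idemEqn_dPoly : IdemEqn Q {dPoly hQ D (even_two_mul m)} := fun A _ _ g hg p hp => by
  rw [Finset.mem_singleton.1 hp]
  exact aeval_dPoly_idem hQ D (even_two_mul m) hg

theorem isSol_one_dPoly (hm : 1 ≤ m) (A : Type u) [CommRing A] [Algebra R A] :
    IsSol Q {dPoly hQ D (even_two_mul m)} (1 : Matrix (Fin (2 * m)) (Fin (2 * m)) A) := by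
  have h := (mem_sorth_even_iff hQ D (even_two_mul m) (by omega) (1 : (A ⊗[R] (Fin (2 * m) → R)) ≃ₗ[A] _)).1 (one_mem _)
  rwa [show LinearMap.toMatrix (bA (R := R) (n := 2 * m) A) (bA A)
    (1 : (A ⊗[R] (Fin (2 * m) → R)) ≃ₗ[A] (A ⊗[R] (Fin (2 * m) → R))).toLinearMap = 1 from LinearMap.toMatrix_id _] at h

variable [IsAlgClosed K]

set_option maxRecDepth 4000 in
/-- Only trivial idempotents over an algebraically closed field. -/
theorem idempotent_trivial_even (hm : 1 ≤ m) (ε : K ⊗[R] Coord Q {dPoly hQ D (even_two_mul m)})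
    (hε : IsIdempotentElem ε) : ε = 0 ∨ ε = 1 := by
  classical
  set q := baseChangeForm K Q
  have hidem := idemEqn_dPoly hQ D
  have h1 := isSol_one_dPoly hQ D hm K
  haveI : FiniteDimensional K (K ⊗[R] (Fin (2 * m) → R)) := Module.Finite.of_basis (bA K)
  have hnd : ∀ v, (∀ w, QuadraticMap.polarBilin q v w = 0) → v = 0 :=
    fun v hv => radical_eq_zero (Pi.basisFun R (Fin (2 * m))) hQ K v hv
  have hdim : Module.finrank K (K ⊗[R] (Fin (2 * m) → R)) = 2 * m := by
    rw [Module.finrank_eq_card_basis (bA K), Fintype.card_fin]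
  have hall : ∀ (g : Matrix (Fin (2 * m)) (Fin (2 * m)) K) (hg : IsSol Q _ g), valP ε g hg = valP ε 1 h1 := by
    intro g hg
    obtain ⟨gl, hgl⟩ : ∃ gl : (K ⊗[R] (Fin (2 * m) → R)) ≃ₗ[K] (K ⊗[R] (Fin (2 * m) → R)),
        LinearMap.toMatrix (bA K) (bA K) gl.toLinearMap = g :=
      ⟨toAut (R := R) K g (isUnit_det_of_isSol hQ (even_two_mul m) hg), toMatrix_toAut (R := R) K g _⟩
    have hsol : IsSol Q ∅ (LinearMap.toMatrix (bA K) (bA K) gl.toLinearMap) := by
      rw [hgl]; exact isSol_of_subset hg
    have hO : gl ∈ QuadGrp.O q := (mem_O_iff (Q := Q) K gl).2 hsol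
    obtain ⟨s, r, hs, ⟨e, f, hp, hfix, c, hc, hcase⟩, hgsr⟩ :=
      exists_el_plane m _ q hm hdim hnd gl.toLinearMap hO
    obtain ⟨s', hs', hss⟩ := hs.exists_inv q
    obtain ⟨hr, er⟩ := valP_el hidem ε hε hs' g hg
    have hrm : LinearMap.toMatrix (bA K) (bA K) s' * g = LinearMap.toMatrix (bA K) (bA K) r := by
      rw [← hgl, ← LinearMap.toMatrix_comp, hgsr, ← LinearMap.comp_assoc, hss, LinearMap.id_comp]
    have hspl : ∀ v, ∃ (a b : K) (u : K ⊗[R] (Fin (2 * m) → R)), QuadraticMap.polarBilin q e u = 0 ∧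
        QuadraticMap.polarBilin q f u = 0 ∧ v = a • e + b • f + u := fun v => by
      obtain ⟨⟨⟨a, b⟩, u⟩, rfl⟩ := (splitEquiv q hp).surjective v
      exact ⟨a, b, u.1, ((mem_compl q).1 u.2).1, ((mem_compl q).1 u.2).2, splitEquiv_apply q hp a b u⟩
    have hef : QuadraticMap.polar q e f = 1 := hp.bef
    have hfe : QuadraticMap.polar q f e = 1 := by rw [QuadraticMap.polar_comm]; exact hef
    rcases hcase with ⟨hre, hrf⟩ | ⟨hre, hrf⟩
    · have hrt : r = torusB q e f c c⁻¹ := LinearMap.ext fun v => by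
        obtain ⟨a, b, u, hu, hu', rfl⟩ := hspl v
        rw [QuadraticMap.polarBilin_apply_apply] at hu hu'
        rw [map_add, map_add, map_smul, map_smul, hre, hrf, hfix u hu hu', torusB_apply]
        simp only [QuadraticMap.polar_add_right, QuadraticMap.polar_smul_right, QuadraticMap.polar_self, hp.qe, hp.qf,
          hef, hfe, hu, hu', smul_zero, smul_eq_mul, mul_one, add_zero, zero_add, mul_zero]
        module
      obtain ⟨hr', er'⟩ := valP_torus hidem ε hε hp.qe hp.qf hef hc h1
      simp only [hrm, hrt] at hr er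
      rw [← er, er']
    · exfalso
      have hqu : -c⁻¹ * q (e - c • f) = 1 := by
        rw [show e - c • f = e + (-c) • f by module, QuadraticMap.map_add q, QuadraticMap.map_smul, hp.qe, hp.qf,
          QuadraticMap.polar_smul_right, hef]
        field_simp
        simp
      have hrr : r = (QuadCentre.refl q (e - c • f) (-c⁻¹) hqu).toLinearMap := LinearMap.ext fun v => by
        obtain ⟨a, b, u, hu, hu', rfl⟩ := hspl v
        rw [QuadraticMap.polarBilin_apply_apply] at hu hu'
        rw [map_add, map_add, map_smul, map_smul, hre, hrf, hfix u hu hu', LinearEquiv.coe_coe, QuadCentre.refl_apply]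
        simp only [QuadraticMap.polar_sub_left, QuadraticMap.polar_smul_left, QuadraticMap.polar_add_right,
          QuadraticMap.polar_smul_right, QuadraticMap.polar_self, hp.qe, hp.qf, hef, hfe, hu, hu', smul_zero,
          smul_eq_mul, mul_one, add_zero, zero_add, mul_zero, sub_zero]
        match_scalars <;> field_simp <;> ring
      simp only [hrm, hrr] at hr
      have := (mem_sorth_even_iff hQ D (even_two_mul m) (by omega) _).2 hr
      rw [QuadGrp.sorth, QuadGrp.SO, hdim, if_pos (even_two_mul m)] at this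
      exact refl_notMem_SOeven q (D.bc Q K) _ _ hqu this
  haveI : Algebra.FiniteType K (K ⊗[R] Coord Q {dPoly hQ D (even_two_mul m)}) := inferInstance
  refine eq_zero_or_one_of_points (K := K) ε hε (fun χ => ?_) ⟨Algebra.TensorProduct.lift (Algebra.ofId K K)
    ((OrthSmooth.homEquiv Q _ K).symm ⟨1, h1⟩) (fun _ _ => .all _ _), rfl⟩
  set φ := (χ.restrictScalars R).comp Algebra.TensorProduct.includeRight
  change χ ε = valP ε 1 h1
  rw [← hall _ (OrthSmooth.homEquiv Q _ K φ).2, valP]
  simp only [Subtype.coe_eta, Equiv.symm_apply_apply]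
  refine DFunLike.congr_fun (Algebra.TensorProduct.ext (Algebra.ext_id _ _ _) ?_) ε
  ext z
  simp [φ]

omit [Field K] [Algebra R K] [IsAlgClosed K] in
/-- The fibres of the coordinate ring are connected. -/
theorem isConnected_fibre_even (hm : 1 ≤ m) (p : PrimeSpectrum R) :
    _root_.IsConnected (PrimeSpectrum.comap (algebraMap R (Coord Q {dPoly hQ D (even_two_mul m)})) ⁻¹' {p}) := by
  classical
  haveI : Nontrivial (AlgebraicClosure p.asIdeal.ResidueField ⊗[R] Coord Q {dPoly hQ D (even_two_mul m)}) :=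
    (Algebra.TensorProduct.lift (Algebra.ofId (AlgebraicClosure p.asIdeal.ResidueField) _)
      ((OrthSmooth.homEquiv Q _ (AlgebraicClosure p.asIdeal.ResidueField)).symm
        ⟨1, isSol_one_dPoly hQ D hm _⟩) (fun _ _ => .all _ _)).toRingHom.domain_nontrivial
  exact isConnected_fibre_of_idempotents (A := Coord Q {dPoly hQ D (even_two_mul m)})
    (K := AlgebraicClosure p.asIdeal.ResidueField) p
    (fun e he => idempotent_trivial_even (K := AlgebraicClosure p.asIdeal.ResidueField) hQ D hm e he)

end Main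

end Groth.Agent.CliffSmooth
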