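import Groth.Agent.CliffSmooth.EvenSplit
import Groth.Agent.QuadCentre.Reflection
import Mathlib.GroupTheory.Index
import Mathlib.RingTheory.LocalRing.Basic
import Mathlib.RingTheory.Nilpotent.Lemmas
import Mathlib.RingTheory.Spectrum.Prime.Topology

/-!
# The Dickson invariant on points
-/

set_option autoImplicit false

universe u v w

namespace Groth.Agent.CliffSmooth

open CliffordAlgebra QuadGrp

variable {R : Type u} [CommRing R] {M : Type v} [AddCommGroup M] [Module R M] [Module.Free R M]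
  {Q : QuadraticForm R M} {n m : ℕ}

/-- Coordinates of a form. -/
noncomputable def coordQ (b : Module.Basis (Fin n) R M) (q : QuadraticForm R M) : QuadraticForm R (Fin n → R) :=
  q.comp b.equivFun.symm.toLinearMap

/-- The isometry with coordinates. -/
noncomputable def coordE (b : Module.Basis (Fin n) R M) (q : QuadraticForm R M) : q.IsometryEquiv (coordQ b q) :=
  { b.equivFun with
    map_app' := fun v => by
      change q (b.equivFun.symm (b.equivFun v)) = q v
      rw [LinearEquiv.symm_apply_apply] }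

theorem isRegular_coordQ (b : Module.Basis (Fin n) R M) (hQ : IsRegular Q) : IsRegular (coordQ b Q) := by
  have hpol : ∀ x y, QuadraticMap.polarBilin (coordQ b Q) x y =
      QuadraticMap.polarBilin Q (b.equivFun.symm x) (b.equivFun.symm y) := fun x y => by
    rw [QuadraticMap.polarBilin_apply_apply, QuadraticMap.polarBilin_apply_apply]
    simp only [coordQ, QuadraticMap.polar, QuadraticMap.comp_apply, LinearEquiv.coe_coe, map_add]
  constructor
  · intro x y h
    refine b.equivFun.symm.injective (hQ.1 (LinearMap.ext fun z => ?_))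
    have := LinearMap.congr_fun h (b.equivFun z)
    rwa [hpol, hpol, LinearEquiv.symm_apply_apply] at this
  · intro φ
    obtain ⟨x, hx⟩ := hQ.2 (φ.comp b.equivFun.toLinearMap)
    refine ⟨b.equivFun x, LinearMap.ext fun y => ?_⟩
    rw [hpol, LinearEquiv.symm_apply_apply, hx, LinearMap.comp_apply, LinearEquiv.coe_coe, LinearEquiv.apply_symm_apply]

theorem goodPolar_of_isRegular (b : Module.Basis (Fin n) R M) (hQ : IsRegular Q) : GoodPolar Q b :=
  goodPolar_of_goodMat (goodMat_of_isUnit_det (isUnit_det_polMat_of_isRegular b hQ))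

omit [Module.Free R M] in
theorem exists_polar_pair (b : Module.Basis (Fin n) R M) (hn : 0 < n) (hQ : IsRegular Q) :
    ∃ e f : M, QuadraticMap.polar Q e f = 1 := by
  obtain ⟨v, hv⟩ := hQ.2 (b.coord ⟨0, hn⟩)
  refine ⟨v, b ⟨0, hn⟩, ?_⟩
  rw [← QuadraticMap.polarBilin_apply_apply, hv]
  simp

/-- A datum exists in any universe. -/
theorem exists_datum_any (b : Module.Basis (Fin (2 * m)) R M) (hQ : IsRegular Q) : Nonempty (Datum Q) := by
  obtain ⟨D⟩ := exists_datum (Pi.basisFun R (Fin (2 * m))) (isRegular_coordQ b hQ)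
  set φ := CliffordAlgebra.map (coordE b Q).symm.toIsometry with hφ
  refine ⟨⟨D.k, φ ∘ D.x, φ ∘ D.ℓ, φ ∘ D.l, fun i => (D.tr i).map _ (coordE b Q).symm.toLinearEquiv.surjective,
    fun i => (D.acl i).map _ (coordE b Q).symm.toLinearEquiv.surjective, ?_⟩⟩
  simp only [Function.comp_apply, ← map_mul, ← map_sum, D.one, map_one]

variable (D : Datum Q) {b : Module.Basis (Fin n) R M}

theorem Datum.d_comp (hb : GoodPolar Q b) (g h : M ≃ₗ[R] M) (hg : g ∈ O Q) (hh : h ∈ O Q) :
    D.d (g * h) ((O Q).mul_mem hg hh) = D.d g hg + D.d h hh - 2 * (D.d g hg * D.d h hh) := by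
  set Φg := CliffordAlgebra.map (isometryOfMem Q g hg)
  set Φh := CliffordAlgebra.map (isometryOfMem Q h hh)
  have hc : CliffordAlgebra.map (isometryOfMem Q (g * h) ((O Q).mul_mem hg hh)) = Φg.comp Φh := by
    apply CliffordAlgebra.hom_ext; ext z; simp [Φg, Φh, isometryOfMem]
  apply algebraMap_injective Q
  rw [D.algebraMap_d hb, Datum.disp, hc]
  have key : ∀ i, (Φg.comp Φh) (D.x i) - D.x i =
      (D.d g hg + D.d h hh - 2 * (D.d g hg * D.d h hh)) • D.ℓ i := by
    intro i
    have e1 : Φh (D.x i) = D.x i + D.d h hh • D.ℓ i := eq_add_of_sub_eq' (D.map_eq hb h hh (D.tr i))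
    have e2 : Φg (D.x i) = D.x i + D.d g hg • D.ℓ i := eq_add_of_sub_eq' (D.map_eq hb g hg (D.tr i))
    have e3 : Φg (D.ℓ i) = D.ℓ i - (2 : R) • (D.d g hg • D.ℓ i) := by
      rw [(delta_spec hb g hg (D.tr i)).2, D.map_eq hb g hg (D.tr i)]
    rw [AlgHom.comp_apply, e1, map_add, map_smul, e2, e3]
    module
  rw [Finset.sum_congr rfl fun i _ => by rw [key i, smul_mul_assoc], ← Finset.smul_sum, D.one,
    Algebra.algebraMap_eq_smul_one]

theorem Datum.d_eq_zero_or_one [IsLocalRing R] (hb : GoodPolar Q b) (g : M ≃ₗ[R] M) (hg : g ∈ O Q) :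
    D.d g hg = 0 ∨ D.d g hg = 1 := by
  have h := D.idempotent hb g hg
  rcases IsLocalRing.isUnit_or_isUnit_of_add_one (a := D.d g hg) (b := 1 - D.d g hg) (by ring) with hu | hu
  · exact Or.inr ((IsIdempotentElem.iff_eq_one_of_isUnit hu).1 h)
  · exact Or.inl (sub_eq_self.1 ((IsIdempotentElem.iff_eq_one_of_isUnit hu).1 h.one_sub))

include D in
theorem Datum.refl_notMem [Nontrivial R] (v : M) (a : R) (h : a * Q v = 1) : QuadCentre.refl Q v a h ∉ SOeven Q := by
  rintro ⟨hg, hd⟩
  set Φ := CliffordAlgebra.map (isometryOfMem Q _ hg)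
  have hΦ : ∀ y, Φ y * ι Q v = ι Q v * involute y := by
    intro y
    induction y using CliffordAlgebra.induction with
    | algebraMap r => rw [AlgHom.commutes, AlgHom.commutes]; exact Algebra.commutes r _
    | ι z => rw [map_apply_ι, isometryOfMem_apply, QuadCentre.ι_refl_mul, involute_ι, mul_neg]
    | add x y hx hy => rw [map_add, map_add, add_mul, mul_add, hx, hy]
    | mul x y hx hy => rw [map_mul, map_mul, mul_assoc, hy, ← mul_assoc, hx, mul_assoc]
  have hℓ : ∀ i, D.ℓ i = 0 := by
    intro i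
    have h1 := hΦ (D.x i)
    rw [show Φ (D.x i) = D.x i from hd ⟨D.x i, (D.tr i).1⟩
        (Subalgebra.mem_center_iff.2 fun y => Subtype.ext ((D.tr i).comm y.2)),
      involute_eq_of_mem_even (D.tr i).1, (D.tr i).2.2, add_mul, eq_comm, add_eq_left] at h1
    have h2 := congrArg (fun z => a • (z * ι Q v)) h1
    simp only [mul_assoc, ι_sq_scalar, zero_mul, smul_zero, ← Algebra.commutes, ← Algebra.smul_def, smul_smul, h,
      one_smul] at h2
    exact h2
  refine one_ne_zero (α := R) (algebraMap_injective Q ?_)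
  rw [map_one, map_zero, ← D.one]
  exact Finset.sum_eq_zero fun i _ => by rw [hℓ, zero_mul]

omit [Module.Free R M] in
/-- Over a local ring a regular form takes a unit value. -/
theorem exists_unit_value [IsLocalRing R] {e f : M} (hef : QuadraticMap.polar Q e f = 1) :
    ∃ v : M, IsUnit (Q v) := by
  by_contra h
  push Not at h
  have hm : ∀ v, Q v ∈ IsLocalRing.maximalIdeal R := fun v => (IsLocalRing.mem_maximalIdeal _).2 (h v)
  have h1 : QuadraticMap.polar Q e f ∈ IsLocalRing.maximalIdeal R :=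
    Ideal.sub_mem _ (Ideal.sub_mem _ (hm _) (hm _)) (hm _)
  rw [hef] at h1
  exact (IsLocalRing.maximalIdeal.isMaximal R).ne_top ((Ideal.eq_top_iff_one _).2 h1)

variable [Module.Finite R M]

/-- The Dickson trivial isometries have index two. -/
theorem index_SOeven [IsLocalRing R] (hm : 1 ≤ m) (hM : Module.finrank R M = 2 * m) (hQ : IsRegular Q) :
    ((SOeven Q).subgroupOf (O Q)).index = 2 := by
  let b := Module.finBasisOfFinrankEq R M hM
  obtain ⟨D⟩ := exists_datum_any b hQ
  have hb := goodPolar_of_isRegular b hQ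
  obtain ⟨e, f, hef⟩ := exists_polar_pair b (by omega) hQ
  obtain ⟨v, hv⟩ := exists_unit_value hef
  obtain ⟨a, ha⟩ := hv.exists_left_inv
  have hmem : ∀ g (hg : g ∈ O Q), g ∈ SOeven Q ↔ D.d g hg = 0 := fun g hg => D.mem_SOeven_iff hb hef g hg
  set r := QuadCentre.refl Q v a ha
  have hr := QuadCentre.refl_mem_O Q ha
  have hr1 : D.d r hr = 1 := (D.d_eq_zero_or_one hb r hr).resolve_left fun h0 =>
    D.refl_notMem v a ha ((hmem r hr).2 h0)
  rw [Subgroup.index_eq_two_iff]
  refine ⟨⟨r, hr⟩, fun g => ?_⟩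
  simp only [Subgroup.mem_subgroupOf, Subgroup.coe_mul]
  rw [hmem _ g.2, hmem _ ((O Q).mul_mem g.2 hr), D.d_comp hb g.1 r g.2 hr, hr1]
  rcases D.d_eq_zero_or_one hb g.1 g.2 with h | h <;> rw [h]
  · exact Or.inr ⟨rfl, by norm_num⟩
  · exact Or.inl ⟨by norm_num, one_ne_zero⟩

end Groth.Agent.CliffSmooth
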