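import Groth.Agent.CliffSmooth.EvenConnected
import Groth.Agent.CliffSmooth.EvenLocal
import Mathlib.RingTheory.Smooth.Flat
import Mathlib.RingTheory.Flat.TorsionFree

/-!
# The determinant and the Dickson invariant
-/

set_option autoImplicit false

universe u v

namespace Groth.Agent.CliffSmooth

open CliffordAlgebra QuadGrp TensorProduct Groth.Agent.OrthSmooth Groth.Agent.QuadHalfDisc
open MvPolynomial (aeval)

section Points

variable {R : Type u} [CommRing R] {m : ℕ} {Q : QuadraticForm R (Fin (2 * m) → R)} (hQ : IsRegular Q) (D : Datum Q)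
  {K : Type u} [Field K] [Algebra R K] [IsAlgClosed K]

theorem isSol_el (hQ' : IsRegular Q) (D : Datum Q) (hm : 1 ≤ m)
    {t : K ⊗[R] (Fin (2 * m) → R) →ₗ[K] K ⊗[R] (Fin (2 * m) → R)} (ht : El (baseChangeForm K Q) t) :
    IsSol Q {dPoly hQ' D (even_two_mul m)} (LinearMap.toMatrix (bA K) (bA K) t) := by
  haveI hmul : IsIdempotentElem (Algebra.TensorProduct.includeLeft (R := R) (S := K)
      (B := Coord Q {dPoly hQ' D (even_two_mul m)}) (1 : K)) := by
    simp only [map_one, IsIdempotentElem, one_mul]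
  obtain ⟨hg', -⟩ := valP_el (idemEqn_dPoly hQ' D) _ hmul ht 1 (isSol_one_dPoly hQ' D hm K)
  rwa [mul_one] at hg'

include hQ in
set_option maxRecDepth 4000 in
/-- Over an algebraically closed field the determinant is the sign of the invariant. -/
theorem det_eq_of_field (hm : 1 ≤ m) (gl : (K ⊗[R] (Fin (2 * m) → R)) ≃ₗ[K] (K ⊗[R] (Fin (2 * m) → R)))
    (hO : gl ∈ O (baseChangeForm K Q)) :
    LinearMap.det gl.toLinearMap = 1 - 2 * (D.bc Q K).d gl hO := by
  classical
  set q := baseChangeForm K Q with hq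
  haveI : FiniteDimensional K (K ⊗[R] (Fin (2 * m) → R)) := Module.Finite.of_basis (bA K)
  have hnd : ∀ v, (∀ w, QuadraticMap.polarBilin q v w = 0) → v = 0 :=
    fun v hv => radical_eq_zero (Pi.basisFun R (Fin (2 * m))) hQ K v hv
  have hdim : Module.finrank K (K ⊗[R] (Fin (2 * m) → R)) = 2 * m := by
    rw [Module.finrank_eq_card_basis (bA K), Fintype.card_fin]
  obtain ⟨s, r, hs, ⟨e, f, hp, hfix, c, hc, hcase⟩, hgsr⟩ := exists_el_plane m _ q hm hdim hnd gl.toLinearMap hO
  have hef : QuadraticMap.polar q e f = 1 := hp.bef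
  have hfe : QuadraticMap.polar q f e = 1 := by rw [QuadraticMap.polar_comm]; exact hef
  have hb := goodPolar_baseChange (Pi.basisFun R (Fin (2 * m))) hQ K
  have key : ∀ g (hg : g ∈ O q), g ∈ SOeven q ↔ (D.bc Q K).d g hg = 0 := fun g hg =>
    (D.bc Q K).mem_SOeven_iff hb hef g hg
  -- the elementary part
  obtain ⟨si, hsi, hsis⟩ := hs.exists_inv q
  have hsbij : Function.Bijective s := by
    have hinj : Function.Injective s := fun x y h => by simpa [← LinearMap.comp_apply, hsis] using congrArg si h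
    exact ⟨hinj, LinearMap.injective_iff_surjective.1 hinj⟩
  set S := LinearEquiv.ofBijective s hsbij
  have hSO : S ∈ SOeven q := by
    obtain hg' := isSol_el hQ D hm hs
    have := (mem_sorth_even_iff hQ D (even_two_mul m) (by omega) S).2 hg'
    rwa [QuadGrp.sorth, QuadGrp.SO, hdim, if_pos (even_two_mul m)] at this
  -- the plane part
  have hspl : ∀ v, ∃ (a b : K) (u : K ⊗[R] (Fin (2 * m) → R)), QuadraticMap.polar q e u = 0 ∧
      QuadraticMap.polar q f u = 0 ∧ v = a • e + b • f + u := fun v => by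
    obtain ⟨⟨⟨a, b⟩, u⟩, rfl⟩ := (splitEquiv q hp).surjective v
    exact ⟨a, b, u.1, ((mem_compl q).1 u.2).1, ((mem_compl q).1 u.2).2, splitEquiv_apply q hp a b u⟩
  have hqu : ∀ c : K, c ≠ 0 → -c⁻¹ * q (e - c • f) = 1 := fun c hc => by
    rw [show e - c • f = e + (-c) • f by module, QuadraticMap.map_add q, QuadraticMap.map_smul, hp.qe, hp.qf,
      QuadraticMap.polar_smul_right, hef]
    field_simp
    simp
  let ρ := fun (c : K) (hc : c ≠ 0) => QuadCentre.refl q (e - c • f) (-c⁻¹) (hqu c hc)
  have hρe : ∀ (c : K) (hc : c ≠ 0), ρ c hc e = c • f ∧ ρ c hc f = c⁻¹ • e ∧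
      ∀ u, QuadraticMap.polar q e u = 0 → QuadraticMap.polar q f u = 0 → ρ c hc u = u := fun c hc => by
    refine ⟨?_, ?_, fun u hu hu' => ?_⟩ <;>
      simp only [ρ, QuadCentre.refl_apply, QuadraticMap.polar_sub_left, QuadraticMap.polar_smul_left,
        QuadraticMap.polar_self, hp.qe, hp.qf, hef, hfe, smul_zero, smul_eq_mul, mul_one, zero_sub, sub_zero]
    · match_scalars <;> field_simp <;> ring
    · match_scalars <;> field_simp <;> ring
    · simp [hu, hu']
  have hfinal : ∀ (T : (K ⊗[R] (Fin (2 * m) → R)) ≃ₗ[K] (K ⊗[R] (Fin (2 * m) → R))),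
      T.toLinearMap = r → gl = S * T := fun T hT => by
    refine LinearEquiv.toLinearMap_injective ?_
    rw [hgsr, ← hT]
    rfl
  rcases hcase with ⟨hre, hrf⟩ | ⟨hre, hrf⟩
  · -- two reflections
    set T := ρ c⁻¹ (inv_ne_zero hc) * ρ 1 one_ne_zero
    have hT : T.toLinearMap = r := by
      obtain ⟨a1, a2, a3⟩ := hρe c⁻¹ (inv_ne_zero hc)
      obtain ⟨b1, b2, b3⟩ := hρe 1 one_ne_zero
      refine LinearMap.ext fun v => ?_
      obtain ⟨a, b, u, hu, hu', rfl⟩ := hspl v
      simp only [T, LinearEquiv.coe_coe, LinearEquiv.mul_apply, map_add, map_smul, b1, b2, b3 u hu hu', one_smul,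
        inv_one, a1, a2, a3 u hu hu', hre, hrf, inv_inv]
      rw [hfix u (by simpa using hu) (by simpa using hu')]
    have hTS : T ∈ SOeven q := ⟨QuadCentre.refl_mul_refl_mem_O q (hqu c⁻¹ (inv_ne_zero hc)) (hqu 1 one_ne_zero),
      QuadCentre.isDicksonTrivial_refl_mul_refl q (hqu c⁻¹ (inv_ne_zero hc)) (hqu 1 one_ne_zero)⟩
    have hgl := hfinal T hT
    have hgs : gl ∈ SOeven q := hgl ▸ (SOeven q).mul_mem hSO hTS
    rw [(key gl hO).1 hgs, mul_zero, sub_zero, hgsr, LinearMap.det_comp, hs.det_eq_one, ← hT, one_mul]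
    have := QuadCentre.det_refl_mul_refl q (hqu c⁻¹ (inv_ne_zero hc)) (hqu 1 one_ne_zero)
    simpa [T, ρ] using congrArg Units.val this
  · -- one reflection
    set T := ρ c hc
    have hT : T.toLinearMap = r := by
      obtain ⟨a1, a2, a3⟩ := hρe c hc
      refine LinearMap.ext fun v => ?_
      obtain ⟨a, b, u, hu, hu', rfl⟩ := hspl v
      simp only [T, LinearEquiv.coe_coe, map_add, map_smul, a1, a2, a3 u hu hu', hre, hrf]
      rw [hfix u (by simpa using hu) (by simpa using hu')]
    have hgl := hfinal T hT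
    have hns : gl ∉ SOeven q := fun h => (D.bc Q K).refl_notMem _ _ (hqu c hc) (by
      have := (SOeven q).mul_mem ((SOeven q).inv_mem hSO) h
      rwa [hgl, inv_mul_cancel_left] at this)
    have h1 : (D.bc Q K).d gl hO = 1 := ((D.bc Q K).d_eq_zero_or_one hb gl hO).resolve_left fun h0 =>
      hns ((key gl hO).2 h0)
    rw [h1, hgsr, LinearMap.det_comp, hs.det_eq_one, ← hT, one_mul]
    rw [show LinearMap.det T.toLinearMap = -1 from QuadCentre.det_refl q (hqu c hc)]
    ring

end Points

section Universal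

/-- The integers in the universe `u`. -/
abbrev Z0 : Type u := MvPolynomial PEmpty.{u + 1} ℤ

/-- Every ring is an algebra over the integers in its universe. -/
noncomputable abbrev z0Alg (A : Type u) [CommRing A] : Algebra Z0.{u} A :=
  ((Int.castRingHom A).comp (MvPolynomial.isEmptyRingEquiv ℤ PEmpty.{u + 1}).toRingHom).toAlgebra

variable (m : ℕ)

/-- Indices of the first members of the pairs. -/
def iE (i : Fin m) : Fin (2 * m) := ⟨2 * i, by omega⟩

/-- Indices of the second members of the pairs. -/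
def iF (i : Fin m) : Fin (2 * m) := ⟨2 * i + 1, by omega⟩

theorem idx_cases (j : Fin (2 * m)) : ∃ i, j = iE m i ∨ j = iF m i := by
  refine ⟨⟨j / 2, by omega⟩, ?_⟩
  rcases Nat.mod_two_eq_zero_or_one j with h | h
  · exact Or.inl (Fin.ext (by simp [iE]; omega))
  · exact Or.inr (Fin.ext (by simp [iF]; omega))

/-- The standard hyperbolic form over any ring. -/
noncomputable def hypF (S : Type u) [CommRing S] : QuadraticForm S (Fin (2 * m) → S) :=
  ∑ i : Fin m, QuadraticMap.linMulLin (LinearMap.proj (iE m i)) (LinearMap.proj (iF m i))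

theorem hypF_apply (S : Type u) [CommRing S] (x : Fin (2 * m) → S) : hypF m S x = ∑ i, x (iE m i) * x (iF m i) := by
  simp [hypF, QuadraticMap.linMulLin_apply]

theorem polar_hypF (S : Type u) [CommRing S] (x y : Fin (2 * m) → S) :
    QuadraticMap.polar (hypF m S) x y = ∑ i, (x (iE m i) * y (iF m i) + x (iF m i) * y (iE m i)) := by
  simp only [QuadraticMap.polar, hypF_apply, Pi.add_apply, ← Finset.sum_sub_distrib]
  exact Finset.sum_congr rfl fun i _ => by ring

theorem isRegular_hypF (S : Type u) [CommRing S] : IsRegular (hypF m S) := by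
  classical
  have hE : ∀ i j, (iE m i = iE m j ↔ i = j) ∧ (iF m i = iF m j ↔ i = j) ∧ iE m i ≠ iF m j := fun i j => by
    simp [iE, iF, Fin.ext_iff]; omega
  have h1 : ∀ (x : Fin (2 * m) → S) j, QuadraticMap.polar (hypF m S) x (Pi.single (iF m j) 1) = x (iE m j) ∧
      QuadraticMap.polar (hypF m S) x (Pi.single (iE m j) 1) = x (iF m j) := fun x j => by
    simp [polar_hypF, Pi.single_apply, (hE _ _).1, (hE _ _).2.1, (hE _ _).2.2, ((hE _ _).2.2).symm]
  constructor
  · intro x y h
    funext k
    obtain ⟨i, rfl | rfl⟩ := idx_cases m k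
    · rw [← (h1 x i).1, ← (h1 y i).1]; exact LinearMap.congr_fun h _
    · rw [← (h1 x i).2, ← (h1 y i).2]; exact LinearMap.congr_fun h _
  · intro φ
    let x : Fin (2 * m) → S := fun k =>
      φ (Pi.single (if (k : ℕ) % 2 = 0 then iF m ⟨k / 2, by omega⟩ else iE m ⟨k / 2, by omega⟩) 1)
    have hx : ∀ i, x (iE m i) = φ (Pi.single (iF m i) 1) ∧ x (iF m i) = φ (Pi.single (iE m i) 1) := fun i => by
      constructor
      · have : (⟨(iE m i : ℕ) / 2, by omega⟩ : Fin m) = i := Fin.ext (by simp [iE])
        have h2 : (iE m i : ℕ) % 2 = 0 := by simp [iE]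
        simp only [x, h2, if_true, this]
      · have : (⟨(iF m i : ℕ) / 2, by omega⟩ : Fin m) = i := Fin.ext (by simp [iF]; omega)
        have h2 : ¬ (iF m i : ℕ) % 2 = 0 := by simp [iF]
        simp only [x, if_neg h2, this]
    refine ⟨x, LinearMap.pi_ext' fun k => LinearMap.ext_ring ?_⟩
    obtain ⟨i, rfl | rfl⟩ := idx_cases m k
    · exact ((h1 x i).2).trans (hx i).2
    · exact ((h1 x i).1).trans (hx i).1

set_option maxRecDepth 4000 in
/-- The universal identity. -/
theorem det_univ (hm : 1 ≤ m) (A : Type u) [CommRing A] :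
    letI := z0Alg A
    ∀ (D : Datum (hypF m Z0.{u})) (g : (A ⊗[Z0.{u}] (Fin (2 * m) → Z0.{u})) ≃ₗ[A] (A ⊗[Z0.{u}] (Fin (2 * m) → Z0.{u})))
      (hg : g ∈ O (baseChangeForm A (hypF m Z0.{u}))),
      LinearMap.det g.toLinearMap = 1 - 2 * (D.bc _ A).d g hg := by
  letI := z0Alg A
  set Q := hypF m Z0.{u}
  intro D g hg
  have hQ : IsRegular Q := isRegular_hypF m _
  have hn := even_two_mul m
  let C := Coord Q ∅
  set U := (OrthSmooth.homEquiv Q ∅ C (AlgHom.id _ C)).1
  have hU := (OrthSmooth.homEquiv Q ∅ C (AlgHom.id _ C)).2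
  have hnd : IsNondeg (Pi.basisFun Z0.{u} (Fin (2 * m))) (LinearEquiv.refl Z0.{u} Z0.{u}) Q :=
    ⟨fun _ => hQ, fun h => absurd hn (Nat.not_even_iff_odd.2 h)⟩
  set P : C := aeval (fun ij : Fin (2 * m) × Fin (2 * m) => U ij.1 ij.2) (dPoly hQ D hn)
  set c : C := U.det * (1 - 2 * P) - 1
  have hP : IsIdempotentElem P := aeval_dPoly_idem hQ D hn hU
  have hpts : ∀ (K : Type u) [Field K] [IsAlgClosed K] (ψ : C →+* K), ψ c = 0 := by
    intro K _ _ ψ
    letI : Algebra Z0.{u} K := (ψ.comp (algebraMap Z0.{u} C)).toAlgebra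
    let f : C →ₐ[Z0.{u}] K := ⟨ψ, fun _ => rfl⟩
    have hsol : IsSol Q ∅ (U.map f) := isSol_map f hU
    set gl := toAut (R := Z0.{u}) K (U.map f) (isUnit_det_of_isSol hQ hn hsol)
    have hgl : LinearMap.toMatrix (bA K) (bA K) gl.toLinearMap = U.map f := toMatrix_toAut (R := Z0.{u}) K _ _
    have hO : gl ∈ O (baseChangeForm K Q) := (mem_O_iff (Q := Q) K gl).2 (by rw [hgl]; exact hsol)
    have h := det_eq_of_field hQ D hm gl hO
    rw [d_eq_aeval hQ D hn hO, ← LinearMap.det_toMatrix (bA K), hgl] at h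
    have hfP : f P = aeval (fun ij : Fin (2 * m) × Fin (2 * m) => (U.map f) ij.1 ij.2) (dPoly hQ D hn) := by
      change (f.comp (aeval fun ij : Fin (2 * m) × Fin (2 * m) => U ij.1 ij.2)) (dPoly hQ D hn) = _
      exact DFunLike.congr_fun (MvPolynomial.algHom_ext fun ij => by simp) _
    change f c = 0
    rw [map_sub, map_mul, map_sub, map_mul, map_one, map_ofNat, AlgHom.map_det, AlgHom.mapMatrix_apply, h, hfP]
    have hid : IsIdempotentElem (f P) := hP.map f
    rw [hfP] at hid
    linear_combination 4 * hid.eq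
  have hnil : IsNilpotent c := by
    rw [nilpotent_iff_mem_prime]
    intro p hp
    let K := AlgebraicClosure p.ResidueField
    have h0 := hpts K ((algebraMap p.ResidueField K).comp (algebraMap C p.ResidueField))
    rw [RingHom.comp_apply, map_eq_zero_iff _ (algebraMap p.ResidueField K).injective,
      Ideal.algebraMap_residueField_eq_zero] at h0
    exact h0
  haveI : Algebra.Smooth Z0.{u} C :=
    { formallySmooth := formallySmooth_orth hnd (Or.inl hn), finitePresentation := inferInstance }
  haveI : Module.Flat Z0.{u} C := Algebra.Smooth.flat _ _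
  have h2 : ∀ x : C, 2 * x = 0 → x = 0 := by
    intro x hx
    have h2r : _root_.IsRegular (2 : Z0.{u}) := by
      have hinj : ∀ a b : Z0.{u}, (2 : Z0.{u}) * a = 2 * b → a = b := fun a b h => by
        have h' := congrArg (MvPolynomial.isEmptyRingEquiv ℤ PEmpty.{u + 1}) h
        simp only [map_mul, map_ofNat] at h'
        exact (MvPolynomial.isEmptyRingEquiv ℤ PEmpty.{u + 1}).injective (by omega)
      exact ⟨fun a b h => hinj a b h, fun a b h => hinj a b (by simpa [mul_comm] using h)⟩
    refine Module.Flat.isSMulRegular_of_isRegular (M := C) h2r ?_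
    change (2 : Z0.{u}) • x = (2 : Z0.{u}) • 0
    rw [smul_zero, two_smul, ← two_mul, hx]
  have hc2 : c * (c + 2) = 0 := by
    have hd := det_sq_eq_one hnd U ((isSol_empty_iff U).1 hU)
    linear_combination (1 - 2 * P) ^ 2 * hd + 4 * hP.eq
  have hc0 : c = 0 := by
    obtain ⟨k, hk⟩ := hnil
    induction k with
    | zero => exact (subsingleton_of_zero_eq_one (by rw [pow_zero] at hk; exact hk.symm)).elim _ _
    | succ k ih =>
      rcases k with _ | k
      · simpa using hk
      · refine ih (h2 _ ?_)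
        have e : c ^ (k + 1 + 1) + 2 * c ^ (k + 1) = c ^ k * (c * (c + 2)) := by ring
        rw [hc2, hk, mul_zero, zero_add] at e
        exact e
  -- specialise
  set M := LinearMap.toMatrix (bA A) (bA A) g.toLinearMap
  let f := (OrthSmooth.homEquiv Q ∅ A).symm ⟨M, (mem_O_iff A g).1 hg⟩
  have hfU : U.map f = M := by
    ext i j
    simp [f, U, OrthSmooth.homEquiv]
    exact MvPolynomial.aeval_X (fun ij : Fin (2 * m) × Fin (2 * m) => M ij.1 ij.2) (i, j)
  have hfP : f P = (D.bc _ A).d g hg := by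
    rw [d_eq_aeval hQ D hn hg]
    change (f.comp (aeval fun ij : Fin (2 * m) × Fin (2 * m) => U ij.1 ij.2)) (dPoly hQ D hn) = _
    refine DFunLike.congr_fun (MvPolynomial.algHom_ext fun ij => ?_) _
    simpa using congrFun (congrFun hfU ij.1) ij.2
  have h := congrArg f hc0
  rw [map_sub, map_mul, map_sub, map_mul, map_one, map_ofNat, AlgHom.map_det, AlgHom.mapMatrix_apply, hfU, hfP,
    LinearMap.det_toMatrix, map_zero, sub_eq_zero] at h
  have hid := (D.bc _ A).idempotent (goodPolar_baseChange (Pi.basisFun Z0.{u} (Fin (2 * m))) hQ A) g hg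
  linear_combination (1 - 2 * (D.bc _ A).d g hg) * h - 4 * (LinearMap.det g.toLinearMap) * hid.eq

end Universal

section Transfer

variable {m : ℕ}

theorem form_sum_pairs {A : Type u} [CommRing A] {V : Type v} [AddCommGroup V] [Module A V] {q : QuadraticForm A V}
    (F : Frame q m) (a b : Fin m → A) (s : Finset (Fin m)) :
    q (∑ i ∈ s, (a i • F.e i + b i • F.f i)) = ∑ i ∈ s, a i * b i := by
  classical
  induction s using Finset.induction_on with
  | empty => simp
  | @insert j s hj ih =>
    have hp : QuadraticMap.polarBilin q (a j • F.e j + b j • F.f j) (∑ i ∈ s, (a i • F.e i + b i • F.f i)) = 0 := by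
      rw [map_sum]
      refine Finset.sum_eq_zero fun i hi => ?_
      have hne : j ≠ i := fun e => hj (e ▸ hi)
      simp [F.ee, F.ff, F.ef, F.fe, hne, Ne.symm hne]
    rw [Finset.sum_insert hj, Finset.sum_insert hj, QuadraticMap.map_add q, ih,
      show QuadraticMap.polar q (a j • F.e j + b j • F.f j) (∑ i ∈ s, (a i • F.e i + b i • F.f i)) = 0 from hp,
      QuadraticMap.map_add q, QuadraticMap.map_smul, QuadraticMap.map_smul, F.qe, F.qf,
      QuadraticMap.polar_smul_left, QuadraticMap.polar_smul_right, F.ef, if_pos rfl]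
    simp

set_option maxHeartbeats 1000000 in
/-- The determinant is the sign of the Dickson invariant. -/
theorem det_eq_coord {R : Type u} [CommRing R] {Q : QuadraticForm R (Fin (2 * m) → R)} (hQ : IsRegular Q) (hm : 1 ≤ m)
    (D : Datum Q) (g : (Fin (2 * m) → R) ≃ₗ[R] (Fin (2 * m) → R)) (hg : g ∈ O Q) :
    LinearMap.det g.toLinearMap = 1 - 2 * D.d g hg := by
  classical
  obtain ⟨A, _, _, hA, ⟨F⟩⟩ := exists_evenFrame (Pi.basisFun R (Fin (2 * m))) hQ
  haveI := hA.1
  let b := Pi.basisFun R (Fin (2 * m))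
  apply FaithfulSMul.algebraMap_injective R A
  set gA := g.baseChange R A (Fin (2 * m) → R) (Fin (2 * m) → R)
  have hgA : gA ∈ O (baseChangeForm A Q) := by
    rw [mem_O]
    intro v
    have : (baseChangeForm A Q).comp gA.toLinearMap = baseChangeForm A Q := by
      refine _root_.baseChange_ext fun x => ?_
      simp [gA, baseChangeForm_one_tmul, hg x]
    exact DFunLike.congr_fun this v
  have hgv : ∀ x : Fin (2 * m) → R, gA ((1 : A) ⊗ₜ[R] x) = (1 : A) ⊗ₜ[R] g x := fun x => by simp [gA]
  have hb' := goodPolar_baseChange b hQ A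
  have e1 : (D.bc Q A).d gA hgA = algebraMap R A (D.d g hg) := by
    refine Datum.d_natural D (goodPolar_of_isRegular b hQ) hb' (D.bc Q A) (algebraMap R A)
      (fun x => (1 : A) ⊗ₜ[R] x) (bcl Q A).toRingHom (fun v => ofBCAux_ι Q A v) (fun r => ?_)
      (fun i => (D.tr i).bcl A) hg hgA hgv
    change bcl Q A (algebraMap R _ r) = _
    rw [AlgHom.commutes]
    exact IsScalarTower.algebraMap_apply R A _ r
  rw [map_sub, map_mul, map_one, map_ofNat, ← e1, ← LinearMap.det_baseChange]
  change LinearMap.det gA.toLinearMap = _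
  -- the split model
  letI := z0Alg A
  let Q0 := hypF m Z0.{u}
  let Q0A := baseChangeForm A Q0
  obtain ⟨D0⟩ := exists_datum (Pi.basisFun Z0.{u} (Fin (2 * m))) (isRegular_hypF m _)
  let β := bA (R := Z0.{u}) (n := 2 * m) A
  let L : (A ⊗[Z0.{u}] (Fin (2 * m) → Z0.{u})) →ₗ[A] (A ⊗[R] (Fin (2 * m) → R)) :=
    ∑ i : Fin m, ((β.coord (iE m i)).smulRight (F.e i) + (β.coord (iF m i)).smulRight (F.f i))
  have hL : ∀ x, L x = ∑ i, (β.repr x (iE m i) • F.e i + β.repr x (iF m i) • F.f i) := fun x => by simp [L]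
  have hcoef : ∀ (a c : Fin m → A) j, QuadraticMap.polarBilin (baseChangeForm A Q) (F.f j)
      (∑ i, (a i • F.e i + c i • F.f i)) = a j ∧
      QuadraticMap.polarBilin (baseChangeForm A Q) (F.e j) (∑ i, (a i • F.e i + c i • F.f i)) = c j := fun a c j => by
    simp only [map_sum, map_add, map_smul, QuadraticMap.polarBilin_apply_apply]
    simp [F.fe, F.ff, F.ee, F.ef, Finset.sum_add_distrib]
  have hLbij : Function.Bijective L := by
    constructor
    · rw [injective_iff_map_eq_zero]
      intro x hx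
      apply β.repr.injective
      rw [map_zero]
      refine Finsupp.ext fun k => ?_
      rw [hL] at hx
      obtain ⟨i, rfl | rfl⟩ := idx_cases m k
      · have := (hcoef (fun i => β.repr x (iE m i)) (fun i => β.repr x (iF m i)) i).1
        rw [hx, map_zero] at this
        exact this.symm
      · have := (hcoef (fun i => β.repr x (iE m i)) (fun i => β.repr x (iF m i)) i).2
        rw [hx, map_zero] at this
        exact this.symm
    · intro y
      have hy := F.proj_eq_zero (Algebra.TensorProduct.basis A b) y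
      rw [Frame.proj_apply, sub_eq_zero] at hy
      refine ⟨∑ i, (QuadraticMap.polar (baseChangeForm A Q) (F.f i) y • β (iE m i) +
        QuadraticMap.polar (baseChangeForm A Q) (F.e i) y • β (iF m i)), ?_⟩
      conv_rhs => rw [hy]
      have hne : ∀ i j, iE m i ≠ iF m j ∧ (iE m i = iE m j ↔ i = j) ∧ (iF m i = iF m j ↔ i = j) := fun i j => by
        simp only [iE, iF, ne_eq, Fin.mk.injEq, Fin.ext_iff]
        omega
      have hb1 : ∀ i, L (β (iE m i)) = F.e i ∧ L (β (iF m i)) = F.f i := fun i => by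
        rw [hL, hL]
        constructor <;> refine (Finset.sum_eq_single i (fun k _ hk => ?_) fun h => absurd (Finset.mem_univ i) h).trans ?_
        · rw [Module.Basis.repr_self_apply, Module.Basis.repr_self_apply, if_neg fun e => hk ((hne i k).2.1.1 e).symm,
            if_neg (hne i k).1, zero_smul, zero_smul, add_zero]
        · rw [Module.Basis.repr_self_apply, Module.Basis.repr_self_apply, if_pos rfl,
            if_neg (hne i i).1, one_smul, zero_smul, add_zero]
        · rw [Module.Basis.repr_self_apply, Module.Basis.repr_self_apply, if_neg (hne k i).1.symm,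
            if_neg fun e => hk ((hne i k).2.2.1 e).symm, zero_smul, zero_smul, add_zero]
        · rw [Module.Basis.repr_self_apply, Module.Basis.repr_self_apply, if_neg (hne i i).1.symm,
            if_pos rfl, one_smul, zero_smul, zero_add]
      rw [map_sum]
      refine Finset.sum_congr rfl fun i _ => ?_
      rw [map_add, map_smul, map_smul, (hb1 i).1, (hb1 i).2]
  have hLq : ∀ x, baseChangeForm A Q (L x) = Q0A x := by
    have h0 : Q0A = ∑ i : Fin m, QuadraticMap.linMulLin (β.coord (iE m i)) (β.coord (iF m i)) := by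
      refine _root_.baseChange_ext fun x => ?_
      simp [Q0A, Q0, baseChangeForm_one_tmul, hypF_apply, β, bA, map_sum, QuadraticMap.linMulLin_apply,
        Algebra.TensorProduct.basis_repr_tmul]
    intro x
    rw [hL, form_sum_pairs F, h0]
    simp [QuadraticMap.linMulLin_apply]
  let Le := LinearEquiv.ofBijective L hLbij
  let g0 := (Le.trans gA).trans Le.symm
  have hg0 : g0 ∈ O Q0A := fun x => by
    change Q0A (Le.symm (gA (Le x))) = Q0A x
    rw [← hLq, show L (Le.symm (gA (Le x))) = gA (Le x) from Le.apply_symm_apply _, hgA, ← hLq]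
    rfl
  have h := det_univ m hm A D0 g0 hg0
  have hdet : LinearMap.det g0.toLinearMap = LinearMap.det gA.toLinearMap :=
    LinearMap.det_conj gA.toLinearMap Le.symm
  let E : Q0A →qᵢ baseChangeForm A Q := ⟨L, hLq⟩
  have e2 : (D.bc Q A).d gA hgA = (D0.bc Q0 A).d g0 hg0 := by
    refine Datum.d_natural (D0.bc Q0 A) (goodPolar_baseChange (Pi.basisFun Z0.{u} (Fin (2 * m))) (isRegular_hypF m _) A)
      hb' (D.bc Q A) (RingHom.id A) L (CliffordAlgebra.map E).toRingHom (fun v => map_apply_ι E v)
      (fun a => AlgHom.commutes (CliffordAlgebra.map E) a) (fun i => ((D0.bc Q0 A).tr i).map E hLbij.2) hg0 hgA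
      fun v => ?_
    exact (Le.apply_symm_apply (gA (Le v))).symm
  rw [← hdet, h, e2]

end Transfer

section General

variable {R : Type u} [CommRing R] {M : Type v} [AddCommGroup M] [Module R M] [Module.Free R M] [Module.Finite R M]
  {Q : QuadraticForm R M} {m : ℕ}

/-- The determinant is the sign of the Dickson invariant. -/
theorem det_eq (hm : 1 ≤ m) (b : Module.Basis (Fin (2 * m)) R M) (hQ : IsRegular Q) (D : Datum Q)
    (g : M ≃ₗ[R] M) (hg : g ∈ O Q) : LinearMap.det g.toLinearMap = 1 - 2 * D.d g hg := by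
  let E := coordE b Q
  obtain ⟨D'⟩ := exists_datum (Pi.basisFun R (Fin (2 * m))) (isRegular_coordQ b hQ)
  let g' := (b.equivFun.symm.trans g).trans b.equivFun
  have hg' : g' ∈ O (coordQ b Q) := fun x => by
    change Q (b.equivFun.symm (b.equivFun (g (b.equivFun.symm x)))) = Q (b.equivFun.symm x)
    rw [LinearEquiv.symm_apply_apply, hg]
  have h := det_eq_coord (isRegular_coordQ b hQ) hm D' g' hg'
  have hd : D'.d g' hg' = D.d g hg := by
    refine Datum.d_natural D (goodPolar_of_isRegular b hQ)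
      (goodPolar_of_isRegular (Pi.basisFun R (Fin (2 * m))) (isRegular_coordQ b hQ)) D' (RingHom.id R) b.equivFun
      (CliffordAlgebra.map E.toIsometry).toRingHom (fun v => map_apply_ι E.toIsometry v)
      (fun a => AlgHom.commutes (CliffordAlgebra.map E.toIsometry) a)
      (fun i => (D.tr i).map E.toIsometry E.toLinearEquiv.surjective) hg hg' fun v => ?_
    change b.equivFun (g (b.equivFun.symm (b.equivFun v))) = _
    rw [LinearEquiv.symm_apply_apply]
  have hdet : LinearMap.det g'.toLinearMap = LinearMap.det g.toLinearMap := LinearMap.det_conj g.toLinearMap b.equivFun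
  rw [← hdet, h, hd]

theorem SOeven_le_SO' (hm : 1 ≤ m) (hM : Module.finrank R M = 2 * m) (hQ : IsRegular Q) : SOeven Q ≤ SO' Q := by
  intro g hgs
  obtain ⟨hg, -⟩ := id hgs
  rcases subsingleton_or_nontrivial R with hR | hR
  · exact ⟨hg, MonoidHom.mem_ker.2 (Units.ext (Subsingleton.elim _ _))⟩
  let b := Module.finBasisOfFinrankEq R M hM
  obtain ⟨D⟩ := exists_datum_any b hQ
  obtain ⟨e, f, hef⟩ := exists_polar_pair b (by omega) hQ
  have h0 := (D.mem_SOeven_iff (goodPolar_of_isRegular b hQ) hef g hg).1 hgs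
  refine ⟨hg, MonoidHom.mem_ker.2 (Units.ext ?_)⟩
  rw [LinearEquiv.coe_det, Units.val_one, det_eq hm b hQ D g hg, h0, mul_zero, sub_zero]

theorem SOeven_eq_SO' [Invertible (2 : R)] (hm : 1 ≤ m) (hM : Module.finrank R M = 2 * m) (hQ : IsRegular Q) :
    SOeven Q = SO' Q := by
  refine le_antisymm (SOeven_le_SO' hm hM hQ) fun g hgs => ?_
  rcases subsingleton_or_nontrivial R with hR | hR
  · haveI : Subsingleton M := Module.subsingleton R M
    rw [show g = 1 from LinearEquiv.ext fun v => Subsingleton.elim _ _]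
    exact one_mem _
  let b := Module.finBasisOfFinrankEq R M hM
  obtain ⟨D⟩ := exists_datum_any b hQ
  obtain ⟨e, f, hef⟩ := exists_polar_pair b (by omega) hQ
  refine (D.mem_SOeven_iff (goodPolar_of_isRegular b hQ) hef g hgs.1).2 ?_
  have h := congrArg Units.val (MonoidHom.mem_ker.1 hgs.2)
  rw [LinearEquiv.coe_det, Units.val_one, det_eq hm b hQ D g hgs.1, sub_eq_self] at h
  exact (isUnit_of_invertible (2 : R)).mul_right_eq_zero.1 h

theorem det_of_not_dickson (hc : ConnectedSpace (PrimeSpectrum R)) (hm : 1 ≤ m) (hM : Module.finrank R M = 2 * m)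
    (hQ : IsRegular Q) (g : M ≃ₗ[R] M) (hg : g ∈ O Q) (hD : ¬ IsDicksonTrivial Q g hg) :
    LinearEquiv.det g = -1 := by
  rcases subsingleton_or_nontrivial R with hR | hR
  · exact Units.ext (Subsingleton.elim _ _)
  let b := Module.finBasisOfFinrankEq R M hM
  obtain ⟨D⟩ := exists_datum_any b hQ
  obtain ⟨e, f, hef⟩ := exists_polar_pair b (by omega) hQ
  have hb := goodPolar_of_isRegular b hQ
  have h1 : D.d g hg = 1 := by
    have hid := D.idempotent hb g hg
    rcases isClopen_iff.1 (PrimeSpectrum.isClopen_iff.2 ⟨_, hid, rfl⟩) with h | h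
    · exfalso
      refine hD ?_
      obtain ⟨_, h'⟩ := (D.mem_SOeven_iff hb hef g hg).2 (by
        have := PrimeSpectrum.basicOpen_eq_bot_iff _ |>.1 (TopologicalSpace.Opens.coe_eq_empty.1 h)
        obtain ⟨k, hk⟩ := this
        rcases k with _ | k
        · exact (subsingleton_of_zero_eq_one (by rw [pow_zero] at hk; exact hk.symm)).elim _ _
        · rwa [hid.pow_succ_eq] at hk)
      exact h'
    · refine (IsIdempotentElem.iff_eq_one_of_isUnit ?_).1 hid
      by_contra hu
      obtain ⟨p, hp, hmem⟩ := exists_max_ideal_of_mem_nonunits (a := D.d g hg) hu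
      have : (⟨p, hp.isPrime⟩ : PrimeSpectrum R) ∈ (PrimeSpectrum.basicOpen (D.d g hg) : Set (PrimeSpectrum R)) :=
        h ▸ Set.mem_univ _
      exact this hmem
  refine Units.ext ?_
  rw [LinearEquiv.coe_det, det_eq hm b hQ D g hg, h1, Units.val_neg, Units.val_one]
  norm_num

end General

end Groth.Agent.CliffSmooth
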