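import Groth.Agent.CliffSmooth.EvenRank
import Groth.Agent.CliffSmooth.BaseChange

/-!
# The Dickson invariant of a regular form of even rank
-/

set_option autoImplicit false

universe u v w

namespace Groth.Agent.CliffSmooth

open CliffordAlgebra QuadGrp

section Basic

variable {A : Type u} [CommRing A] {V : Type v} [AddCommGroup V] [Module A V] (q : QuadraticForm A V)

/-- An even element anticommuting with vectors. -/
def AC (z : CliffordAlgebra q) : Prop := z ∈ evenOdd q 0 ∧ ∀ v, ι q v * z = -(z * ι q v)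

/-- An even element central in the even part, with its trace defect. -/
def Tr (x ℓ : CliffordAlgebra q) : Prop :=
  x ∈ evenOdd q 0 ∧ AC q ℓ ∧ ∀ v, ι q v * x = (x + ℓ) * ι q v

variable {q}

theorem AC.mul_eq {ℓ : CliffordAlgebra q} (h : AC q ℓ) (y : CliffordAlgebra q) : y * ℓ = ℓ * involute y := by
  induction y using CliffordAlgebra.induction with
  | algebraMap r => rw [AlgHom.commutes]; exact Algebra.commutes r ℓ
  | ι v => rw [involute_ι, mul_neg, h.2]
  | add a c ha hc => rw [add_mul, map_add, mul_add, ha, hc]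
  | mul a c ha hc => rw [map_mul, mul_assoc, hc, ← mul_assoc, ha, mul_assoc]

theorem AC.comm {ℓ y : CliffordAlgebra q} (h : AC q ℓ) (hy : y ∈ evenOdd q 0) : y * ℓ = ℓ * y := by
  rw [h.mul_eq, involute_eq_of_mem_even hy]

theorem AC.mul_commutes {ℓ μ : CliffordAlgebra q} (h : AC q ℓ) (h' : AC q μ) :
    ℓ * μ ∈ evenOdd q 0 ∧ ∀ v, ι q v * (ℓ * μ) = ℓ * μ * ι q v := by
  refine ⟨by simpa using SetLike.mul_mem_graded h.1 h'.1, fun v => ?_⟩
  rw [← mul_assoc, h.2, neg_mul, mul_assoc, h'.2, mul_neg, neg_neg, mul_assoc]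

theorem AC.add {ℓ μ : CliffordAlgebra q} (h : AC q ℓ) (h' : AC q μ) : AC q (ℓ + μ) :=
  ⟨Submodule.add_mem _ h.1 h'.1, fun v => by rw [mul_add, h.2, h'.2, add_mul, neg_add]⟩

theorem AC.smul {ℓ : CliffordAlgebra q} (c : A) (h : AC q ℓ) : AC q (c • ℓ) :=
  ⟨Submodule.smul_mem _ _ h.1, fun v => by rw [mul_smul_comm, h.2, smul_neg, smul_mul_assoc]⟩

theorem AC.zero : AC q (0 : CliffordAlgebra q) := ⟨zero_mem _, fun v => by simp⟩

theorem AC.sum {T : Type*} {s : Finset T} {f : T → CliffordAlgebra q} (h : ∀ t ∈ s, AC q (f t)) :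
    AC q (∑ t ∈ s, f t) := by
  classical
  induction s using Finset.induction_on with
  | empty => simpa using AC.zero
  | @insert a s ha ih =>
    rw [Finset.sum_insert ha]
    exact (h a (Finset.mem_insert_self a s)).add (ih fun t ht => h t (Finset.mem_insert_of_mem ht))

theorem Tr.comm {x ℓ : CliffordAlgebra q} (h : Tr q x ℓ) {y : CliffordAlgebra q} (hy : y ∈ evenOdd q 0) :
    y * x = x * y := by
  induction y, hy using CliffordAlgebra.evenOdd_induction (Q := q) (n := (0 : ZMod 2)) with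
  | range_ι_pow v hv =>
    rw [ZMod.val_zero, pow_zero, Submodule.mem_one] at hv
    obtain ⟨r, rfl⟩ := hv
    exact Algebra.commutes r x
  | add a c _ _ ha hc => rw [add_mul, ha, hc, mul_add]
  | ι_mul_ι_mul v w a _ ih =>
    have hvw : ι q v * ι q w * x = x * (ι q v * ι q w) := by
      rw [mul_assoc, h.2.2 w, ← mul_assoc, mul_add, h.2.2 v, h.2.1.2 v, add_mul, add_mul, add_mul, neg_mul]
      simp only [mul_assoc]
      abel
    rw [mul_assoc, ih, ← mul_assoc, hvw, mul_assoc]

/-- An element central in the even part has a trace defect, given a pair of polar one. -/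
theorem exists_tr {z : CliffordAlgebra q} (hz : z ∈ evenOdd q 0) (hzc : ∀ y ∈ evenOdd q 0, y * z = z * y)
    {e f : V} (hef : QuadraticMap.polar q e f = 1) : ∃ ℓ, Tr q z ℓ := by
  set E := ι q e
  set F := ι q f
  set z' := E * z * F + F * z * E
  have h1 : E * F + F * E = 1 := by simp only [E, F, ι_mul_ι_add_swap, hef, map_one]
  have hc : ∀ (a b : V) (y : CliffordAlgebra q), ι q a * (ι q b * (z * y)) = z * (ι q a * (ι q b * y)) := fun a b y => by
    rw [← mul_assoc (ι q a), ← mul_assoc, hzc _ (ι_mul_ι_mem_evenOdd_zero q a b)]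
    simp only [mul_assoc]
  have hc0 : ∀ (a b : V), ι q a * (ι q b * z) = z * (ι q a * ι q b) := fun a b => by
    simpa using hc a b 1
  have h2 : ∀ v, z' * ι q v = ι q v * z := by
    intro v
    calc z' * ι q v = E * (z * (F * ι q v)) + F * (z * (E * ι q v)) := by simp only [z', add_mul, mul_assoc]
      _ = E * (F * (ι q v * z)) + F * (E * (ι q v * z)) := by rw [hc0 f v, hc0 e v]
      _ = (E * F + F * E) * (ι q v * z) := by simp only [add_mul, mul_assoc]
      _ = ι q v * z := by rw [h1, one_mul]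
  have h3 : ∀ v, ι q v * z' = z * ι q v := by
    intro v
    calc ι q v * z' = ι q v * (E * (z * F)) + ι q v * (F * (z * E)) := by simp only [z', mul_add, mul_assoc]
      _ = z * (ι q v * ((E * F) + F * E)) := by rw [hc v e F, hc v f E, ← mul_add, ← mul_add]
      _ = z * ι q v := by rw [h1, mul_one]
  have hz' : z' ∈ evenOdd q 0 := by
    have : ∀ a b : V, ι q a * z * ι q b ∈ evenOdd q 0 := fun a b => by
      have := SetLike.mul_mem_graded (SetLike.mul_mem_graded (ι_mem_evenOdd_one q a) hz) (ι_mem_evenOdd_one q b)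
      rwa [add_zero, show (1 : ZMod 2) + 1 = 0 from rfl] at this
    exact Submodule.add_mem _ (this e f) (this f e)
  refine ⟨z' - z, hz, ⟨Submodule.sub_mem _ hz' hz, fun v => ?_⟩, fun v => ?_⟩
  · rw [mul_sub, sub_mul, h2, h3, neg_sub]
  · rw [add_sub_cancel, h2]

variable {W : Type w} [AddCommGroup W] [Module A W] {p : QuadraticForm A W}

theorem map_mem_even (f : p →qᵢ q) {x : CliffordAlgebra p} (hx : x ∈ evenOdd p 0) :
    CliffordAlgebra.map f x ∈ evenOdd q 0 := by
  induction x, hx using CliffordAlgebra.evenOdd_induction (Q := p) (n := (0 : ZMod 2)) with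
  | range_ι_pow v hv =>
    rw [ZMod.val_zero, pow_zero, Submodule.mem_one] at hv
    obtain ⟨r, rfl⟩ := hv
    rw [AlgHom.commutes]
    exact SetLike.algebraMap_mem_graded _ _
  | add x y _ _ ihx ihy => rw [map_add]; exact Submodule.add_mem _ ihx ihy
  | ι_mul_ι_mul m₁ m₂ x _ ih =>
    rw [map_mul, map_mul, map_apply_ι, map_apply_ι]
    have := SetLike.mul_mem_graded (ι_mul_ι_mem_evenOdd_zero q (f m₁) (f m₂)) ih
    rwa [zero_add] at this

theorem AC.map (f : p →qᵢ q) (hf : Function.Surjective f) {ℓ : CliffordAlgebra p} (h : AC p ℓ) :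
    AC q (CliffordAlgebra.map f ℓ) := by
  refine ⟨map_mem_even f h.1, fun v => ?_⟩
  obtain ⟨v, rfl⟩ := hf v
  rw [← map_apply_ι, ← map_mul, ← map_mul, h.2, map_neg]

theorem Tr.map (f : p →qᵢ q) (hf : Function.Surjective f) {x ℓ : CliffordAlgebra p} (h : Tr p x ℓ) :
    Tr q (CliffordAlgebra.map f x) (CliffordAlgebra.map f ℓ) := by
  refine ⟨map_mem_even f h.1, h.2.1.map f hf, fun v => ?_⟩
  obtain ⟨v, rfl⟩ := hf v
  rw [← map_apply_ι, ← map_mul, ← map_add, ← map_mul, h.2.2]

end Basic

section Datum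

variable {A : Type u} [CommRing A] {V : Type v} [AddCommGroup V] [Module A V] {q : QuadraticForm A V}

/-- Finitely many central elements of the even part whose defects generate. -/
structure Datum (q : QuadraticForm A V) where
  k : ℕ
  x : Fin k → CliffordAlgebra q
  ℓ : Fin k → CliffordAlgebra q
  l : Fin k → CliffordAlgebra q
  tr : ∀ i, Tr q (x i) (ℓ i)
  acl : ∀ i, AC q (l i)
  one : ∑ i, ℓ i * l i = 1

variable [Module.Free A V] (D : Datum q)

/-- The displacement of the datum. -/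
noncomputable def Datum.disp (g : V ≃ₗ[A] V) (hg : g ∈ O q) : CliffordAlgebra q :=
  ∑ i, (CliffordAlgebra.map (isometryOfMem q g hg) (D.x i) - D.x i) * D.l i

/-- The Dickson invariant. -/
noncomputable def Datum.d (g : V ≃ₗ[A] V) (hg : g ∈ O q) : A :=
  ExteriorAlgebra.algebraMapInv (toExt q (D.disp g hg))

variable {n : ℕ} {b : Module.Basis (Fin n) A V}

omit [Module.Free A V] in
theorem map_tr (g : V ≃ₗ[A] V) (hg : g ∈ O q) {x ℓ : CliffordAlgebra q} (h : Tr q x ℓ) :
    Tr q (CliffordAlgebra.map (isometryOfMem q g hg) x) (CliffordAlgebra.map (isometryOfMem q g hg) ℓ) :=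
  h.map _ g.surjective

theorem delta_spec (hb : GoodPolar q b) (g : V ≃ₗ[A] V) (hg : g ∈ O q) {x ℓ : CliffordAlgebra q} (h : Tr q x ℓ) :
    AC q (CliffordAlgebra.map (isometryOfMem q g hg) x - x) ∧
      CliffordAlgebra.map (isometryOfMem q g hg) ℓ =
        ℓ - (2 : A) • (CliffordAlgebra.map (isometryOfMem q g hg) x - x) := by
  set Φ := CliffordAlgebra.map (isometryOfMem q g hg)
  have h' := map_tr g hg h
  obtain ⟨s, hs⟩ := even_central hb (x := (2 : A) • x + ℓ) (Submodule.add_mem _ (Submodule.smul_mem _ _ h.1) h.2.1.1)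
    fun v => by
      rw [mul_add, mul_smul_comm, h.2.2, h.2.1.2, add_mul, add_mul, smul_add, smul_mul_assoc, two_smul, two_smul]
      abel
  have e : Φ ℓ = ℓ - (2 : A) • (Φ x - x) := by
    have h1 : (2 : A) • Φ x + Φ ℓ = (2 : A) • x + ℓ := by rw [← map_smul, ← map_add, ← hs, AlgHom.commutes]
    rw [smul_sub, eq_sub_of_add_eq' h1]
    abel
  refine ⟨⟨Submodule.sub_mem _ h'.1 h.1, fun v => ?_⟩, e⟩
  rw [mul_sub, h'.2.2, h.2.2, show CliffordAlgebra.map (isometryOfMem q g hg) ℓ = Φ ℓ from rfl, e, two_smul]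
  simp only [add_mul, sub_mul, neg_sub]
  abel

theorem Datum.algebraMap_d (hb : GoodPolar q b) (g : V ≃ₗ[A] V) (hg : g ∈ O q) :
    algebraMap A (CliffordAlgebra q) (D.d g hg) = D.disp g hg := by
  have h : D.disp g hg ∈ (algebraMap A (CliffordAlgebra q)).range := by
    refine Subring.sum_mem _ fun i _ => ?_
    have := (delta_spec hb g hg (D.tr i)).1.mul_commutes (D.acl i)
    exact even_central hb this.1 this.2
  obtain ⟨r, hr⟩ := h
  rw [Datum.d, ← hr, toExt_algebraMap]
  congr 1
  exact ExteriorAlgebra.algebraMap_leftInverse V r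

/-- Every central element of the even part moves by the invariant times its defect. -/
theorem Datum.map_eq (hb : GoodPolar q b) (g : V ≃ₗ[A] V) (hg : g ∈ O q) {z μ : CliffordAlgebra q} (hz : Tr q z μ) :
    CliffordAlgebra.map (isometryOfMem q g hg) z - z = D.d g hg • μ := by
  set Φ := CliffordAlgebra.map (isometryOfMem q g hg)
  set δ := fun i => Φ (D.x i) - D.x i with hδ
  have key : ∀ i, (D.ℓ i * D.l i) * (Φ z - z) = μ * (D.l i * δ i) := by
    intro i
    obtain ⟨c, hc⟩ := even_central hb ((D.tr i).2.1.mul_commutes (D.acl i)).1 ((D.tr i).2.1.mul_commutes (D.acl i)).2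
    obtain ⟨a, ha⟩ := even_central hb (hz.2.1.mul_commutes (D.acl i)).1 (hz.2.1.mul_commutes (D.acl i)).2
    obtain ⟨s, hs⟩ := even_central hb (x := c • z - a • D.x i)
      (Submodule.sub_mem _ (Submodule.smul_mem _ _ hz.1) (Submodule.smul_mem _ _ (D.tr i).1)) fun v => by
        have hca : c • μ = a • D.ℓ i := by
          rw [Algebra.smul_def, hc, Algebra.smul_def, ha, hz.2.1.comm ((D.tr i).2.1.mul_commutes (D.acl i)).1,
            mul_assoc μ, (D.acl i).comm (D.tr i).2.1.1]
        rw [mul_sub, mul_smul_comm, mul_smul_comm, hz.2.2, (D.tr i).2.2, sub_mul, smul_mul_assoc, smul_mul_assoc,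
          add_mul, add_mul, smul_add, smul_add, ← smul_mul_assoc c μ, hca, smul_mul_assoc]
        abel
    have h1 : c • (Φ z - z) = a • δ i := by
      have : Φ (c • z - a • D.x i) = c • z - a • D.x i := by rw [← hs, AlgHom.commutes]
      rw [map_sub, map_smul, map_smul] at this
      simp only [δ, smul_sub]
      rw [sub_eq_sub_iff_sub_eq_sub, this]
    rw [Algebra.smul_def, Algebra.smul_def, hc, ha] at h1
    rw [h1, mul_assoc]
  have := Finset.sum_congr (rfl : (Finset.univ : Finset (Fin D.k)) = _) fun i _ => key i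
  rw [← Finset.sum_mul, D.one, one_mul, ← Finset.mul_sum] at this
  rw [this, Algebra.smul_def, D.algebraMap_d hb]
  have e : ∑ i, D.l i * δ i = D.disp g hg :=
    Finset.sum_congr rfl fun i _ => (delta_spec hb g hg (D.tr i)).1.comm (D.acl i).1
  have e' : D.disp g hg ∈ evenOdd q 0 := by
    rw [← D.algebraMap_d hb]; exact SetLike.algebraMap_mem_graded _ _
  rw [e, hz.2.1.comm e']

theorem Datum.idempotent (hb : GoodPolar q b) (g : V ≃ₗ[A] V) (hg : g ∈ O q) :
    IsIdempotentElem (D.d g hg) := by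
  set Φ := CliffordAlgebra.map (isometryOfMem q g hg)
  set d := D.d g hg
  set a := d - d * d
  have h1 : ∀ i, a • (D.ℓ i * D.ℓ i) = 0 := by
    intro i
    set x := D.x i with hx
    set ℓ := D.ℓ i with hℓ
    have t := D.tr i
    rw [← hx, ← hℓ] at t
    have hcomm : x * ℓ = ℓ * x := t.2.1.comm t.1
    obtain ⟨s, hs⟩ := even_central hb (x := x * (x + ℓ))
      (by simpa using SetLike.mul_mem_graded t.1 (Submodule.add_mem _ t.1 t.2.1.1)) fun v => by
        have h2 : ι q v * (x + ℓ) = x * ι q v := by rw [mul_add, t.2.2, t.2.1.2, add_mul]; abel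
        rw [← mul_assoc, t.2.2, mul_assoc, h2, ← mul_assoc, add_mul, mul_add, hcomm]
    have h3 : Φ (x * (x + ℓ)) = x * (x + ℓ) := by rw [← hs, AlgHom.commutes]
    have e1 : Φ x = x + d • ℓ := eq_add_of_sub_eq' (D.map_eq hb g hg t)
    have e2 : Φ ℓ = ℓ - (2 : A) • (d • ℓ) := by rw [(delta_spec hb g hg t).2, D.map_eq hb g hg t]
    rw [map_mul, map_add, e1, e2] at h3
    rw [← sub_eq_zero.2 h3]
    simp only [a, mul_add, add_mul, mul_sub, smul_mul_assoc, mul_smul_comm, hcomm, smul_smul]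
    match_scalars <;> ring
  have hsc : ∀ i, ∃ s : A, algebraMap A (CliffordAlgebra q) s = D.ℓ i * D.l i := fun i =>
    even_central hb ((D.tr i).2.1.mul_commutes (D.acl i)).1 ((D.tr i).2.1.mul_commutes (D.acl i)).2
  choose s hs using hsc
  have hs2 : ∀ i, a * s i ^ 2 = 0 := fun i => by
    apply algebraMap_injective q
    have hsq : (D.ℓ i * D.l i) * (D.ℓ i * D.l i) = (D.ℓ i * D.ℓ i) * (D.l i * D.l i) := by
      rw [mul_assoc, ← mul_assoc (D.l i), (D.tr i).2.1.comm (D.acl i).1]
      simp only [mul_assoc]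
    rw [map_mul, map_pow, map_zero, hs, sq, hsq, ← mul_assoc, ← Algebra.smul_def, h1, zero_mul]
  have htop : Ideal.span (Set.range s) = ⊤ := by
    rw [Ideal.eq_top_iff_one]
    have : ∑ i, s i = 1 := algebraMap_injective q (by rw [map_sum, map_one]; exact (Finset.sum_congr rfl fun i _ => hs i).trans D.one)
    rw [← this]
    exact Ideal.sum_mem _ fun i _ => Ideal.subset_span ⟨i, rfl⟩
  have h2 := Ideal.span_pow_eq_top _ htop 2
  have ha : ∀ y ∈ Ideal.span ((fun x => x ^ 2) '' Set.range s), a * y = 0 := by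
    intro y hy
    induction hy using Submodule.span_induction with
    | mem y hy => obtain ⟨_, ⟨i, rfl⟩, rfl⟩ := hy; exact hs2 i
    | zero => exact mul_zero _
    | add y z _ _ hy hz => rw [mul_add, hy, hz, add_zero]
    | smul r y _ hy => rw [smul_eq_mul, mul_left_comm, hy, mul_zero]
  have := ha 1 (h2 ▸ Submodule.mem_top)
  rw [mul_one] at this
  exact (sub_eq_zero.1 this).symm

/-- The Dickson condition is the vanishing of the invariant. -/
theorem Datum.mem_SOeven_iff (hb : GoodPolar q b) {e f : V} (hef : QuadraticMap.polar q e f = 1)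
    (g : V ≃ₗ[A] V) (hg : g ∈ O q) : g ∈ SOeven q ↔ D.d g hg = 0 := by
  constructor
  · rintro ⟨hg', hd⟩
    have : ∀ i, CliffordAlgebra.map (isometryOfMem q g hg) (D.x i) = D.x i := fun i =>
      hd ⟨D.x i, (D.tr i).1⟩ (Subalgebra.mem_center_iff.2 fun y => Subtype.ext ((D.tr i).comm y.2))
    simp [Datum.d, Datum.disp, this]
  · intro h
    refine ⟨hg, fun z hz => ?_⟩
    obtain ⟨μ, hμ⟩ := exists_tr z.2
      (fun y hy => congrArg Subtype.val (Subalgebra.mem_center_iff.1 hz ⟨y, hy⟩)) hef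
    have := D.map_eq hb g hg hμ
    rw [h, zero_smul] at this
    exact sub_eq_zero.1 this

variable {A' : Type u} [CommRing A'] {V' : Type w} [AddCommGroup V'] [Module A' V'] [Module.Free A' V']
  {q' : QuadraticForm A' V'}

omit [Module.Free A V] [Module.Free A' V'] in
theorem hom_map_comm (φ : A →+* A') (ψ : V → V') (F : CliffordAlgebra q →+* CliffordAlgebra q')
    (hF : ∀ v, F (ι q v) = ι q' (ψ v)) (hFa : ∀ a, F (algebraMap A _ a) = algebraMap A' _ (φ a))
    {g : V ≃ₗ[A] V} {hg : g ∈ O q} {g' : V' ≃ₗ[A'] V'} {hg' : g' ∈ O q'} (hc : ∀ v, g' (ψ v) = ψ (g v))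
    (y : CliffordAlgebra q) :
    F (CliffordAlgebra.map (isometryOfMem q g hg) y) = CliffordAlgebra.map (isometryOfMem q' g' hg') (F y) := by
  induction y using CliffordAlgebra.induction with
  | algebraMap r => rw [AlgHom.commutes, hFa, AlgHom.commutes]
  | ι v => rw [map_apply_ι, isometryOfMem_apply, hF, hF, map_apply_ι, isometryOfMem_apply, hc]
  | add a c ha hc' => simp only [map_add, ha, hc']
  | mul a c ha hc' => simp only [map_mul, ha, hc']

/-- The invariant is natural. -/
theorem Datum.d_natural {n' : ℕ} {b' : Module.Basis (Fin n') A' V'} (hb : GoodPolar q b) (hb' : GoodPolar q' b')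
    (D' : Datum q') (φ : A →+* A') (ψ : V → V') (F : CliffordAlgebra q →+* CliffordAlgebra q')
    (hF : ∀ v, F (ι q v) = ι q' (ψ v)) (hFa : ∀ a, F (algebraMap A _ a) = algebraMap A' _ (φ a))
    (htr : ∀ i, Tr q' (F (D.x i)) (F (D.ℓ i)))
    {g : V ≃ₗ[A] V} (hg : g ∈ O q) {g' : V' ≃ₗ[A'] V'} (hg' : g' ∈ O q') (hc : ∀ v, g' (ψ v) = ψ (g v)) :
    D'.d g' hg' = φ (D.d g hg) := by
  apply algebraMap_injective q'
  rw [← hFa, D.algebraMap_d hb]
  simp only [Datum.disp, map_sum, map_mul, map_sub, hom_map_comm φ ψ F hF hFa (hg' := hg') hc]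
  rw [Finset.sum_congr rfl fun i _ => by rw [D'.map_eq hb' g' hg' (htr i), smul_mul_assoc, ← map_mul F],
    ← Finset.smul_sum, ← map_sum, D.one, map_one, Algebra.algebraMap_eq_smul_one]

end Datum

end Groth.Agent.CliffSmooth
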