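import Groth.Agent.CliffSmooth.Struct
import Mathlib.Data.Matrix.Composition
import Mathlib.LinearAlgebra.Matrix.Notation
import Mathlib.LinearAlgebra.Matrix.StdBasis
import Mathlib.LinearAlgebra.StdBasis
import Mathlib.LinearAlgebra.QuadraticForm.Prod
import Mathlib.RingTheory.OrzechProperty

/-!
# The Clifford algebra of a hyperbolic form is a matrix algebra
-/

set_option autoImplicit false

universe u

namespace Groth.Agent.CliffSmooth

open CliffordAlgebra

variable {A : Type u} [CommRing A]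

/-- The hyperbolic module. -/
abbrev HS (A : Type u) (m : ℕ) : Type u := Fin m → A × A

/-- The hyperbolic form. -/
noncomputable def hyp (A : Type u) [CommRing A] (m : ℕ) : QuadraticForm A (HS A m) :=
  ∑ i, QuadraticMap.linMulLin ((LinearMap.fst A A A).comp (LinearMap.proj i)) ((LinearMap.snd A A A).comp (LinearMap.proj i))

theorem hyp_apply (m : ℕ) (x : HS A m) : hyp A m x = ∑ i, (x i).1 * (x i).2 := by
  simp [hyp, QuadraticMap.linMulLin_apply]

/-- A block representation adding one hyperbolic pair. -/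
noncomputable def block (N : Type u) [Ring N] [Algebra A N] {m : ℕ} (g : HS A (m + 1) →ₗ[A] N) :
    HS A (m + 1) →ₗ[A] Matrix (Fin 2) (Fin 2) N where
  toFun x := !![g x, (x 0).1 • (1 : N); (x 0).2 • (1 : N), -g x]
  map_add' x y := by
    refine Matrix.ext fun i j => ?_
    fin_cases i <;> fin_cases j <;> simp [add_smul, add_comm]
  map_smul' c x := by
    refine Matrix.ext fun i j => ?_
    fin_cases i <;> fin_cases j <;> simp [mul_smul]

theorem block_sq (N : Type u) [Ring N] [Algebra A N] {m : ℕ} (g : HS A (m + 1) →ₗ[A] N) (x : HS A (m + 1)) (r : A)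
    (h : g x * g x = algebraMap A N r) :
    block N g x * block N g x = algebraMap A _ ((x 0).1 * (x 0).2 + r) := by
  change !![g x, (x 0).1 • (1 : N); (x 0).2 • (1 : N), -g x] * !![g x, (x 0).1 • (1 : N); (x 0).2 • (1 : N), -g x] = _
  rw [Matrix.mul_fin_two]
  have hcomm : ∀ c : A, g x * algebraMap A N c = algebraMap A N c * g x := fun c => (Algebra.commutes c _).symm
  refine Matrix.ext fun i j => ?_
  fin_cases i <;> fin_cases j <;>
    simp [Matrix.algebraMap_matrix_apply, h, smul_smul, Algebra.smul_def, hcomm, mul_comm (x 0).2 (x 0).1, add_comm]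
  rw [← map_mul, ← map_mul, mul_comm]

/-- A surjective matrix representation. -/
theorem exists_rep (A : Type u) [CommRing A] : ∀ m : ℕ,
    ∃ φ : CliffordAlgebra (hyp A m) →ₐ[A] Matrix (Fin (2 ^ m)) (Fin (2 ^ m)) A, Function.Surjective φ := by
  intro m
  induction m with
  | zero =>
    refine ⟨CliffordAlgebra.lift (hyp A 0) ⟨0, fun x => by simp [hyp_apply]⟩, fun M => ⟨algebraMap A _ (M 0 0), ?_⟩⟩
    rw [AlgHom.commutes]
    ext i j
    have hi : i = 0 := Fin.ext (by have := i.isLt; simp at this ⊢)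
    have hj : j = 0 := Fin.ext (by have := j.isLt; simp at this ⊢)
    subst hi hj
    simp [Matrix.algebraMap_matrix_apply]
  | succ m ih =>
    obtain ⟨φ, hφ⟩ := ih
    let τ : HS A (m + 1) →ₗ[A] HS A m := LinearMap.funLeft A (A × A) Fin.succ
    let f : HS A (m + 1) →ₗ[A] Matrix (Fin 2) (Fin 2) (Matrix (Fin (2 ^ m)) (Fin (2 ^ m)) A) := block (Matrix (Fin (2 ^ m)) (Fin (2 ^ m)) A) ((φ.toLinearMap.comp (ι _)).comp τ)
    have hf : ∀ x, f x * f x = algebraMap A _ (hyp A (m + 1) x) := by
      intro x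
      rw [show hyp A (m + 1) x = (x 0).1 * (x 0).2 + hyp A m (τ x) by
        rw [hyp_apply, hyp_apply, Fin.sum_univ_succ]; rfl]
      refine block_sq (Matrix (Fin (2 ^ m)) (Fin (2 ^ m)) A) _ x _ ?_
      change φ (ι _ (τ x)) * φ (ι _ (τ x)) = _
      rw [← map_mul, ι_sq_scalar, AlgHom.commutes]
    let Ψ := CliffordAlgebra.lift (hyp A (m + 1)) ⟨f, hf⟩
    have hgen : ∀ x, f x ∈ Ψ.range := fun x => ⟨ι _ x, CliffordAlgebra.lift_ι_apply _ _ x⟩
    let d (M : (Matrix (Fin (2 ^ m)) (Fin (2 ^ m)) A)) : Matrix (Fin 2) (Fin 2) (Matrix (Fin (2 ^ m)) (Fin (2 ^ m)) A) := !![M, 0; 0, M]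
    have hd_add : ∀ M M', d (M + M') = d M + d M' := fun M M' => by
      ext i j : 2; fin_cases i <;> fin_cases j <;> simp [d]
    have hd_mul : ∀ M M', d (M * M') = d M * d M' := fun M M' => by
      simp only [d]; rw [Matrix.mul_fin_two]; simp
    let e01 : Matrix (Fin 2) (Fin 2) (Matrix (Fin (2 ^ m)) (Fin (2 ^ m)) A) := !![0, 1; 0, 0]
    let e10 : Matrix (Fin 2) (Fin 2) (Matrix (Fin (2 ^ m)) (Fin (2 ^ m)) A) := !![0, 0; 1, 0]
    have h01 : e01 ∈ Ψ.range := by
      have := hgen (Pi.single 0 (1, 0))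
      convert this using 1
      have hτ : τ (Pi.single (0 : Fin (m + 1)) ((1, 0) : A × A)) = 0 := by
        funext i; simp [τ, LinearMap.funLeft_apply, Fin.succ_ne_zero]
      refine Matrix.ext fun i j => ?_
      fin_cases i <;> fin_cases j <;> simp [e01, f, block, hτ]
    have h10 : e10 ∈ Ψ.range := by
      have := hgen (Pi.single 0 (0, 1))
      convert this using 1
      have hτ : τ (Pi.single (0 : Fin (m + 1)) ((0, 1) : A × A)) = 0 := by
        funext i; simp [τ, LinearMap.funLeft_apply, Fin.succ_ne_zero]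
      refine Matrix.ext fun i j => ?_
      fin_cases i <;> fin_cases j <;> simp [e10, f, block, hτ]
    have hdiag : ∀ y : CliffordAlgebra (hyp A m), d (φ y) ∈ Ψ.range := by
      intro y
      induction y using CliffordAlgebra.induction with
      | algebraMap r =>
        refine ⟨algebraMap A _ r, ?_⟩
        refine Matrix.ext fun i j => ?_
        rw [AlgHom.commutes]
        fin_cases i <;> fin_cases j <;> simp [d, Matrix.algebraMap_matrix_apply]
      | add a c ha hc => rw [map_add, hd_add]; exact Subalgebra.add_mem _ ha hc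
      | mul a c ha hc => rw [map_mul, hd_mul]; exact Subalgebra.mul_mem _ ha hc
      | ι v =>
        have hx := hgen (Fin.cons 0 v)
        have hτ : τ (Fin.cons (0 : A × A) v) = v := by funext i; simp [τ, LinearMap.funLeft_apply]
        have := Subalgebra.mul_mem _ (Subalgebra.sub_mem _ (Subalgebra.mul_mem _ h01 h10) (Subalgebra.mul_mem _ h10 h01)) hx
        convert this using 1
        refine Matrix.ext fun i j => ?_
        fin_cases i <;> fin_cases j <;> simp [d, e01, e10, f, block, hτ, Matrix.mul_apply, Fin.sum_univ_two]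
    have hsurj : Function.Surjective Ψ := by
      intro M
      change M ∈ Ψ.range
      have hM : M = d (M 0 0) * (e01 * e10) + d (M 0 1) * e01 + d (M 1 0) * e10 + d (M 1 1) * (e10 * e01) := by
        simp [d, e01, e10, Matrix.mul_fin_two, ← Matrix.ext_iff, Fin.forall_fin_two]
      have hd' : ∀ N', d N' ∈ Ψ.range := fun N' => by obtain ⟨y, rfl⟩ := hφ N'; exact hdiag y
      rw [hM]
      exact Subalgebra.add_mem _ (Subalgebra.add_mem _ (Subalgebra.add_mem _
        (Subalgebra.mul_mem _ (hd' _) (Subalgebra.mul_mem _ h01 h10)) (Subalgebra.mul_mem _ (hd' _) h01))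
        (Subalgebra.mul_mem _ (hd' _) h10)) (Subalgebra.mul_mem _ (hd' _) (Subalgebra.mul_mem _ h10 h01))
    let e : Fin 2 × Fin (2 ^ m) ≃ Fin (2 ^ (m + 1)) := finProdFinEquiv.trans (finCongr (by ring))
    let E : Matrix (Fin 2) (Fin 2) (Matrix (Fin (2 ^ m)) (Fin (2 ^ m)) A) ≃ₐ[A] Matrix (Fin (2 ^ (m + 1))) (Fin (2 ^ (m + 1))) A :=
      (Matrix.compAlgEquiv (Fin 2) (Fin (2 ^ m)) A A).trans (Matrix.reindexAlgEquiv A A e)
    exact ⟨E.toAlgHom.comp Ψ, E.surjective.comp hsurj⟩

/-- The Clifford algebra of a hyperbolic form is a matrix algebra. -/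
theorem exists_equiv (A : Type u) [CommRing A] (m : ℕ) :
    Nonempty (CliffordAlgebra (hyp A m) ≃ₐ[A] Matrix (Fin (2 ^ m)) (Fin (2 ^ m)) A) := by
  classical
  obtain ⟨φ, hφ⟩ := exists_rep A m
  let b₀ := (Pi.basis fun _ : Fin m => Module.Basis.finTwoProd A).reindex
    (Fintype.equivFinOfCardEq (show Fintype.card ((_ : Fin m) × Fin 2) = 2 * m by simp [mul_comm]))
  let b₁ := (b₀.ExteriorAlgebra).map (toExt (hyp A m)).symm
  let b₂ := Matrix.stdBasis A (Fin (2 ^ m)) (Fin (2 ^ m))
  let g : Matrix (Fin (2 ^ m)) (Fin (2 ^ m)) A ≃ₗ[A] CliffordAlgebra (hyp A m) :=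
    b₂.equiv b₁ (Fintype.equivOfCardEq (by simp [← pow_add, two_mul]))
  haveI : Module.Finite A (CliffordAlgebra (hyp A m)) := Module.Finite.of_basis b₁
  have hinj : Function.Injective (g.toLinearMap.comp φ.toLinearMap) :=
    OrzechProperty.injective_of_surjective_endomorphism _ (g.surjective.comp hφ)
  exact ⟨AlgEquiv.ofBijective φ ⟨fun a c h => hinj (congrArg g h), hφ⟩⟩

end Groth.Agent.CliffSmooth
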