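import Groth.Agent.CliffSmooth.EvenLocal
import Groth.Agent.CliffSmooth.HypRep
import Groth.Agent.SkolemPic.Basic
import Mathlib.RingTheory.Flat.FaithfullyFlat.Algebra
import Mathlib.RingTheory.Localization.AtPrime.Basic
import Mathlib.RingTheory.LocalRing.RingHom.Basic

/-!
# Lifting isometries to the Clifford algebra over a local ring, even rank
-/

set_option autoImplicit false

universe u v

namespace Groth.Agent.CliffSmooth

open CliffordAlgebra QuadGrp TensorProduct

section Inner

variable {A : Type u} [CommRing A] [IsLocalRing A]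

/-- Automorphisms of matrix algebras over local rings are inner. -/
theorem exists_inner {N : ℕ} [NeZero N] {C : Type v} [Ring C] [Algebra A C]
    (θ : C ≃ₐ[A] Matrix (Fin N) (Fin N) A) (Φ : C ≃ₐ[A] C) :
    ∃ u : Cˣ, ∀ y, (u : C) * y = Φ y * u := by
  obtain ⟨P, hP⟩ := SkolemPic.inner_of_free (R := A) (n := N) (fun N' _ _ _ _ => Module.free_of_flat_of_isLocalRing)
    ((θ.symm.trans Φ).trans θ)
  refine ⟨⟨θ.symm P.1, θ.symm (P⁻¹).1, by rw [← map_mul, Units.mul_inv, map_one],
    by rw [← map_mul, Units.inv_mul, map_one]⟩, fun y => ?_⟩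
  apply θ.injective
  have h := hP (θ y)
  simp only [AlgEquiv.trans_apply, AlgEquiv.symm_apply_apply] at h
  simp only [map_mul, AlgEquiv.apply_symm_apply]
  rw [h, mul_assoc, Units.inv_mul, mul_one]

variable {V : Type u} [AddCommGroup V] [Module A V] {q : QuadraticForm A V} {m : ℕ}

omit [IsLocalRing A] in
/-- The Clifford algebra of a form with spanning pairs is a matrix algebra. -/
theorem Frame.exists_matrix (F : Frame q m) (b : Module.Basis (Fin (2 * m)) A V) :
    Nonempty (CliffordAlgebra q ≃ₐ[A] Matrix (Fin (2 ^ m)) (Fin (2 ^ m)) A) := by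
  classical
  let L : HS A m →ₗ[A] V :=
    ∑ i, (((LinearMap.fst A A A).comp (LinearMap.proj i)).smulRight (F.e i) +
      ((LinearMap.snd A A A).comp (LinearMap.proj i)).smulRight (F.f i))
  have hL : ∀ x, L x = ∑ i, ((x i).1 • F.e i + (x i).2 • F.f i) := fun x => by simp [L]
  have hcoef : ∀ (x : HS A m) j, QuadraticMap.polarBilin q (F.f j) (L x) = (x j).1 ∧
      QuadraticMap.polarBilin q (F.e j) (L x) = (x j).2 := fun x j => by
    simp only [hL, map_sum, map_add, map_smul, QuadraticMap.polarBilin_apply_apply]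
    simp [F.fe, F.ff, F.ee, F.ef, Finset.sum_add_distrib]
  have hbij : Function.Bijective L := by
    constructor
    · rw [injective_iff_map_eq_zero]
      intro x hx
      funext i
      refine Prod.ext ?_ ?_
      · rw [← (hcoef x i).1, hx, map_zero]; rfl
      · rw [← (hcoef x i).2, hx, map_zero]; rfl
    · intro y
      have hy := F.proj_eq_zero b y
      rw [Frame.proj_apply, sub_eq_zero] at hy
      exact ⟨fun i => (QuadraticMap.polar q (F.f i) y, QuadraticMap.polar q (F.e i) y), (hL _).trans hy.symm⟩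
  have hsum : ∀ (x : HS A m) (s : Finset (Fin m)),
      q (∑ i ∈ s, ((x i).1 • F.e i + (x i).2 • F.f i)) = ∑ i ∈ s, (x i).1 * (x i).2 := by
    intro x s
    induction s using Finset.induction_on with
    | empty => simp
    | @insert j s hj ih =>
      have hp : QuadraticMap.polarBilin q ((x j).1 • F.e j + (x j).2 • F.f j)
          (∑ i ∈ s, ((x i).1 • F.e i + (x i).2 • F.f i)) = 0 := by
        rw [map_sum]
        refine Finset.sum_eq_zero fun i hi => ?_
        have hne : j ≠ i := fun e => hj (e ▸ hi)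
        simp [F.ee, F.ff, F.ef, F.fe, hne, Ne.symm hne]
      rw [Finset.sum_insert hj, Finset.sum_insert hj, QuadraticMap.map_add q, ih,
        show QuadraticMap.polar q _ _ = 0 from hp, QuadraticMap.map_add q, QuadraticMap.map_smul,
        QuadraticMap.map_smul, F.qe, F.qf, QuadraticMap.polar_smul_left, QuadraticMap.polar_smul_right, F.ef,
        if_pos rfl]
      simp
  let iso : (hyp A m).IsometryEquiv q :=
    { LinearEquiv.ofBijective L hbij with
      map_app' := fun x => by
        change q (L x) = _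
        rw [hL, hsum, hyp_apply] }
  obtain ⟨θ⟩ := exists_equiv A m
  exact ⟨(equivOfIsometry iso).symm.trans θ⟩

end Inner

section Descent

/-- Forms with spanning pairs are regular. -/
theorem isRegular_of_frame {A : Type u} [CommRing A] {V : Type v} [AddCommGroup V] [Module A V] {q : QuadraticForm A V}
    {m : ℕ} (F : Frame q m) (h : ∀ x, F.proj x = 0) : IsRegular q := by
  have hx : ∀ x, x = ∑ i, (QuadraticMap.polar q (F.f i) x • F.e i + QuadraticMap.polar q (F.e i) x • F.f i) := fun x => by
    have := h x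
    rwa [Frame.proj_apply, sub_eq_zero] at this
  constructor
  · intro x y hxy
    rw [hx x, hx y]
    refine Finset.sum_congr rfl fun i _ => ?_
    rw [QuadraticMap.polar_comm q _ x, QuadraticMap.polar_comm q _ x, QuadraticMap.polar_comm q _ y,
      QuadraticMap.polar_comm q _ y, ← QuadraticMap.polarBilin_apply_apply, ← QuadraticMap.polarBilin_apply_apply, hxy]
    rfl
  · intro φ
    refine ⟨∑ i, (φ (F.f i) • F.e i + φ (F.e i) • F.f i), LinearMap.ext fun y => ?_⟩
    conv_rhs => rw [hx y]
    simp only [map_sum, map_add, map_smul, LinearMap.sum_apply, LinearMap.add_apply, LinearMap.smul_apply, smul_eq_mul,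
      QuadraticMap.polarBilin_apply_apply]
    exact Finset.sum_congr rfl fun i _ => by ring


variable {R : Type u} [CommRing R] [IsLocalRing R] {n m : ℕ} {Q : QuadraticForm R (Fin (2 * m) → R)}

omit [IsLocalRing R] in
/-- Units descend along faithfully flat base change. -/
theorem isUnit_of_baseChange {C : Type u} [Ring C] [Algebra R C] (A : Type u) [CommRing A] [Algebra R A]
    [Module.FaithfullyFlat R A] {y : C} (hu : IsUnit ((1 : A) ⊗ₜ[R] y)) : IsUnit y := by
  have hlt : ∀ z : A ⊗[R] C, (LinearMap.mulLeft R y).lTensor A z = ((1 : A) ⊗ₜ[R] y) * z ∧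
      (LinearMap.mulRight R y).lTensor A z = z * ((1 : A) ⊗ₜ[R] y) := fun z => by
    induction z using TensorProduct.induction_on with
    | zero => simp
    | add a c ha hc => simp only [map_add, mul_add, add_mul, ha, hc]; exact ⟨trivial, trivial⟩
    | tmul a c => simp
  obtain ⟨U, hU⟩ := hu
  have h1 : Function.Surjective (LinearMap.mulLeft R y) :=
    (Module.FaithfullyFlat.lTensor_surjective_iff_surjective R A _).1 fun z =>
      ⟨↑U⁻¹ * z, by rw [(hlt _).1, ← hU, Units.mul_inv_cancel_left]⟩
  have h2 : Function.Surjective (LinearMap.mulRight R y) :=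
    (Module.FaithfullyFlat.lTensor_surjective_iff_surjective R A _).1 fun z =>
      ⟨z * ↑U⁻¹, by rw [(hlt _).2, ← hU, mul_assoc, Units.inv_mul, mul_one]⟩
  obtain ⟨w, hw⟩ := h1 1
  obtain ⟨w', hw'⟩ := h2 1
  simp only [LinearMap.mulLeft_apply, LinearMap.mulRight_apply] at hw hw'
  have hww : w' = w := left_inv_eq_right_inv hw' hw
  exact ⟨⟨y, w, hw, hww ▸ hw'⟩, rfl⟩

set_option maxHeartbeats 1000000 in
/-- Over a local ring every isometry is conjugation by a unit. -/
theorem exists_lift_coord (hm : 1 ≤ m) (hQ : IsRegular Q) (g : (Fin (2 * m) → R) ≃ₗ[R] (Fin (2 * m) → R)) (hg : g ∈ O Q) :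
    ∃ u : (CliffordAlgebra Q)ˣ, ∀ v, (u : CliffordAlgebra Q) * ι Q v = ι Q (g v) * u := by
  classical
  let M := Fin (2 * m) → R
  let b := Pi.basisFun R (Fin (2 * m))
  obtain ⟨A₀, _, _, hA₀, ⟨F₀⟩⟩ := exists_evenFrame b hQ
  haveI := hA₀.1
  obtain ⟨⟨P, hP⟩, hPm⟩ := PrimeSpectrum.comap_surjective_of_faithfullyFlat (A := R) (B := A₀)
    (IsLocalRing.closedPoint R)
  haveI := hP
  let A := Localization.AtPrime P
  let φ : A₀ →ₐ[R] A := IsScalarTower.toAlgHom R A₀ A
  let F := F₀.map φ
  haveI : Module.Flat R A := Module.Flat.trans R A₀ A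
  haveI : IsLocalHom (algebraMap R A) := by
    refine ((IsLocalRing.local_hom_TFAE (algebraMap R A)).out 0 4).mpr ?_
    rw [IsScalarTower.algebraMap_eq R A₀ A, ← Ideal.comap_comap,
      show Ideal.comap (algebraMap A₀ A) (IsLocalRing.maximalIdeal A) = P from Localization.AtPrime.comap_maximalIdeal]
    exact congrArg PrimeSpectrum.asIdeal hPm
  haveI : Module.FaithfullyFlat R A := Module.FaithfullyFlat.of_flat_of_isLocalHom
  set q := baseChangeForm A Q
  set gA := g.baseChange R A M M
  have hgv : ∀ x : M, gA ((1 : A) ⊗ₜ[R] x) = (1 : A) ⊗ₜ[R] g x := fun x => by simp [gA]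
  have hgA : gA ∈ O q := by
    rw [mem_O]
    intro v
    have : q.comp gA.toLinearMap = q := by
      refine _root_.baseChange_ext fun x => ?_
      simp [q, gA, baseChangeForm_one_tmul, hg x]
    exact DFunLike.congr_fun this v
  obtain ⟨θ⟩ := F.exists_matrix (Algebra.TensorProduct.basis A b)
  let iso : q.IsometryEquiv q := { gA with map_app' := hgA }
  obtain ⟨uA, huA⟩ := exists_inner θ (equivOfIsometry iso)
  have huv : ∀ x : M, (uA : CliffordAlgebra q) * bcl Q A (ι Q x) = bcl Q A (ι Q (g x)) * uA := fun x => by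
    rw [ofBCAux_ι, ofBCAux_ι, huA, ← hgv]
    congr 1
    exact map_apply_ι iso.toIsometry _
  -- the module of intertwiners
  let C := CliffordAlgebra Q
  let Φ : C →ₗ[R] (Fin (2 * m) → C) :=
    LinearMap.pi fun i => LinearMap.mulRight R (ι Q (b i)) - LinearMap.mulLeft R (ι Q (g (b i)))
  have hker : ∀ y, Φ y = 0 → ∀ v, y * ι Q v = ι Q (g v) * y := fun y hy v => by
    rw [← b.sum_repr v, map_sum, map_sum, map_sum, Finset.mul_sum, Finset.sum_mul]
    refine Finset.sum_congr rfl fun i _ => ?_
    rw [map_smul, map_smul, map_smul, mul_smul_comm, smul_mul_assoc]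
    exact congrArg _ (sub_eq_zero.1 (congrFun hy i))
  have hΦt : Φ.lTensor A (cb Q A uA) = 0 := by
    apply (TensorProduct.piRight R R A (fun _ : Fin (2 * m) => C)).injective
    rw [map_zero]
    funext i
    have hcomp : ∀ z : A ⊗[R] C, TensorProduct.piRight R R A (fun _ : Fin (2 * m) => C) (Φ.lTensor A z) i =
        z * ((1 : A) ⊗ₜ[R] ι Q (b i)) - ((1 : A) ⊗ₜ[R] ι Q (g (b i))) * z := by
      intro z
      induction z using TensorProduct.induction_on with
      | zero => simp
      | add a c ha hc => rw [map_add, map_add, Pi.add_apply, ha, hc, add_mul, mul_add]; abel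
      | tmul a w => simp [Φ, TensorProduct.tmul_sub]
    rw [hcomp, ← cb_bcl, ← cb_bcl, ← map_mul, ← map_mul, huv, sub_self]
    rfl
  obtain ⟨z, hz⟩ := ((Module.Flat.lTensor_exact A (LinearMap.exact_subtype_ker_map Φ)) _).1 hΦt
  obtain ⟨S, rfl⟩ := TensorProduct.exists_finset z
  have hb := goodPolar_baseChange b hQ A
  have hsc : ∀ i : A × ↥(LinearMap.ker Φ), ∃ c : A, bcl Q A (i.2 : C) = c • (uA : CliffordAlgebra q) := by
    intro i
    set x := (↑uA⁻¹ : CliffordAlgebra q) * bcl Q A (i.2 : C)
    have hx1 : ∀ v : M, ι q ((1 : A) ⊗ₜ[R] v) * x = x * ι q ((1 : A) ⊗ₜ[R] v) := fun v => by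
      have h1 := huv v
      have h2 : bcl Q A (i.2 : C) * bcl Q A (ι Q v) = bcl Q A (ι Q (g v)) * bcl Q A (i.2 : C) := by
        rw [← map_mul, ← map_mul, hker _ i.2.2 v]
      rw [← ofBCAux_ι]
      calc bcl Q A (ι Q v) * x = (↑uA⁻¹ : CliffordAlgebra q) * ((uA : CliffordAlgebra q) * bcl Q A (ι Q v)) * x := by
            rw [← mul_assoc (↑uA⁻¹ : CliffordAlgebra q), Units.inv_mul, one_mul]
        _ = ↑uA⁻¹ * (bcl Q A (ι Q (g v)) * bcl Q A (i.2 : C)) := by
            rw [h1]
            simp only [x, mul_assoc, Units.mul_inv_cancel_left]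
        _ = x * bcl Q A (ι Q v) := by rw [← h2]; simp only [x, mul_assoc]
    have hcx : ∀ v, ι q v * x = x * ι q v := fun v => by
      induction v using TensorProduct.induction_on with
      | zero => simp
      | add a c ha hc => rw [map_add, add_mul, mul_add, ha, hc]
      | tmul a w => rw [show a ⊗ₜ[R] w = a • ((1 : A) ⊗ₜ[R] w) by rw [TensorProduct.smul_tmul', smul_eq_mul, mul_one],
          map_smul, smul_mul_assoc, mul_smul_comm, hx1]
    have hcp : ∀ j v, ι q v * par q j x = par q j x * ι q v := fun j v => by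
      rw [← (par_mul_ι (Q := q) j x v).1, ← (par_mul_ι (Q := q) j x v).2, hcx]
    obtain ⟨c, hc⟩ := even_central hb (par_mem q 0 x) (hcp 0)
    have hq : IsRegular q := by
      have := F.proj_eq_zero (Algebra.TensorProduct.basis A b)
      exact isRegular_of_frame F this
    have hxc : x = algebraMap A _ c := by
      rw [← par_add_par q x, odd_central_eq_zero (Algebra.TensorProduct.basis A b) (even_two_mul m) hq
        (par_mem q 1 x) (hcp 1), add_zero, hc]
    refine ⟨c, ?_⟩
    rw [Algebra.smul_def, Algebra.commutes, ← hxc]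
    simp [x]
  choose c hc using hsc
  have hone : ∑ i ∈ S, i.1 * c i = 1 := by
    apply algebraMap_injective q
    have h : cb Q A (uA : CliffordAlgebra q) = cb Q A (∑ i ∈ S, i.1 • bcl Q A (i.2 : C)) := by
      rw [← hz, map_sum, map_sum]
      refine Finset.sum_congr rfl fun i _ => ?_
      rw [map_smul, cb_bcl, TensorProduct.smul_tmul', smul_eq_mul, mul_one]
      rfl
    have h' := (cb Q A).injective h
    rw [Finset.sum_congr rfl fun i _ => by rw [hc, smul_smul], ← Finset.sum_smul, Algebra.smul_def] at h'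
    have h'' := congrArg (fun y => y * (↑uA⁻¹ : CliffordAlgebra q)) h'
    simp only [Units.mul_inv, mul_assoc, mul_one] at h''
    rw [map_one]
    exact h''.symm
  obtain ⟨i, -, hi⟩ : ∃ i ∈ S, IsUnit (c i) := by
    by_contra hcon
    push Not at hcon
    have : (1 : A) ∈ IsLocalRing.maximalIdeal A := hone ▸ Ideal.sum_mem _ fun i hi =>
      Ideal.mul_mem_left _ _ ((IsLocalRing.mem_maximalIdeal _).2 (hcon i hi))
    exact (IsLocalRing.maximalIdeal.isMaximal A).ne_top ((Ideal.eq_top_iff_one _).2 this)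
  -- units descend
  have hu : IsUnit (bcl Q A (i.2 : C)) := by
    rw [hc i, Algebra.smul_def]
    exact (hi.map _).mul uA.isUnit
  have hu' : IsUnit ((1 : A) ⊗ₜ[R] (i.2 : C)) := by rw [← cb_bcl]; exact hu.map (cb Q A)
  exact ⟨(isUnit_of_baseChange A hu').unit, hker _ i.2.2⟩

end Descent

section General

variable {R : Type u} [CommRing R] [IsLocalRing R] {M : Type v} [AddCommGroup M] [Module R M] [Module.Free R M]
  [Module.Finite R M] {Q : QuadraticForm R M} {m : ℕ}

theorem exists_lift_unit (hm : 1 ≤ m) (hM : Module.finrank R M = 2 * m) (hQ : IsRegular Q) (g : M ≃ₗ[R] M) (hg : g ∈ O Q) :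
    ∃ u : (CliffordAlgebra Q)ˣ, u ∈ GPin' Q ∧ ∀ v, (u : CliffordAlgebra Q) * ι Q v * ↑u⁻¹ = ι Q (g v) := by
  let b := Module.finBasisOfFinrankEq R M hM
  let g' := (b.equivFun.symm.trans g).trans b.equivFun
  have hg' : g' ∈ O (coordQ b Q) := fun x => by
    change Q (b.equivFun.symm (b.equivFun (g (b.equivFun.symm x)))) = Q (b.equivFun.symm x)
    rw [LinearEquiv.symm_apply_apply, hg]
  obtain ⟨u', hu'⟩ := exists_lift_coord hm (isRegular_coordQ b hQ) g' hg'
  let E := (coordE b Q).symm.toIsometry
  refine ⟨Units.map (CliffordAlgebra.map E).toRingHom.toMonoidHom u', ?_⟩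
  set u := Units.map (CliffordAlgebra.map E).toRingHom.toMonoidHom u'
  have hu : ∀ v, (u : CliffordAlgebra Q) * ι Q v = ι Q (g v) * u := fun v => by
    have h := congrArg (CliffordAlgebra.map E) (hu' (b.equivFun v))
    rw [map_mul, map_mul, map_apply_ι, map_apply_ι] at h
    have e1 : E (b.equivFun v) = v := b.equivFun.symm_apply_apply v
    have e2 : E (g' (b.equivFun v)) = g v := by
      change b.equivFun.symm (b.equivFun (g (b.equivFun.symm (b.equivFun v)))) = g v
      rw [LinearEquiv.symm_apply_apply, LinearEquiv.symm_apply_apply]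
    rw [e1, e2] at h
    exact h
  have hc : ∀ v, (u : CliffordAlgebra Q) * ι Q v * ↑u⁻¹ = ι Q (g v) := fun v => by
    rw [hu, mul_assoc, Units.mul_inv, mul_one]
  refine ⟨(mem_GPin'_iff u).2 ⟨fun v => ⟨g v, (hc v).symm⟩, fun v => ⟨g.symm v, ?_⟩⟩, hc⟩
  conv_rhs => rw [← g.apply_symm_apply v, mul_assoc, ← hu, ← mul_assoc, Units.inv_mul, one_mul]

theorem exists_lift_gspin (hm : 1 ≤ m) (hM : Module.finrank R M = 2 * m) (hQ : IsRegular Q) (g : M ≃ₗ[R] M)
    (hgs : g ∈ SOeven Q) :
    ∃ u ∈ GSpin Q, ∀ v, (u : CliffordAlgebra Q) * ι Q v * ↑u⁻¹ = ι Q (g v) := by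
  obtain ⟨hg, hd⟩ := id hgs
  obtain ⟨u, hu, hc⟩ := exists_lift_unit hm hM hQ g hg
  let b := Module.finBasisOfFinrankEq R M hM
  obtain ⟨e, he, h0, h1⟩ := gPin'_le_LH b (even_two_mul m) hQ hu
  obtain ⟨D⟩ := exists_datum_any b hQ
  have heven : (u : CliffordAlgebra Q) ∈ evenOdd Q 0 := by
    rcases IsLocalRing.isUnit_or_isUnit_of_add_one (a := e) (b := 1 - e) (by ring) with hu1 | hu1
    · rw [(IsIdempotentElem.iff_eq_one_of_isUnit hu1).1 he, one_smul] at h0
      exact h0
    · exfalso
      have he0 : e = 0 := sub_eq_self.1 ((IsIdempotentElem.iff_eq_one_of_isUnit hu1).1 he.one_sub)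
      rw [he0, sub_zero, one_smul] at h1
      -- an odd element twists the defect
      have key : ∀ i, D.ℓ i = 0 := fun i => by
        have hΦ : ∀ y, CliffordAlgebra.map (isometryOfMem Q g hg) y * u = (u : CliffordAlgebra Q) * y := by
          intro y
          induction y using CliffordAlgebra.induction with
          | algebraMap r => rw [AlgHom.commutes]; exact Algebra.commutes r _
          | ι z => rw [map_apply_ι, isometryOfMem_apply, ← hc, mul_assoc, Units.inv_mul, mul_one]
          | add x y hx hy => rw [map_add, add_mul, mul_add, hx, hy]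
          | mul x y hx hy => rw [map_mul, mul_assoc, hy, ← mul_assoc, hx, mul_assoc]
        have hodd : ∀ y ∈ evenOdd Q 1, y * D.x i = (D.x i + D.ℓ i) * y := by
          intro y hy
          induction y, hy using CliffordAlgebra.evenOdd_induction (Q := Q) (n := (1 : ZMod 2)) with
          | range_ι_pow v hv =>
            rw [ZMod.val_one, pow_one] at hv
            obtain ⟨w, rfl⟩ := hv
            exact (D.tr i).2.2 w
          | add a c _ _ ha hc' => rw [add_mul, ha, hc', mul_add]
          | ι_mul_ι_mul v w a _ ih =>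
            rw [mul_assoc, ih, ← mul_assoc, mul_add, (D.tr i).comm (ι_mul_ι_mem_evenOdd_zero Q v w),
              (D.tr i).2.1.comm (ι_mul_ι_mem_evenOdd_zero Q v w), ← add_mul]
            simp only [mul_assoc]
        have h3 := hΦ (D.x i)
        rw [show CliffordAlgebra.map (isometryOfMem Q g hg) (D.x i) = D.x i from hd ⟨D.x i, (D.tr i).1⟩
          (Subalgebra.mem_center_iff.2 fun y => Subtype.ext ((D.tr i).comm y.2)), hodd _ h1, add_mul, eq_comm,
          add_eq_left] at h3
        exact (Units.mul_left_eq_zero u).1 h3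
      refine one_ne_zero (α := R) (algebraMap_injective Q ?_)
      rw [map_one, map_zero, ← D.one]
      exact Finset.sum_eq_zero fun i _ => by rw [key, zero_mul]
  exact ⟨u, ⟨⟨hu, ⟨1, IsIdempotentElem.one, by rwa [one_smul], by rw [sub_self, zero_smul]; exact Submodule.zero_mem _⟩⟩,
    heven⟩, hc⟩

end General

end Groth.Agent.CliffSmooth
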