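import Groth.Agent.CliffSmooth.EvenSO
import Groth.Agent.OrthSmooth.RelDim

/-!
# The relative dimension of the special orthogonal group in even rank
-/

set_option autoImplicit false

universe u

namespace Groth.Agent.CliffSmooth

open QuadGrp Matrix Groth.Agent.OrthSmooth Groth.Agent.QuadHalfDisc MvPolynomial

section Field

variable {K : Type u} [Field K] {n : ℕ}

/-- The linearised equations. -/
noncomputable def tanEven (V : Matrix (Fin n) (Fin n) K) : Matrix (Fin n) (Fin n) K →ₗ[K] (Sym2 (Fin n) → K) where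
  toFun h := co ((V + Vᵀ) * h)
  map_add' h h' := by rw [Matrix.mul_add, co_add]
  map_smul' r h := by rw [Matrix.mul_smul, co_smul]; rfl

theorem finrank_ker_tanEven (m : ℕ) (V : Matrix (Fin (2 * m)) (Fin (2 * m)) K) (hV : IsUnit (V + Vᵀ).det) :
    Module.finrank K (LinearMap.ker (tanEven V)) = m * (2 * m - 1) := by
  classical
  have hs : LinearMap.range (tanEven V) = ⊤ := LinearMap.range_eq_top.2 fun δ => ⟨(V + Vᵀ)⁻¹ * up δ, by
    change co ((V + Vᵀ) * ((V + Vᵀ)⁻¹ * up δ)) = δ
    rw [← Matrix.mul_assoc, Matrix.mul_nonsing_inv _ hV, Matrix.one_mul, co_up]⟩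
  have h1 := LinearMap.finrank_range_add_finrank_ker (tanEven V)
  rw [hs, finrank_top, Module.finrank_fintype_fun_eq_card, Sym2.card, Fintype.card_fin, Nat.choose_two_right,
    Module.finrank_matrix, Fintype.card_fin, Module.finrank_self, mul_one, Nat.add_sub_cancel,
    show (2 * m + 1) * (2 * m) = (2 * m + 1) * m * 2 by ring, Nat.mul_div_cancel _ two_pos] at h1
  rcases m with _ | k
  · omega
  · have : 2 * (k + 1) - 1 = 2 * k + 1 := by omega
    rw [this]
    nlinarith

end Field

variable {R : Type u} [CommRing R]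

/-- Extra equations whose values on isometries are idempotent. -/
def IdemEqn {n : ℕ} (Q : QuadraticForm R (Fin n → R)) (eqn : Finset (MvPolynomial (Fin n × Fin n) R)) : Prop :=
  ∀ (A : Type u) [CommRing A] [Algebra R A] (g : Matrix (Fin n) (Fin n) A), IsSol Q ∅ g →
    ∀ p ∈ eqn, IsIdempotentElem (aeval (fun ij : Fin n × Fin n => g ij.1 ij.2) p)

/-- The entries of the universal solution. -/
noncomputable def solEntry {n : ℕ} (Q : QuadraticForm R (Fin n → R)) (eqn : Finset (MvPolynomial (Fin n × Fin n) R))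
    (i j : Fin n) : Coord Q eqn :=
  Ideal.Quotient.mk _ (MvPolynomial.X (i, j))

/-- The universal solution. -/
noncomputable def solMat {n : ℕ} (Q : QuadraticForm R (Fin n → R)) (eqn : Finset (MvPolynomial (Fin n × Fin n) R)) :
    Matrix (Fin n) (Fin n) (Coord Q eqn) :=
  Matrix.of fun i j => solEntry Q eqn i j

theorem algHom_ext_sol {n : ℕ} (Q : QuadraticForm R (Fin n → R)) (eqn : Finset (MvPolynomial (Fin n × Fin n) R))
    {B : Type u} [CommRing B] [Algebra R B] {f g : Coord Q eqn →ₐ[R] B}
    (h : (solMat Q eqn).map f = (solMat Q eqn).map g) : f = g :=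
  Ideal.Quotient.algHom_ext R (MvPolynomial.algHom_ext fun ij => congrFun (congrFun h ij.1) ij.2)

variable {m : ℕ} {Q : QuadraticForm R (Fin (2 * m) → R)} {eqn : Finset (MvPolynomial (Fin (2 * m) × Fin (2 * m)) R)}

theorem isSol_perturb_even (hQ : IsRegular Q) (hp : IdemEqn Q eqn) {K : Type u} [Field K] [Algebra R K]
    (g h : Matrix (Fin (2 * m)) (Fin (2 * m)) K) (hg : IsSol Q eqn g) :
    IsSol Q eqn (g.map cst * (1 + (DualNumber.eps : DualNumber K) • h.map cst)) ↔
      h ∈ LinearMap.ker (tanEven (gᵀ * (wMat Q).map (algebraMap R K) * g)) := by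
  set W := (wMat Q).map (algebraMap R K)
  set V := gᵀ * W * g
  have hW : W.map cst = (wMat Q).map (algebraMap R (DualNumber K)) := by
    exact Matrix.ext fun a b => rfl
  set G := g.map cst * (1 + (DualNumber.eps : DualNumber K) • h.map cst) with hG
  have hassoc : Gᵀ * W.map cst * G = (1 + (DualNumber.eps : DualNumber K) • h.map cst)ᵀ * V.map cst *
        (1 + (DualNumber.eps : DualNumber K) • h.map cst) := by
    simp only [G, V, Matrix.map_mul, Matrix.transpose_map, Matrix.transpose_mul, Matrix.mul_assoc]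
  have hco := (congrArg co hassoc).trans (co_tangent V h)
  rw [show co V = co W from hg.1] at hco
  have hiff : IsSol Q ∅ G ↔ h ∈ LinearMap.ker (tanEven V) := by
    rw [isSol_empty_iff, ← hW, LinearMap.mem_ker, hco, ← map_co cst W]
    simp only [tanEven, LinearMap.coe_mk, AddHom.coe_mk, add_eq_left]
    refine ⟨fun e => funext fun s => ?_, fun e => by rw [e]; funext s; simp⟩
    simpa [snd_eps_mul] using congrArg TrivSqZeroExt.snd (congrFun e s)
  refine ⟨fun hs => hiff.1 (isSol_of_subset hs), fun hk => ?_⟩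
  have h0 := hiff.2 hk
  refine ⟨h0.1, fun p hpm => ?_⟩
  set d := aeval (fun ij : Fin (2 * m) × Fin (2 * m) => G ij.1 ij.2) p with hd
  have hfst : TrivSqZeroExt.fst d = 0 := by
    rw [← hg.2 p hpm, hd]
    change ((TrivSqZeroExt.fstHom R K K).comp (aeval fun ij : Fin (2 * m) × Fin (2 * m) => G ij.1 ij.2)) p = _
    refine DFunLike.congr_fun (MvPolynomial.algHom_ext fun ij => ?_) p
    simp [G, Matrix.mul_apply, Matrix.one_apply, mul_ite, apply_ite TrivSqZeroExt.fst, TrivSqZeroExt.fst_sum]
  have hid : d * d = d := hp (DualNumber K) G h0 p hpm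
  refine TrivSqZeroExt.ext hfst ?_
  have := congrArg TrivSqZeroExt.snd hid
  rw [TrivSqZeroExt.snd_mul, hfst, zero_smul, MulOpposite.op_zero, zero_smul, add_zero] at this
  exact this.symm

/-- The rank of the differentials of a piece of the group. -/
theorem card_basis_kaehler_even (hQ : IsRegular Q) (hidem : IdemEqn Q eqn) {C K : Type u} [CommRing C] [Algebra R C] [Field K]
    [Algebra C K] [Algebra R K] [IsScalarTower R C K] (f : Coord Q (eqn))
    (ι : Coord Q (eqn) →ₐ[R] C) (hf : IsUnit (ι f))
    (hext : ∀ {B : Type u} [CommRing B] [Algebra R B] (φ ψ : C →ₐ[R] B), φ.comp ι = ψ.comp ι → φ = ψ)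
    (hlift : ∀ {B : Type u} [CommRing B] [Algebra R B] (φ : Coord Q (eqn) →ₐ[R] B),
      IsUnit (φ f) → ∃ Φ : C →ₐ[R] B, Φ.comp ι = φ)
    {σ : Type u} [Fintype σ] (b : Module.Basis σ C Ω[C⁄R]) : Fintype.card σ = m * (2 * m - 1) := by
  classical
  let π : C →ₐ[R] K := IsScalarTower.toAlgHom R C K
  let g := (OrthSmooth.homEquiv Q _ K (π.comp ι))
  have hdet : IsUnit g.1.det := isUnit_det_of_isSol hQ (even_two_mul m) g.2
  set V := g.1ᵀ * (wMat Q).map (algebraMap R K) * g.1
  have hV : IsUnit (V + Vᵀ).det := by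
    rw [polar_congr, Matrix.det_mul, Matrix.det_mul, Matrix.det_transpose]
    exact (hdet.mul (isUnit_det_polar_map (isUnit_det_polar_of_isRegular Q hQ) K)).mul hdet
  -- linear functionals on the differentials as tangent vectors
  let Θ : (σ → K) →ₗ[K] Matrix (Fin (2 * m)) (Fin (2 * m)) K :=
    { toFun := fun v => g.1⁻¹ * Matrix.of fun i j =>
        b.constr K v (KaehlerDifferential.D R C (ι (solEntry Q eqn i j)))
      map_add' := fun v w => by
        rw [← Matrix.mul_add]; congr 1; ext i j; simp
      map_smul' := fun r v => by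
        rw [RingHom.id_apply, ← Matrix.mul_smul]; congr 1; ext i j; simp }
  let ψ : (Ω[C⁄R] →ₗ[C] K) → (C →ₐ[R] DualNumber K) := fun l => tanHom l
  have hmat : ∀ v, (solMat Q eqn).map ((ψ (b.constr K v)).comp ι) =
      g.1.map cst * (1 + (DualNumber.eps : DualNumber K) • (Θ v).map cst) := by
    intro v
    rw [Matrix.mul_add, Matrix.mul_one, Matrix.mul_smul, ← Matrix.map_mul]
    simp only [Θ, LinearMap.coe_mk, AddHom.coe_mk]
    rw [← Matrix.mul_assoc, Matrix.mul_nonsing_inv _ hdet, Matrix.one_mul]
    ext i j <;> simp [ψ, tanHom, π, g, OrthSmooth.homEquiv, solMat, solEntry, snd_eps_mul, TrivSqZeroExt.fst_sum]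
  have hker : ∀ v, Θ v ∈ LinearMap.ker (tanEven V) := by
    intro v
    rw [← isSol_perturb_even hQ hidem g.1 (Θ v) g.2, ← hmat]
    exact (OrthSmooth.homEquiv Q _ (DualNumber K) ((ψ (b.constr K v)).comp ι)).2
  have hinj : ∀ v, Θ v = 0 → v = 0 := by
    intro v hv
    have h1 : (ψ (b.constr K v)).comp ι = (ψ (0 : Ω[C⁄R] →ₗ[C] K)).comp ι := by
      refine algHom_ext_sol Q eqn ?_
      rw [hmat, hv]
      have := hmat 0
      rw [map_zero, map_zero] at this
      exact this.symm
    have h2 : ψ (b.constr K v) = ψ 0 := hext _ _ h1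
    have h3 : ∀ c, b.constr K v (KaehlerDifferential.D R C c) = 0 := fun c => by
      simpa [ψ, tanHom] using congrArg TrivSqZeroExt.snd (AlgHom.congr_fun h2 c)
    refine (b.constr K).injective ?_
    rw [map_zero]
    refine LinearMap.ext_on (KaehlerDifferential.span_range_derivation R C) ?_
    rintro _ ⟨c, rfl⟩
    simpa using h3 c
  have hsurj : ∀ h ∈ LinearMap.ker (tanEven V), ∃ v, Θ v = h := by
    intro h hh
    let φ := (OrthSmooth.homEquiv Q _ (DualNumber K)).symm ⟨_, (isSol_perturb_even hQ hidem g.1 h g.2).2 hh⟩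
    have hφ : (solMat Q eqn).map φ = g.1.map cst * (1 + (DualNumber.eps : DualNumber K) • h.map cst) := by
      ext i j : 1
      simp [φ, OrthSmooth.homEquiv, solMat, solEntry]
    have hfst : (TrivSqZeroExt.fstHom R K K).comp φ = π.comp ι := by
      refine algHom_ext_sol Q eqn ?_
      rw [AlgHom.coe_comp, ← Matrix.map_map, hφ]
      ext i j
      simp [g, π, OrthSmooth.homEquiv, solMat, solEntry, Matrix.mul_apply, Matrix.one_apply, mul_ite, apply_ite TrivSqZeroExt.fst]
    have hu : IsUnit (φ f) := by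
      rw [TrivSqZeroExt.isUnit_iff_isUnit_fst]
      have : TrivSqZeroExt.fst (φ f) = π (ι f) := AlgHom.congr_fun hfst f
      rw [this]
      exact hf.map π
    obtain ⟨Φ, hΦ⟩ := hlift φ hu
    have hπ : ∀ c, TrivSqZeroExt.fst (Φ c) = π c := fun c => by
      have : (TrivSqZeroExt.fstHom R K K).comp Φ = π := hext _ _ (by
        rw [AlgHom.comp_assoc, hΦ, hfst])
      exact AlgHom.congr_fun this c
    let δ : Derivation R C K :=
      { toLinearMap := ((TrivSqZeroExt.sndHom K K).restrictScalars R).comp Φ.toLinearMap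
        map_one_eq_zero' := by simp
        leibniz' := fun x y => by
          simp [hπ, Algebra.smul_def, π]; ring }
    refine ⟨fun i => δ.liftKaehlerDifferential (b i), ?_⟩
    have hl : b.constr K (fun i => δ.liftKaehlerDifferential (b i)) = δ.liftKaehlerDifferential :=
      b.constr_self K δ.liftKaehlerDifferential
    simp only [Θ, LinearMap.coe_mk, AddHom.coe_mk, hl]
    have h5 : (Matrix.of fun i j => δ.liftKaehlerDifferential (KaehlerDifferential.D R C (ι (solEntry Q eqn i j)))) =
        g.1 * h := by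
      ext i j
      have h6 := congrArg TrivSqZeroExt.snd (congrFun (congrFun (hΦ.symm ▸ hφ) i) j)
      rw [Matrix.mul_add, Matrix.mul_one, Matrix.mul_smul, ← Matrix.map_mul] at h6
      rw [Matrix.of_apply, Derivation.liftKaehlerDifferential_comp_D]
      simpa [δ, solMat, solEntry, snd_eps_mul, ← Matrix.map_mul] using h6
    rw [h5, ← Matrix.mul_assoc, Matrix.nonsing_inv_mul _ hdet, Matrix.one_mul]
  rw [← finrank_ker_tanEven m V hV, ← Module.finrank_fintype_fun_eq_card K]
  refine LinearEquiv.finrank_eq (LinearEquiv.ofBijective (Θ.codRestrict _ hker) ⟨?_, ?_⟩)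
  · intro v w h
    exact sub_eq_zero.1 (hinj _ (by rw [map_sub, sub_eq_zero]; exact congrArg Subtype.val h))
  · rintro ⟨h, hh⟩
    obtain ⟨v, hv⟩ := hsurj h hh
    exact ⟨v, Subtype.ext hv⟩

/-- The rank of the differentials of a standard smooth piece. -/
theorem rank_kaehler_piece_even (hQ : IsRegular Q) (hidem : IdemEqn Q eqn) (f : Coord Q (eqn))
    [Algebra.IsStandardSmooth R (Localization.Away f)] [Nontrivial (Localization.Away f)] :
    Module.rank (Localization.Away f) Ω[Localization.Away f⁄R] = (m * (2 * m - 1) : ℕ) := by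
  classical
  obtain ⟨p, hp⟩ := Ideal.exists_maximal (Localization.Away f)
  rw [rank_eq_card_basis (Module.Free.chooseBasis (Localization.Away f) Ω[Localization.Away f⁄R]),
    card_basis_kaehler_even hQ hidem (K := p.ResidueField) f (IsScalarTower.toAlgHom R _ (Localization.Away f))
      (IsLocalization.Away.algebraMap_isUnit f) (fun φ ψ h => IsLocalization.algHom_ext (Submonoid.powers f) h)
      (fun φ hu => ⟨IsLocalization.liftAlgHom (M := Submonoid.powers f) (f := φ)
        (fun y => by obtain ⟨k, hk⟩ := y.2; rw [← hk, map_pow]; exact hu.pow k),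
        AlgHom.ext fun x => IsLocalization.lift_eq _ x⟩)
      (Module.Free.chooseBasis (Localization.Away f) Ω[Localization.Away f⁄R])]

open CategoryTheory AlgebraicGeometry in
/-- The scheme of solutions is smooth of relative dimension `m(2m+1)`. -/
theorem smoothOfRelativeDimension_coord_even (hQ : IsRegular Q) (hidem : IdemEqn Q eqn) [Algebra.FormallySmooth R (Coord Q eqn)] :
    AlgebraicGeometry.SmoothOfRelativeDimension (m * (2 * m - 1))
      (Spec.map (CommRingCat.ofHom (algebraMap R (Coord Q (eqn))))) := by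
  classical
  set A := Coord Q eqn
  haveI hs : Algebra.Smooth R A := { formallySmooth := inferInstance, finitePresentation := inferInstance }
  rw [HasRingHomProperty.Spec_iff (P := @AlgebraicGeometry.SmoothOfRelativeDimension (m * (2 * m - 1))),
    RingHom.locally_iff_span_eq_top]
  by_contra hne
  obtain ⟨p, hp, hle⟩ := Ideal.exists_le_maximal _ hne
  haveI : Algebra.IsSmoothAt R p := inferInstance
  obtain ⟨f, hfp, hstd⟩ := Algebra.IsSmoothAt.exists_notMem_isStandardSmooth R p
  refine hfp (hle (Ideal.subset_span ?_))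
  haveI : Nontrivial (Localization.Away f) := ⟨⟨0, 1, fun h => by
    have h1 : algebraMap A (Localization.Away f) 1 = 0 := by rw [map_one]; exact h.symm
    obtain ⟨⟨y, k, hk⟩, hy⟩ := (IsLocalization.map_eq_zero_iff (Submonoid.powers f) _ _).1 h1
    refine hfp (hp.isPrime.mem_of_pow_mem k ?_)
    rw [show f ^ k = y from hk, show y = 0 by simpa using hy]
    exact p.zero_mem⟩⟩
  have hd' := (Algebra.IsStandardSmoothOfRelativeDimension.iff_of_isStandardSmooth (R := R) (S := Localization.Away f)
    (m * (2 * m - 1))).2 (rank_kaehler_piece_even hQ hidem f)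
  change RingHom.IsStandardSmoothOfRelativeDimension _ ((algebraMap A (Localization.Away f)).comp (algebraMap R A))
  rw [← IsScalarTower.algebraMap_eq, RingHom.isStandardSmoothOfRelativeDimension_algebraMap]
  exact hd'

end Groth.Agent.CliffSmooth
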