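import Groth.Agent.CliffSmooth.EvenConnected
import Groth.Agent.CliffSmooth.EvenRelDim

/-!
# The special orthogonal group scheme in even rank
-/

set_option autoImplicit false

universe u

namespace Groth.Agent.CliffSmooth

open QuadGrp Groth.Agent.OrthSmooth CategoryTheory AlgebraicGeometry

variable {R : Type u} [CommRing R] {m : ℕ} {Q : QuadraticForm R (Fin (2 * m) → R)}

theorem sorth_even_main (hm : 1 ≤ m) (hQ : IsRegular Q) {G : Over (Spec (CommRingCat.of R))} [GrpObj G]
    (G' : QuadGrp.SOrthRep Q G) :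
    AlgebraicGeometry.SmoothOfRelativeDimension (m * (2 * m - 1)) G.hom ∧
      ∀ s : ↥(Spec (CommRingCat.of R)), ConnectedSpace ↥(G.hom.fiber s) := by
  classical
  have hn := even_two_mul m
  obtain ⟨D⟩ := exists_datum (Pi.basisFun R (Fin (2 * m))) hQ
  haveI := formallySmooth_sorth_even hQ D hn
  obtain ⟨e, he⟩ := OrthSmooth.exists_iso (affRepSOrthEven hQ D hn (by omega) G')
  refine ⟨?_, fun s => ?_⟩
  · rw [he, MorphismProperty.cancel_left_of_respectsIso (@AlgebraicGeometry.SmoothOfRelativeDimension (m * (2 * m - 1)))]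
    exact smoothOfRelativeDimension_coord_even hQ (idemEqn_dPoly hQ D)
  have hc := isConnected_fibre_even hQ D hm s
  set C := Coord Q {dPoly hQ D hn}
  have hset : G.hom ⁻¹' {s} = e.inv '' (PrimeSpectrum.comap (algebraMap R C) ⁻¹' {s}) := by
    ext x
    constructor
    · intro hx
      refine ⟨e.hom x, ?_, ?_⟩
      · have hx' : G.hom x = s := hx
        refine Set.mem_singleton_iff.2 (?_ : _ = s)
        rw [← hx', he]
        rfl
      · rw [← Scheme.Hom.comp_apply, e.hom_inv_id]
        rfl
    · rintro ⟨y, hy, rfl⟩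
      refine Set.mem_singleton_iff.2 (?_ : G.hom (e.inv y) = s)
      rw [he, Scheme.Hom.comp_apply, ← Scheme.Hom.comp_apply e.inv e.hom, e.inv_hom_id]
      exact hy
  have h2 : _root_.IsConnected (G.hom ⁻¹' {s}) := hset ▸ hc.image _ e.inv.continuous.continuousOn
  haveI := isConnected_iff_connectedSpace.1 h2
  exact (G.hom.fiberHomeo s).symm.surjective.connectedSpace (G.hom.fiberHomeo s).symm.continuous

end Groth.Agent.CliffSmooth
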