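import Groth.Agent.CliffSmooth.Core

/-!
# The centre of the Clifford algebra of a regular form of even rank
-/

set_option autoImplicit false

universe u v

namespace Groth.Agent.CliffSmooth

open CliffordAlgebra

variable {R : Type u} [CommRing R] {M : Type v} [AddCommGroup M] [Module R M] [Module.Free R M]
  {Q : QuadraticForm R M} {n : ℕ}

/-- Top degree components beyond the rank vanish. -/
theorem tail_eq_zero_of_rank_lt (b : Module.Basis (Fin n) R M) {k : ℕ} (h : n < k) (x : ExteriorAlgebra R M) :
    tail k x = 0 := by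
  induction x using DirectSum.Decomposition.inductionOn (fun i : ℕ => ⋀[R]^i M) with
  | zero => simp
  | add a c ha hc => rw [map_add, ha, hc, add_zero]
  | @homogeneous i m =>
    rw [tail_of_mem m.2]
    by_cases hi : i < k
    · rw [if_pos hi]
    · rw [if_neg hi]
      have : IsEmpty (Set.powersetCard (Fin n) i) := by
        refine ⟨fun s => ?_⟩
        have := s.1.card_le_univ
        have h2 : s.1.card = i := s.2
        rw [Fintype.card_fin] at this
        omega
      have : m = 0 := (b.exteriorPower i).repr.injective (Finsupp.ext fun s => isEmptyElim s)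
      rw [this]; rfl

theorem tail_ι_mul (v : M) (j : ℕ) (y : ExteriorAlgebra R M) :
    tail (j + 1) (ExteriorAlgebra.ι R v * y) = ExteriorAlgebra.ι R v * tail j y := by
  induction y using DirectSum.Decomposition.inductionOn (fun i : ℕ => ⋀[R]^i M) with
  | zero => simp
  | add a c ha hc => rw [mul_add, map_add, map_add, ha, hc, mul_add]
  | @homogeneous i m =>
    have hm : ExteriorAlgebra.ι R v * (m : ExteriorAlgebra R M) ∈ ⋀[R]^(1 + i) M :=
      SetLike.mul_mem_graded (mem_one_iff.2 ⟨v, rfl⟩) m.2
    rw [tail_of_mem hm, tail_of_mem m.2]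
    by_cases h : i < j
    · rw [if_pos h, if_pos (by omega), mul_zero]
    · rw [if_neg h, if_neg (by omega)]

/-- An element killed by wedging with the basis vectors of `s` has degree at least the size of `s`. -/
theorem tail_card_eq_self (b : Module.Basis (Fin n) R M) (s : Finset (Fin n)) :
    ∀ y : ExteriorAlgebra R M, (∀ i ∈ s, ExteriorAlgebra.ι R (b i) * y = 0) → tail s.card y = y := by
  induction s using Finset.induction_on with
  | empty => intro y _; simp [tail]
  | @insert k s hk ih =>
    intro y hy
    rw [Finset.card_insert_of_notMem hk]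
    have hd : ∀ i, contractLeft (Q := (0 : QuadraticForm R M)) (b.coord k) (ExteriorAlgebra.ι R (b i) * y) =
        b.coord k (b i) • y - ExteriorAlgebra.ι R (b i) * contractLeft (Q := (0 : QuadraticForm R M)) (b.coord k) y :=
      fun i => contractLeft_ι_mul _ _ _
    have hy' : y = ExteriorAlgebra.ι R (b k) * contractLeft (Q := (0 : QuadraticForm R M)) (b.coord k) y := by
      have := hd k
      rw [hy k (Finset.mem_insert_self k s), map_zero] at this
      simp only [Module.Basis.coord_apply, Module.Basis.repr_self, Finsupp.single_eq_same, one_smul] at this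
      exact sub_eq_zero.1 this.symm
    rw [hy', tail_ι_mul, ih]
    intro i hi
    have := hd i
    rw [hy i (Finset.mem_insert_of_mem hi), map_zero] at this
    have hne : i ≠ k := fun e => hk (e ▸ hi)
    simp only [Module.Basis.coord_apply, Module.Basis.repr_self, Finsupp.single_eq_of_ne hne.symm, zero_smul,
      zero_sub, zero_eq_neg] at this
    exact this

theorem toExt_mem_evenOdd {i : ZMod 2} {x : CliffordAlgebra Q} (hx : x ∈ evenOdd Q i) :
    toExt Q x ∈ evenOdd (0 : QuadraticForm R M) i := by
  induction x, hx using CliffordAlgebra.evenOdd_induction (Q := Q) (n := i) with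
  | range_ι_pow v hv =>
    rcases zmod_two_cases i with rfl | rfl
    · rw [ZMod.val_zero, pow_zero, Submodule.mem_one] at hv
      obtain ⟨r, rfl⟩ := hv
      rw [toExt_algebraMap]
      exact SetLike.algebraMap_mem_graded _ _
    · rw [ZMod.val_one, pow_one] at hv
      obtain ⟨m, rfl⟩ := hv
      rw [toExt_ι]
      exact ι_mem_evenOdd_one _ m
  | add x y hx hy ihx ihy => rw [map_add]; exact Submodule.add_mem _ ihx ihy
  | ι_mul_ι_mul m₁ m₂ x hx ih =>
    rw [mul_assoc, toExt, changeFormEquiv_apply, changeForm_ι_mul, changeForm_ι_mul]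
    set z := changeForm (neg_bilinLift_spec Q) x
    have hz : z ∈ evenOdd (0 : QuadraticForm R M) i := ih
    have h1 : ι (0 : QuadraticForm R M) m₂ * z - contractLeft ((-QuadGrp.bilinLift Q) m₂) z ∈ evenOdd _ (1 + i) := by
      refine Submodule.sub_mem _ (SetLike.mul_mem_graded (ι_mem_evenOdd_one _ m₂) hz) ?_
      rw [add_comm]; exact contractLeft_mem_evenOdd _ _ i hz
    refine Submodule.sub_mem _ ?_ ?_
    · have h := SetLike.mul_mem_graded (ι_mem_evenOdd_one (0 : QuadraticForm R M) m₁) h1
      rw [add_comm 1 i] at h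
      rwa [zmod_two_cancel] at h
    · have h := contractLeft_mem_evenOdd (Q := (0 : QuadraticForm R M)) ((-QuadGrp.bilinLift Q) m₁) _ h1
      rwa [add_assoc, zmod_two_cancel] at h

theorem tail_even_eq_zero (b : Module.Basis (Fin n) R M) (hn : Even n) {z : ExteriorAlgebra R M}
    (hz : z ∈ evenOdd (0 : QuadraticForm R M) 1) : tail n z = 0 := by
  suffices h : ∀ y : ExteriorAlgebra R M, tail n (par (0 : QuadraticForm R M) 1 y) = 0 by
    have := h z
    rwa [par_of_mem _ hz] at this
  intro y
  induction y using DirectSum.Decomposition.inductionOn (fun i : ℕ => ⋀[R]^i M) with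
  | zero => simp
  | add a c ha hc => rw [map_add, map_add, ha, hc, add_zero]
  | @homogeneous i m =>
    have hm : (m : ExteriorAlgebra R M) ∈ evenOdd (0 : QuadraticForm R M) (i : ZMod 2) := by
      obtain ⟨y, hy⟩ := m
      exact le_iSup (fun j : {k : ℕ // (k : ZMod 2) = (i : ZMod 2)} =>
        LinearMap.range (ι (0 : QuadraticForm R M)) ^ (j : ℕ)) ⟨i, rfl⟩ hy
    rcases zmod_two_cases (i : ZMod 2) with h | h
    · rw [h] at hm
      rw [par_of_mem_ne _ hm (by decide), map_zero]
    · rw [h] at hm
      rw [par_of_mem _ hm, tail_of_mem m.2]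
      by_cases hi : i < n
      · rw [if_pos hi]
      · rcases Nat.eq_or_lt_of_le (not_lt.1 hi) with rfl | hlt
        · exact absurd h (by rw [(ZMod.natCast_eq_zero_iff_even).2 hn]; decide)
        · have := tail_eq_zero_of_rank_lt b hlt (m : ExteriorAlgebra R M)
          rw [tail_of_mem m.2, if_neg (lt_irrefl i)] at this
          rw [if_neg hi, this]

/-- An odd central element vanishes. -/
theorem odd_central_eq_zero (b : Module.Basis (Fin n) R M) (hn : Even n) (hQ : QuadGrp.IsRegular Q)
    {x : CliffordAlgebra Q} (hx : x ∈ evenOdd Q 1) (hc : ∀ v, ι Q v * x = x * ι Q v) : x = 0 := by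
  suffices h : ∀ (k : ℕ) (x : CliffordAlgebra Q), k ≤ n → tail k (toExt Q x) = 0 → x ∈ evenOdd Q 1 →
      (∀ v, ι Q v * x = x * ι Q v) → x = 0 from
    h n x le_rfl (tail_even_eq_zero b hn (toExt_mem_evenOdd hx)) hx hc
  intro k
  induction k with
  | zero =>
    intro x _ hk _ _
    rw [show tail 0 (toExt Q x) = toExt Q x by simp [tail]] at hk
    exact (toExt Q).map_eq_zero_iff.1 hk
  | succ k ih =>
    intro x hkn hk hx hc
    have hd : ∀ v, contractLeft (QuadraticMap.polarBilin Q v) x = (2 : R) • (ι Q v * x) := fun v => by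
      rw [← ι_mul_sub_involute_mul, involute_eq_of_mem_odd hx, neg_mul, sub_neg_eq_add, ← hc, two_smul]
    have hk2 : tail (k + 1 + 1) (toExt Q x) = 0 := by
      have := congrArg (tail (k + 1 + 1)) hk
      rwa [map_zero, tail_tail, max_eq_left (Nat.le_succ _)] at this
    have h2 : (2 : R) • x = 0 := by
      refine ih _ (by omega) ?_ (Submodule.smul_mem _ _ hx) fun v => by rw [mul_smul_comm, smul_mul_assoc, hc]
      set w := tail k (toExt Q ((2 : R) • x))
      have hw : ∀ v, ExteriorAlgebra.ι R v * w = 0 := by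
        intro v
        have e := congrArg (fun y => tail (k + 1) (toExt Q y)) (hd v)
        simp only [toExt_contractLeft, map_smul] at e
        rw [← contractLeft_tail, hk2, map_zero, toExt, changeFormEquiv_apply, changeForm_ι_mul, map_sub,
          ← contractLeft_tail] at e
        change 0 = (2 : R) • (tail (k + 1) (ExteriorAlgebra.ι R v * toExt Q x) -
          contractLeft _ (tail (k + 1 + 1) (toExt Q x))) at e
        rw [hk2, map_zero, sub_zero, tail_ι_mul] at e
        rw [show w = (2 : R) • tail k (toExt Q x) by simp [w], mul_smul_comm]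
        exact e.symm
      have h1 := tail_card_eq_self b Finset.univ w fun i _ => hw (b i)
      rw [Finset.card_univ, Fintype.card_fin] at h1
      rw [← h1, show w = tail k (toExt Q ((2 : R) • x)) from rfl, tail_tail,
        max_eq_left (by omega : k ≤ n), ← max_eq_left (hkn : k + 1 ≤ n), ← tail_tail, map_smul, map_smul, hk,
        smul_zero, map_zero]
    have h3 : ∀ a, contractLeft a x = 0 := by
      intro a
      obtain ⟨v, rfl⟩ := hQ.2 a
      rw [hd, ← mul_smul_comm, h2, mul_zero]
    have e := eq_algebraMap_of_contractLeft_eq_zero b (toExt Q x) fun a => by rw [← toExt_contractLeft, h3, map_zero]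
    rw [← toExt_algebraMap Q] at e
    rw [(toExt Q).injective e] at hx ⊢
    exact (par_of_mem Q hx).symm.trans (par_of_mem_ne Q (SetLike.algebraMap_mem_graded _ _) (by decide))

omit [Module.Free R M] in
theorem par_mul_ι (i : ZMod 2) (x : CliffordAlgebra Q) (v : M) :
    par Q (i + 1) (x * ι Q v) = par Q i x * ι Q v ∧ par Q (i + 1) (ι Q v * x) = ι Q v * par Q i x := by
  induction x using DirectSum.Decomposition.inductionOn (evenOdd Q) with
  | zero => simp
  | add a c ha hc => exact ⟨by rw [add_mul, map_add, map_add, add_mul, ha.1, hc.1],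
      by rw [mul_add, map_add, map_add, mul_add, ha.2, hc.2]⟩
  | @homogeneous j m =>
    have h1 : (m : CliffordAlgebra Q) * ι Q v ∈ evenOdd Q (j + 1) := SetLike.mul_mem_graded m.2 (ι_mem_evenOdd_one Q v)
    have h2 : ι Q v * (m : CliffordAlgebra Q) ∈ evenOdd Q (j + 1) := by
      rw [add_comm]; exact SetLike.mul_mem_graded (ι_mem_evenOdd_one Q v) m.2
    by_cases h : j = i
    · subst h; rw [par_of_mem Q h1, par_of_mem Q h2, par_of_mem Q m.2]; exact ⟨rfl, rfl⟩
    · rw [par_of_mem_ne Q h1 (fun e => h (add_right_cancel e)), par_of_mem_ne Q h2 (fun e => h (add_right_cancel e)),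
        par_of_mem_ne Q m.2 h]
      simp

/-- Over a regular form of even rank the naive Clifford group is locally homogeneous. -/
theorem gPin'_le_LH (b : Module.Basis (Fin n) R M) (hn : Even n) (hQ : QuadGrp.IsRegular Q) :
    QuadGrp.GPin' Q ≤ QuadGrp.LH Q := by
  intro u hu
  have hg := goodPolar_of_goodMat (goodMat_of_isUnit_det (isUnit_det_polMat_of_isRegular b hQ))
  obtain ⟨h1, -⟩ := (mem_GPin'_iff u).1 hu
  set x := (↑u⁻¹ : CliffordAlgebra Q) * par Q 0 (u : CliffordAlgebra Q)
  have hcx : ∀ v, ι Q v * x = x * ι Q v := by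
    intro v
    obtain ⟨w, hw⟩ := h1 v
    have hp := congrArg (fun y => par Q (0 + 1) (y * u)) hw
    simp only [Units.inv_mul_cancel_right] at hp
    rw [(par_mul_ι (Q := Q) 0 _ _).1, (par_mul_ι (Q := Q) 0 _ _).2] at hp
    change _ = ↑u⁻¹ * par Q 0 ↑u * ι Q v
    rw [mul_assoc, ← hp, ← mul_assoc, ← mul_assoc, hw]
    simp only [← mul_assoc, Units.inv_mul, one_mul]
  have hcp : ∀ i v, ι Q v * par Q i x = par Q i x * ι Q v := fun i v => by
    rw [← (par_mul_ι (Q := Q) i x v).1, ← (par_mul_ι (Q := Q) i x v).2, hcx]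
  obtain ⟨e, he⟩ := even_central hg (par_mem Q 0 x) (hcp 0)
  have hxe : x = algebraMap R _ e := by
    rw [← par_add_par Q x, odd_central_eq_zero b hn hQ (par_mem Q 1 x) (hcp 1), add_zero, he]
  have h0 : e • (u : CliffordAlgebra Q) = par Q 0 (u : CliffordAlgebra Q) := by
    rw [Algebra.smul_def, Algebra.commutes, ← hxe]
    simp [x]
  have h01 : (1 - e) • (u : CliffordAlgebra Q) = par Q 1 (u : CliffordAlgebra Q) := by
    rw [sub_smul, one_smul, h0]
    nth_rewrite 1 [← par_add_par Q (u : CliffordAlgebra Q)]
    abel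
  refine ⟨e, ?_, h0 ▸ par_mem Q 0 _, h01 ▸ par_mem Q 1 _⟩
  have hz : (e * (1 - e)) • (u : CliffordAlgebra Q) = 0 := by
    have a0 : (e * (1 - e)) • (u : CliffordAlgebra Q) ∈ evenOdd Q 0 := by
      rw [mul_comm, mul_smul, h0]; exact Submodule.smul_mem _ _ (par_mem Q 0 _)
    have a1 : (e * (1 - e)) • (u : CliffordAlgebra Q) ∈ evenOdd Q 1 := by
      rw [mul_smul, h01]; exact Submodule.smul_mem _ _ (par_mem Q 1 _)
    exact (par_of_mem Q a0).symm.trans (par_of_mem_ne Q a1 (by decide))
  have hz' : e * (1 - e) = 0 := by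
    apply algebraMap_injective Q
    rw [map_zero, Algebra.algebraMap_eq_smul_one, ← Units.mul_inv u, ← smul_mul_assoc, hz, zero_mul]
  change e * e = e
  linear_combination -hz'

end Groth.Agent.CliffSmooth
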