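import Groth.Agent.CliffSmooth.FrameAlg
import Mathlib.LinearAlgebra.TensorProduct.Pi
import Mathlib.RingTheory.Flat.Equalizer

/-!
# Structure of Clifford algebras of semiregular forms of odd rank, by descent
-/

set_option autoImplicit false

universe u

namespace Groth.Agent.CliffSmooth

open CliffordAlgebra QuadGrp TensorProduct

variable {R : Type u} [CommRing R] {M : Type u} [AddCommGroup M] [Module R M] [Module.Free R M]
  {Q : QuadraticForm R M} {m : ℕ}

/-- After a cover: an odd central involution and a matrix description of the even part. -/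
theorem exists_split (b : Module.Basis (Fin (2 * m + 1)) R M) (hQ : IsSemiregular b (LinearEquiv.refl R R) Q) :
    ∃ (A : Type u) (_ : CommRing A) (_ : Algebra R A), IsCover (R := R) A ∧
      ∃ (F : FullFrame (baseChangeForm A Q) m) (fb : Module.Basis (FIdx m) A (A ⊗[R] M)),
        (∀ a, fb a = F.vec a) ∧ GoodPolar (baseChangeForm A Q) (Algebra.TensorProduct.basis A b) := by
  obtain ⟨A, _, _, hA, ⟨F⟩⟩ := exists_fullFrame b hQ
  have hs := isSemiregular_baseChange Q b hQ A
  obtain ⟨fb, hfb⟩ := F.exists_basis _ hs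
  exact ⟨A, _, _, hA, F, fb, hfb, goodPolar_of_goodMat (goodMat_of_isSemiregular (odd_two_mul_add_one m) _ hs)⟩

variable (Q) in
/-- The inclusion of the even part after base change. -/
noncomputable def evenBC (A : Type u) [CommRing A] [Algebra R A] :
    A ⊗[R] ↥(CliffordAlgebra.even Q) →ₐ[A] CliffordAlgebra (baseChangeForm A Q) :=
  (cb Q A).symm.toAlgHom.comp (Algebra.TensorProduct.map (AlgHom.id A A) (CliffordAlgebra.even Q).val)

variable (A : Type u) [CommRing A] [Algebra R A]

variable (Q) in
/-- The even part as a linear retraction. -/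
noncomputable def evenPart : CliffordAlgebra Q →ₗ[R] ↥(CliffordAlgebra.even Q) :=
  LinearMap.codRestrict (Subalgebra.toSubmodule (CliffordAlgebra.even Q)) (par Q 0) fun x => par_mem Q 0 x

theorem cb_evenBC (x : A ⊗[R] ↥(CliffordAlgebra.even Q)) :
    cb Q A (evenBC Q A x) = Algebra.TensorProduct.map (AlgHom.id A A) (CliffordAlgebra.even Q).val x :=
  (cb Q A).apply_symm_apply _

theorem evenBC_injective : Function.Injective (evenBC Q A) := by
  have h : ∀ x, (evenPart Q).baseChange A (cb Q A (evenBC Q A x)) = x := by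
    intro x
    rw [cb_evenBC]
    induction x using TensorProduct.induction_on with
    | zero => simp
    | add a c ha hc => rw [map_add, map_add, ha, hc]
    | tmul a e =>
      rw [Algebra.TensorProduct.map_tmul, LinearMap.baseChange_tmul]
      exact congrArg (a ⊗ₜ[R] ·) (Subtype.ext (par_of_mem Q e.2))
  exact Function.HasLeftInverse.injective ⟨fun y => (evenPart Q).baseChange A (cb Q A y), h⟩

theorem evenBC_mem (x : A ⊗[R] ↥(CliffordAlgebra.even Q)) : evenBC Q A x ∈ evenOdd (baseChangeForm A Q) 0 := by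
  rw [(mem_evenOdd_iff _ _).1, ← map_eq_zero_iff _ (cb Q A).injective, cb_par, cb_evenBC]
  induction x using TensorProduct.induction_on with
  | zero => simp
  | add a c ha hc => rw [map_add, map_add, ha, hc, add_zero]
  | tmul a e => simp [parBC, par_of_mem_ne Q e.2]

theorem exists_evenBC {y : CliffordAlgebra (baseChangeForm A Q)} (hy : y ∈ evenOdd (baseChangeForm A Q) 0) :
    ∃ x, evenBC Q A x = y := by
  refine ⟨(evenPart Q).baseChange A (cb Q A y), (cb Q A).injective ?_⟩
  rw [cb_evenBC]
  conv_rhs => rw [← par_of_mem _ hy, cb_par]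
  generalize cb Q A y = w
  induction w using TensorProduct.induction_on with
  | zero => simp
  | add a c ha hc => rw [map_add, map_add, map_add, ha, hc]
  | tmul a e => simp [parBC, evenPart]; rfl

/-- Even part after base change. -/
noncomputable def evenBCEquiv : (A ⊗[R] ↥(CliffordAlgebra.even Q)) ≃ₐ[A] ↥(CliffordAlgebra.even (baseChangeForm A Q)) :=
  AlgEquiv.ofBijective ((evenBC Q A).codRestrict _ (evenBC_mem (Q := Q) A))
    ⟨fun _ _ h => evenBC_injective A (congrArg Subtype.val h), fun y => by
      obtain ⟨x, hx⟩ := exists_evenBC (Q := Q) A y.2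
      exact ⟨x, Subtype.ext hx⟩⟩

variable (Q) in
/-- The centre after base change. -/
noncomputable def centreBC : A ⊗[R] ↥(Subalgebra.center R (CliffordAlgebra Q)) →ₗ[A] A ⊗[R] CliffordAlgebra Q :=
  (Subalgebra.center R (CliffordAlgebra Q)).val.toLinearMap.baseChange A

theorem centreBC_central (p : A ⊗[R] ↥(Subalgebra.center R (CliffordAlgebra Q))) (y : A ⊗[R] CliffordAlgebra Q) :
    y * centreBC Q A p = centreBC Q A p * y := by
  induction p using TensorProduct.induction_on with
  | zero => simp
  | add a c ha hc => rw [map_add, mul_add, add_mul, ha, hc]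
  | tmul a ζ =>
    induction y using TensorProduct.induction_on with
    | zero => simp
    | add c d hc hd => rw [add_mul, mul_add, hc, hd]
    | tmul c w =>
      simp only [centreBC, LinearMap.baseChange_tmul, AlgHom.toLinearMap_apply, Subalgebra.coe_val,
        Algebra.TensorProduct.tmul_mul_tmul]
      rw [mul_comm c a, (Subalgebra.mem_center_iff.1 ζ.2 w)]

variable (Q) in
/-- Commutators with a basis. -/
noncomputable def commMap {n : ℕ} (b : Module.Basis (Fin n) R M) : CliffordAlgebra Q →ₗ[R] (Fin n → CliffordAlgebra Q) :=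
  LinearMap.pi fun i => LinearMap.mulLeft R (ι Q (b i)) - LinearMap.mulRight R (ι Q (b i))

/-- Central elements after a flat base change come from the centre. -/
theorem exists_centreBC [Module.Flat R A] {n : ℕ} (b : Module.Basis (Fin n) R M) {x : A ⊗[R] CliffordAlgebra Q}
    (hx : ∀ v : M, ((1 : A) ⊗ₜ[R] ι Q v) * x = x * ((1 : A) ⊗ₜ[R] ι Q v)) : ∃ p, centreBC Q A p = x := by
  have hex : Function.Exact (Subalgebra.center R (CliffordAlgebra Q)).val.toLinearMap (commMap Q b) := by
    intro y
    constructor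
    · intro hy
      refine ⟨⟨y, Subalgebra.mem_center_iff.2 fun w => ?_⟩, rfl⟩
      have hb : ∀ v : M, ι Q v * y = y * ι Q v := by
        intro v
        rw [← b.sum_repr v, map_sum, Finset.sum_mul, Finset.mul_sum]
        refine Finset.sum_congr rfl fun i _ => ?_
        rw [map_smul, smul_mul_assoc, mul_smul_comm]
        exact congrArg _ (sub_eq_zero.1 (congrFun hy i))
      induction w using CliffordAlgebra.induction with
      | algebraMap c => exact Algebra.commutes c y
      | ι v => exact hb v
      | add a c ha hc => rw [add_mul, mul_add, ha, hc]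
      | mul a c ha hc => rw [mul_assoc, hc, ← mul_assoc, ha, mul_assoc]
    · rintro ⟨ζ, rfl⟩
      funext i
      exact sub_eq_zero.2 (Subalgebra.mem_center_iff.1 ζ.2 _)
  have hA := Module.Flat.lTensor_exact A hex
  refine ((hA x).1 ?_)
  apply (TensorProduct.piRight R R A (fun _ : Fin n => CliffordAlgebra Q)).injective
  rw [map_zero]
  funext i
  have hcomp : ∀ z : A ⊗[R] CliffordAlgebra Q,
      TensorProduct.piRight R R A (fun _ : Fin n => CliffordAlgebra Q) ((commMap Q b).lTensor A z) i =
        ((1 : A) ⊗ₜ[R] ι Q (b i)) * z - z * ((1 : A) ⊗ₜ[R] ι Q (b i)) := by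
    intro z
    induction z using TensorProduct.induction_on with
    | zero => simp
    | add a c ha hc => rw [map_add, map_add, Pi.add_apply, ha, hc, mul_add, add_mul]; abel
    | tmul a w => simp [commMap, TensorProduct.tmul_sub]
  rw [hcomp, hx, sub_self, Pi.zero_apply]

variable (Q) in
/-- The multiplication of the statement. -/
noncomputable abbrev mulCE : ↥(Subalgebra.center R (CliffordAlgebra Q)) ⊗[R] ↥(CliffordAlgebra.even Q) →ₗ[R] CliffordAlgebra Q :=
  TensorProduct.lift (((LinearMap.mul R (CliffordAlgebra Q)).comp (Subalgebra.center R (CliffordAlgebra Q)).val.toLinearMap).compl₂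
    (CliffordAlgebra.even Q).val.toLinearMap)

variable (Q) in
/-- Pairing of the factors after base change. -/
noncomputable def pairBC :
    (A ⊗[R] ↥(Subalgebra.center R (CliffordAlgebra Q))) ⊗[A] (A ⊗[R] ↥(CliffordAlgebra.even Q)) →ₗ[A]
      A ⊗[R] (↥(Subalgebra.center R (CliffordAlgebra Q)) ⊗[R] ↥(CliffordAlgebra.even Q)) :=
  (AlgebraTensorModule.distribBaseChange R A _ _).symm.toLinearMap

theorem mulCE_pairBC (p : A ⊗[R] ↥(Subalgebra.center R (CliffordAlgebra Q))) (ξ : A ⊗[R] ↥(CliffordAlgebra.even Q)) :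
    (mulCE Q).baseChange A (pairBC Q A (p ⊗ₜ[A] ξ)) = centreBC Q A p * cb Q A (evenBC Q A ξ) := by
  rw [cb_evenBC]
  induction p using TensorProduct.induction_on with
  | zero => simp
  | add a c ha hc => rw [TensorProduct.add_tmul, map_add, map_add, map_add, add_mul, ha, hc]
  | tmul a ζ =>
    induction ξ using TensorProduct.induction_on with
    | zero => simp
    | add c d hc hd => rw [TensorProduct.tmul_add, map_add, map_add, map_add, mul_add, hc, hd]
    | tmul c e => simp [pairBC, centreBC]

/-- The multiplication from centre and even part is bijective. -/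
theorem mulCE_bijective (b : Module.Basis (Fin (2 * m + 1)) R M) (hQ : IsSemiregular b (LinearEquiv.refl R R) Q) :
    Function.Bijective (mulCE Q) := by
  obtain ⟨A, _, _, hA, F, fb, hfb, hg⟩ := exists_split b hQ
  haveI := hA.1
  obtain ⟨hz1, hzz, hzc, -⟩ := F.zc_spec fb hfb
  set z := F.zc
  obtain ⟨zt, hzt⟩ : ∃ p, centreBC Q A p = cb Q A z := exists_centreBC A b fun v => by
    rw [← vecBC_tmul, ← cb_ι, ← map_mul, ← map_mul, hzc]
  let G : (A ⊗[R] ↥(CliffordAlgebra.even Q)) × (A ⊗[R] ↥(CliffordAlgebra.even Q)) →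
      A ⊗[R] (↥(Subalgebra.center R (CliffordAlgebra Q)) ⊗[R] ↥(CliffordAlgebra.even Q)) :=
    fun ξ => pairBC Q A (((1 : A) ⊗ₜ[R] 1) ⊗ₜ[A] ξ.1) + pairBC Q A (zt ⊗ₜ[A] ξ.2)
  have hG : ∀ ξ, (mulCE Q).baseChange A (G ξ) = cb Q A (evenBC Q A ξ.1 + z * evenBC Q A ξ.2) := by
    intro ξ
    rw [map_add, mulCE_pairBC, mulCE_pairBC, hzt, map_add (cb Q A), map_mul]
    congr 1
    rw [show centreBC Q A ((1 : A) ⊗ₜ[R] (1 : ↥(Subalgebra.center R (CliffordAlgebra Q)))) = 1 by
      simp [centreBC, Algebra.TensorProduct.one_def], one_mul]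
  -- every central element is a combination of one and `z`
  have hcen : ∀ p : A ⊗[R] ↥(Subalgebra.center R (CliffordAlgebra Q)),
      ∃ r s : A, p = r • ((1 : A) ⊗ₜ[R] 1) + s • zt := by
    intro p
    obtain ⟨r, s, hrs⟩ := exists_of_central hg hz1 hzz hzc (x := (cb Q A).symm (centreBC Q A p)) fun v => by
      apply (cb Q A).injective
      rw [map_mul, map_mul, AlgEquiv.apply_symm_apply, centreBC_central]
    refine ⟨r, s, Module.Flat.lTensor_preserves_injective_linearMap
      (Subalgebra.center R (CliffordAlgebra Q)).val.toLinearMap Subtype.val_injective ?_⟩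
    have h := congrArg (cb Q A) hrs
    rw [AlgEquiv.apply_symm_apply, map_add, AlgEquiv.commutes, map_smul, ← hzt] at h
    change centreBC Q A p = centreBC Q A (r • ((1 : A) ⊗ₜ[R] 1) + s • zt)
    rw [h, map_add, map_smul, map_smul]
    congr 1
    simp [centreBC, Algebra.TensorProduct.algebraMap_apply, TensorProduct.smul_tmul']
  have hGsurj : ∀ t, ∃ ξ, G ξ = t := by
    intro t
    induction t using TensorProduct.induction_on with
    | zero => exact ⟨0, by simp [G]⟩
    | add x y hx hy =>
      obtain ⟨ξ, rfl⟩ := hx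
      obtain ⟨ξ', rfl⟩ := hy
      exact ⟨ξ + ξ', by simp only [G, Prod.fst_add, Prod.snd_add, TensorProduct.tmul_add, map_add]; abel⟩
    | tmul a y =>
      induction y using TensorProduct.induction_on with
      | zero => exact ⟨0, by simp [G]⟩
      | add x y hx hy =>
        obtain ⟨ξ, hξ⟩ := hx
        obtain ⟨ξ', hξ'⟩ := hy
        refine ⟨ξ + ξ', ?_⟩
        rw [TensorProduct.tmul_add, ← hξ, ← hξ']
        simp only [G, Prod.fst_add, Prod.snd_add, TensorProduct.tmul_add, map_add]
        abel
      | tmul ζ e =>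
        obtain ⟨r, s, hrs⟩ := hcen ((a : A) ⊗ₜ[R] ζ)
        refine ⟨(r • ((1 : A) ⊗ₜ[R] e), s • ((1 : A) ⊗ₜ[R] e)), ?_⟩
        have : a ⊗ₜ[R] (ζ ⊗ₜ[R] e) = pairBC Q A ((a ⊗ₜ[R] ζ) ⊗ₜ[A] ((1 : A) ⊗ₜ[R] e)) := by simp [pairBC]
        rw [this, hrs, TensorProduct.add_tmul, map_add]
        simp only [G, TensorProduct.smul_tmul]
  constructor
  · rw [← Module.FaithfullyFlat.lTensor_injective_iff_injective R A]
    rw [injective_iff_map_eq_zero]
    intro t ht
    obtain ⟨ξ, rfl⟩ := hGsurj t
    have h0 := (hG ξ).symm.trans ht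
    rw [map_eq_zero_iff _ (cb Q A).injective] at h0
    have he : evenBC Q A ξ.1 = 0 := by
      have := congrArg (par (baseChangeForm A Q) 0) h0
      have hz2 := SetLike.mul_mem_graded hz1 (evenBC_mem (Q := Q) A ξ.2)
      rw [map_add, par_of_mem _ (evenBC_mem (Q := Q) A ξ.1), par_of_mem_ne _ hz2 (by decide), add_zero, map_zero] at this
      exact this
    rw [he, zero_add] at h0
    have he2 : evenBC Q A ξ.2 = 0 := by
      have := congrArg (fun w => z * w) h0
      simpa [← mul_assoc, hzz] using this
    have e1 : ξ.1 = 0 := evenBC_injective A (he.trans (map_zero _).symm)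
    have e2 : ξ.2 = 0 := evenBC_injective A (he2.trans (map_zero _).symm)
    simp [G, e1, e2]
  · rw [← Module.FaithfullyFlat.lTensor_surjective_iff_surjective R A]
    intro y
    obtain ⟨x0, hx0⟩ := exists_evenBC (Q := Q) A (par_mem _ 0 ((cb Q A).symm y))
    have h1 := SetLike.mul_mem_graded hz1 (par_mem (baseChangeForm A Q) 1 ((cb Q A).symm y))
    rw [show (1 : ZMod 2) + 1 = 0 from rfl] at h1
    obtain ⟨x1, hx1⟩ := exists_evenBC (Q := Q) A h1
    refine ⟨G (x0, x1), ?_⟩
    refine (hG (x0, x1)).trans ?_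
    rw [hx0, hx1, ← mul_assoc, hzz, one_mul, par_add_par, AlgEquiv.apply_symm_apply]

end Groth.Agent.CliffSmooth
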