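import Groth.Agent.CliffSmooth.EvenSplit
import Groth.Agent.CliffSmooth.EvenRank
import Groth.Agent.CliffSmooth.HypRep
import Groth.Agent.CliffSmooth.OddDescent

/-!
# Regular forms of even rank: matrix descriptions, centre, centraliser of the centre of the even part
-/

set_option autoImplicit false

universe u

namespace Groth.Agent.CliffSmooth

open CliffordAlgebra QuadGrp TensorProduct

variable {A : Type u} [CommRing A]

/-- Indices of the spinor basis. -/
abbrev Idx (m : ℕ) : Type := Fin m → ZMod 2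

/-- Parity of an index. -/
def ipar {m : ℕ} (i : Idx m) : ZMod 2 := ∑ l, i l

theorem add_self_zmod2 : ∀ a : ZMod 2, a + a = 0 := by decide

/-- A surjective representation that is odd on vectors. -/
theorem exists_grep (A : Type u) [CommRing A] : ∀ m : ℕ,
    ∃ φ : CliffordAlgebra (hyp A m) →ₐ[A] Matrix (Idx m) (Idx m) A, Function.Surjective φ ∧
      ∀ v i j, φ (ι _ v) i j ≠ 0 → ipar i + ipar j = 1 := by
  intro m
  induction m with
  | zero =>
    refine ⟨CliffordAlgebra.lift (hyp A 0) ⟨0, fun x => by simp [hyp_apply]⟩,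
      fun M => ⟨algebraMap A _ (M 0 0), ?_⟩, fun v i j h => absurd ?_ h⟩
    · rw [AlgHom.commutes]
      ext i j
      rw [Subsingleton.elim i 0, Subsingleton.elim j 0]
      simp [Matrix.algebraMap_matrix_apply]
    · simp
  | succ m ih =>
    obtain ⟨φ, hφ, hpar⟩ := ih
    let τ : HS A (m + 1) →ₗ[A] HS A m := LinearMap.funLeft A (A × A) Fin.succ
    let N := Matrix (Idx m) (Idx m) A
    let f : HS A (m + 1) →ₗ[A] Matrix (Fin 2) (Fin 2) N := block N ((φ.toLinearMap.comp (ι _)).comp τ)
    have hf : ∀ x, f x * f x = algebraMap A _ (hyp A (m + 1) x) := by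
      intro x
      rw [show hyp A (m + 1) x = (x 0).1 * (x 0).2 + hyp A m (τ x) by
        rw [hyp_apply, hyp_apply, Fin.sum_univ_succ]; rfl]
      refine block_sq N _ x _ ?_
      change φ (ι _ (τ x)) * φ (ι _ (τ x)) = _
      rw [← map_mul, ι_sq_scalar, AlgHom.commutes]
    let Ψ := CliffordAlgebra.lift (hyp A (m + 1)) ⟨f, hf⟩
    have hgen : ∀ x, f x ∈ Ψ.range := fun x => ⟨ι _ x, CliffordAlgebra.lift_ι_apply _ _ x⟩
    let d (M : N) : Matrix (Fin 2) (Fin 2) N := !![M, 0; 0, M]
    have hd_add : ∀ M M', d (M + M') = d M + d M' := fun M M' => by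
      ext i j : 2; fin_cases i <;> fin_cases j <;> simp [d]
    have hd_mul : ∀ M M', d (M * M') = d M * d M' := fun M M' => by
      simp only [d]; rw [Matrix.mul_fin_two]; simp
    let e01 : Matrix (Fin 2) (Fin 2) N := !![0, 1; 0, 0]
    let e10 : Matrix (Fin 2) (Fin 2) N := !![0, 0; 1, 0]
    have h01 : e01 ∈ Ψ.range := by
      have := hgen (Pi.single 0 (1, 0))
      convert this using 1
      have hτ : τ (Pi.single (0 : Fin (m + 1)) ((1, 0) : A × A)) = 0 := by
        funext i; simp [τ, LinearMap.funLeft_apply, Fin.succ_ne_zero]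
      refine Matrix.ext fun i j => ?_
      fin_cases i <;> fin_cases j <;> simp [e01, f, block, hτ, N]
    have h10 : e10 ∈ Ψ.range := by
      have := hgen (Pi.single 0 (0, 1))
      convert this using 1
      have hτ : τ (Pi.single (0 : Fin (m + 1)) ((0, 1) : A × A)) = 0 := by
        funext i; simp [τ, LinearMap.funLeft_apply, Fin.succ_ne_zero]
      refine Matrix.ext fun i j => ?_
      fin_cases i <;> fin_cases j <;> simp [e10, f, block, hτ, N]
    have hdiag : ∀ y : CliffordAlgebra (hyp A m), d (φ y) ∈ Ψ.range := by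
      intro y
      induction y using CliffordAlgebra.induction with
      | algebraMap r =>
        refine ⟨algebraMap A _ r, ?_⟩
        refine Matrix.ext fun i j => ?_
        rw [AlgHom.commutes]
        fin_cases i <;> fin_cases j <;> simp [d, Matrix.algebraMap_matrix_apply, N]
      | add a c ha hc => rw [map_add, hd_add]; exact Subalgebra.add_mem _ ha hc
      | mul a c ha hc => rw [map_mul, hd_mul]; exact Subalgebra.mul_mem _ ha hc
      | ι v =>
        have hx := hgen (Fin.cons 0 v)
        have hτ : τ (Fin.cons (0 : A × A) v) = v := by funext i; simp [τ, LinearMap.funLeft_apply]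
        have := Subalgebra.mul_mem _ (Subalgebra.sub_mem _ (Subalgebra.mul_mem _ h01 h10)
          (Subalgebra.mul_mem _ h10 h01)) hx
        convert this using 1
        refine Matrix.ext fun i j => ?_
        fin_cases i <;> fin_cases j <;> simp [d, e01, e10, f, block, hτ, Matrix.mul_apply, Fin.sum_univ_two, N]
    have hsurj : Function.Surjective Ψ := by
      intro M
      change M ∈ Ψ.range
      have hM : M = d (M 0 0) * (e01 * e10) + d (M 0 1) * e01 + d (M 1 0) * e10 + d (M 1 1) * (e10 * e01) := by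
        simp [d, e01, e10, Matrix.mul_fin_two, ← Matrix.ext_iff, Fin.forall_fin_two]
      have hd' : ∀ N', d N' ∈ Ψ.range := fun N' => by obtain ⟨y, rfl⟩ := hφ N'; exact hdiag y
      rw [hM]
      exact Subalgebra.add_mem _ (Subalgebra.add_mem _ (Subalgebra.add_mem _
        (Subalgebra.mul_mem _ (hd' _) (Subalgebra.mul_mem _ h01 h10)) (Subalgebra.mul_mem _ (hd' _) h01))
        (Subalgebra.mul_mem _ (hd' _) h10)) (Subalgebra.mul_mem _ (hd' _) (Subalgebra.mul_mem _ h10 h01))
    let e : Fin 2 × Idx m ≃ Idx (m + 1) := Fin.consEquiv (fun _ : Fin (m + 1) => ZMod 2)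
    let E : Matrix (Fin 2) (Fin 2) N ≃ₐ[A] Matrix (Idx (m + 1)) (Idx (m + 1)) A :=
      (Matrix.compAlgEquiv (Fin 2) (Idx m) A A).trans (Matrix.reindexAlgEquiv A A e)
    refine ⟨E.toAlgHom.comp Ψ, E.surjective.comp hsurj, fun v i j h => ?_⟩
    obtain ⟨⟨a, i⟩, rfl⟩ := e.surjective i
    obtain ⟨⟨c, j⟩, rfl⟩ := e.surjective j
    have hp : ∀ (a : Fin 2) (i : Idx m), ipar (e (a, i)) = (show ZMod 2 from a) + ipar i := fun a i => by
      simp [ipar, e, Fin.sum_univ_succ, Fin.consEquiv]
      rfl
    have hE : E (Ψ (ι _ v)) (e (a, i)) (e (c, j)) = (f v a c) i j := by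
      rw [CliffordAlgebra.lift_ι_apply]
      simp [E]
      rfl
    have h' : (f v a c) i j ≠ 0 := hE ▸ h
    rw [hp, hp]
    fin_cases a <;> fin_cases c
    · have := hpar (τ v) i j (by simpa [f, block, N] using h')
      calc (0 : ZMod 2) + ipar i + (0 + ipar j) = _ := by rw [zero_add, zero_add]
        _ = 1 := this
    · have hij : i = j := by
        by_contra hne; exact h' (by simp [f, block, N, hne])
      subst hij
      calc (0 : ZMod 2) + ipar i + (1 + ipar i) = 1 + (ipar i + ipar i) := by ring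
        _ = 1 := by rw [add_self_zmod2, add_zero]
    · have hij : i = j := by
        by_contra hne; exact h' (by simp [f, block, N, hne])
      subst hij
      calc (1 : ZMod 2) + ipar i + (0 + ipar i) = 1 + (ipar i + ipar i) := by ring
        _ = 1 := by rw [add_self_zmod2, add_zero]
    · have := hpar (τ v) i j (by simpa [f, block, N] using h')
      calc (1 : ZMod 2) + ipar i + (1 + ipar j) = (1 + 1) + (ipar i + ipar j) := by ring
        _ = 1 := by rw [add_self_zmod2, zero_add, this]

theorem parity {m : ℕ} {φ : CliffordAlgebra (hyp A m) →ₐ[A] Matrix (Idx m) (Idx m) A}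
    (h : ∀ v i j, φ (ι _ v) i j ≠ 0 → ipar i + ipar j = 1) {k : ZMod 2} {x : CliffordAlgebra (hyp A m)}
    (hx : x ∈ evenOdd (hyp A m) k) : ∀ i j, φ x i j ≠ 0 → ipar i + ipar j = k := by
  have hmul : ∀ (a c : ZMod 2) (X Y : Matrix (Idx m) (Idx m) A), (∀ i j, X i j ≠ 0 → ipar i + ipar j = a) →
      (∀ i j, Y i j ≠ 0 → ipar i + ipar j = c) → ∀ i j, (X * Y) i j ≠ 0 → ipar i + ipar j = a + c := by
    intro a c X Y hX hY i j hne
    rw [Matrix.mul_apply] at hne
    obtain ⟨l, -, hl⟩ := Finset.exists_ne_zero_of_sum_ne_zero hne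
    have h1 := hX i l (left_ne_zero_of_mul hl)
    have h2 := hY l j (right_ne_zero_of_mul hl)
    calc ipar i + ipar j = (ipar i + ipar l) + (ipar l + ipar j) - (ipar l + ipar l) := by ring
      _ = a + c := by rw [h1, h2, add_self_zmod2, sub_zero]
  induction x, hx using CliffordAlgebra.evenOdd_induction (Q := hyp A m) (n := k) with
  | range_ι_pow v hv =>
    rcases zmod_two_cases k with rfl | rfl
    · rw [ZMod.val_zero, pow_zero, Submodule.mem_one] at hv
      obtain ⟨r, rfl⟩ := hv
      intro i j hne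
      rw [AlgHom.commutes, Matrix.algebraMap_matrix_apply] at hne
      by_cases hij : i = j
      · rw [hij]; exact add_self_zmod2 _
      · rw [if_neg hij] at hne; exact absurd rfl hne
    · rw [show (1 : ZMod 2).val = 1 from rfl, pow_one] at hv
      obtain ⟨w, rfl⟩ := hv
      exact h w
  | add x y hx hy ihx ihy =>
    intro i j hne
    rw [map_add, Matrix.add_apply] at hne
    by_cases h0 : φ x i j = 0
    · rw [h0, zero_add] at hne; exact ihy i j hne
    · exact ihx i j h0
  | ι_mul_ι_mul m₁ m₂ x hx ih =>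
    intro i j hne
    rw [map_mul, map_mul] at hne
    have := hmul _ _ _ _ (hmul _ _ _ _ (h m₁) (h m₂)) ih i j hne
    rwa [add_self_zmod2, zero_add] at this

/-- The even part of the hyperbolic Clifford algebra is a product of two matrix algebras. -/
theorem exists_even_equiv (A : Type u) [CommRing A] (m : ℕ) :
    Nonempty (↥(CliffordAlgebra.even (hyp A (m + 1))) ≃ₐ[A]
      (Matrix (Fin (2 ^ m)) (Fin (2 ^ m)) A × Matrix (Fin (2 ^ m)) (Fin (2 ^ m)) A)) := by
  classical
  obtain ⟨φ, hφ, hpar⟩ := exists_grep A (m + 1)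
  obtain ⟨φ0⟩ := exists_equiv A (m + 1)
  haveI : Module.Finite A (CliffordAlgebra (hyp A (m + 1))) := Module.Finite.equiv φ0.toLinearEquiv.symm
  let r : Idx (m + 1) ≃ Fin (2 ^ (m + 1)) := Fintype.equivFinOfCardEq (by simp)
  let g := (φ0.symm.toAlgHom.comp (Matrix.reindexAlgEquiv A A r).toAlgHom).comp φ
  have hg : Function.Injective g := OrzechProperty.injective_of_surjective_endomorphism g.toLinearMap
    ((φ0.symm.surjective.comp (Matrix.reindexAlgEquiv A A r).surjective).comp hφ)
  have hinj : Function.Injective φ := fun x y h => hg (by simp [g, h])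
  let σ : ZMod 2 × Idx m → Idx (m + 1) := fun p => Fin.cons (p.1 + ipar p.2) p.2
  have hσp : ∀ p, ipar (σ p) = p.1 := fun p => by
    have : ipar (σ p) = p.1 + (ipar p.2 + ipar p.2) := by
      rw [← add_assoc]; simp [ipar, σ, Fin.sum_univ_succ]
    rw [this, add_self_zmod2, add_zero]
  have hσ : Function.Bijective σ := by
    rw [Fintype.bijective_iff_injective_and_card]
    refine ⟨fun p p' h => ?_, by simp [pow_succ, mul_comm]⟩
    have h2 : p.2 = p'.2 := by simpa [σ] using congrArg Fin.tail h
    have h1 : p.1 = p'.1 := by rw [← hσp p, h, hσp p']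
    exact Prod.ext h1 h2
  let σe : ZMod 2 × Idx m ≃ Idx (m + 1) := Equiv.ofBijective σ hσ
  let Bl (a : ZMod 2) (X : Matrix (Idx (m + 1)) (Idx (m + 1)) A) : Matrix (Idx m) (Idx m) A :=
    X.submatrix (fun i => σ (a, i)) fun i => σ (a, i)
  have hz : ∀ (k : ZMod 2) (x : CliffordAlgebra (hyp A (m + 1))), x ∈ evenOdd _ k → ∀ p p',
      p.1 + p'.1 ≠ k → φ x (σ p) (σ p') = 0 := by
    intro k x hx p p' hne
    by_contra h0
    exact hne (by rw [← hσp p, ← hσp p']; exact parity hpar hx _ _ h0)
  have hBl : ∀ (a : ZMod 2) (x y : ↥(CliffordAlgebra.even (hyp A (m + 1)))),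
      Bl a (φ (x.1 * y.1)) = Bl a (φ x.1) * Bl a (φ y.1) := by
    intro a x y
    ext i j
    simp only [Bl, Matrix.submatrix_apply, map_mul, Matrix.mul_apply]
    rw [← σe.sum_comp, Fintype.sum_prod_type, Finset.sum_eq_single a]
    · rfl
    · intro c _ hc
      refine Finset.sum_eq_zero fun l _ => ?_
      change φ x.1 (σ (a, i)) (σ (c, l)) * _ = 0
      rw [hz 0 x.1 x.2 _ _ (fun h => hc (?_)), zero_mul]
      calc c = a + c - a := by ring
        _ = a := by rw [show a + c = 0 from h, zero_sub, neg_eq_iff_add_eq_zero, add_self_zmod2]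
    · simp
  let L : ↥(CliffordAlgebra.even (hyp A (m + 1))) →ₗ[A] Matrix (Idx m) (Idx m) A × Matrix (Idx m) (Idx m) A :=
    { toFun := fun x => (Bl 0 (φ x.1), Bl 1 (φ x.1))
      map_add' := fun x y => by ext i j <;> simp [Bl]
      map_smul' := fun c x => by ext i j <;> simp [Bl] }
  have h1 : ∀ a, Bl a 1 = 1 := fun a => by
    ext i j
    simp [Bl, Matrix.one_apply, hσ.1.eq_iff]
  let Ψ := AlgHom.ofLinearMap L (Prod.ext (by simp [L, h1]) (by simp [L, h1]))
    (fun x y => Prod.ext (hBl 0 x y) (hBl 1 x y))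
  have hΨi : Function.Injective Ψ := by
    rw [injective_iff_map_eq_zero]
    intro x hx
    refine Subtype.ext (hinj ?_)
    rw [ZeroMemClass.coe_zero, map_zero]
    ext i j
    obtain ⟨p, rfl⟩ := hσ.2 i
    obtain ⟨p', rfl⟩ := hσ.2 j
    by_cases hpp : p.1 + p'.1 = 0
    · have he : p'.1 = p.1 := by
        calc p'.1 = p.1 + p'.1 - p.1 := by ring
          _ = p.1 := by rw [hpp, zero_sub, neg_eq_iff_add_eq_zero, add_self_zmod2]
      rcases zmod_two_cases p.1 with ha | ha
      · have h0 := congrFun (congrFun (congrArg Prod.fst hx) p.2) p'.2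
        have e1 : p = (0, p.2) := Prod.ext ha rfl
        have e2 : p' = (0, p'.2) := Prod.ext (he.trans ha) rfl
        rw [e1, e2]
        exact h0
      · have h0 := congrFun (congrFun (congrArg Prod.snd hx) p.2) p'.2
        have e1 : p = (1, p.2) := Prod.ext ha rfl
        have e2 : p' = (1, p'.2) := Prod.ext (he.trans ha) rfl
        rw [e1, e2]
        exact h0
    · exact hz 0 x.1 x.2 p p' hpp
  have hΨs : Function.Surjective Ψ := by
    rintro ⟨P0, P1⟩
    let X : Matrix (Idx (m + 1)) (Idx (m + 1)) A := Matrix.of fun i j =>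
      if (σe.symm i).1 = (σe.symm j).1 then
        (if (σe.symm i).1 = 0 then P0 (σe.symm i).2 (σe.symm j).2 else P1 (σe.symm i).2 (σe.symm j).2) else 0
    have hXs : ∀ p p', X (σ p) (σ p') = if p.1 = p'.1 then (if p.1 = 0 then P0 p.2 p'.2 else P1 p.2 p'.2) else 0 := by
      intro p p'
      have e : ∀ p, σe.symm (σ p) = p := fun p => σe.symm_apply_apply p
      simp only [X, Matrix.of_apply, e]
    obtain ⟨x, hx⟩ := hφ X
    have hodd : par _ 1 x = 0 := by
      refine hinj ?_
      rw [map_zero]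
      ext i j
      obtain ⟨p, rfl⟩ := hσ.2 i
      obtain ⟨p', rfl⟩ := hσ.2 j
      rw [Matrix.zero_apply]
      by_cases hpp : p.1 + p'.1 = 1
      · have hne : p.1 ≠ p'.1 := fun h => by
          rw [h, add_self_zmod2] at hpp; exact zero_ne_one hpp
        have : φ (par _ 1 x) = φ x - φ (par _ 0 x) := by
          rw [← map_sub]; congr 1; exact eq_sub_of_add_eq' (par_add_par _ x)
        rw [this, Matrix.sub_apply, hx, hXs, if_neg hne, hz 0 _ (par_mem _ 0 x) p p' (by rw [hpp]; decide), sub_zero]
      · exact hz 1 _ (par_mem _ 1 x) p p' hpp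
    have hx0 : x ∈ CliffordAlgebra.even (hyp A (m + 1)) := by
      have := par_mem (hyp A (m + 1)) 0 x
      rwa [show par _ 0 x = x by rw [← add_zero (par _ 0 x), ← hodd, par_add_par]] at this
    refine ⟨⟨x, hx0⟩, Prod.ext ?_ ?_⟩ <;> ext i j
    · change φ x (σ (0, i)) (σ (0, j)) = _
      rw [hx, hXs]; simp
    · change φ x (σ (1, i)) (σ (1, j)) = _
      rw [hx, hXs]; simp
  let s : Idx m ≃ Fin (2 ^ m) := Fintype.equivFinOfCardEq (by simp)
  exact ⟨(AlgEquiv.ofBijective Ψ ⟨hΨi, hΨs⟩).trans
    (AlgEquiv.prodCongr (Matrix.reindexAlgEquiv A A s) (Matrix.reindexAlgEquiv A A s))⟩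

section Isometry

variable {V : Type u} [AddCommGroup V] [Module A V] {q : QuadraticForm A V} {m : ℕ}

/-- Isometries act on even parts. -/
theorem nonempty_even_congr {W : Type u} [AddCommGroup W] [Module A W] {p : QuadraticForm A W}
    (iso : p.IsometryEquiv q) :
    Nonempty (↥(CliffordAlgebra.even p) ≃ₐ[A] ↥(CliffordAlgebra.even q)) := by
  let E := CliffordAlgebra.equivOfIsometry iso
  have hle : (CliffordAlgebra.even p).map E.toAlgHom = CliffordAlgebra.even q := by
    refine le_antisymm ?_ ?_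
    · rintro _ ⟨x, hx, rfl⟩
      exact map_evenOdd iso.toIsometry hx
    · intro x hx
      exact ⟨E.symm x, map_evenOdd iso.symm.toIsometry hx, E.apply_symm_apply x⟩
  exact ⟨(E.subalgebraMap _).trans (Subalgebra.equivOfEq _ _ hle)⟩

/-- A spanning frame identifies the form with a hyperbolic one. -/
theorem Frame.exists_isometry (F : Frame q m) (hspan : ∀ x : V, F.proj x = 0) :
    Nonempty ((hyp A m).IsometryEquiv q) := by
  classical
  let L : HS A m →ₗ[A] V :=
    { toFun := fun p => ∑ i, (p i).1 • F.e i + ∑ i, (p i).2 • F.f i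
      map_add' := fun p p' => by simp [add_smul, Finset.sum_add_distrib]; abel
      map_smul' := fun c p => by simp [smul_add, Finset.smul_sum, smul_smul] }
  let back : V →ₗ[A] HS A m :=
    LinearMap.pi fun i => (QuadraticMap.polarBilin q (F.f i)).prod (QuadraticMap.polarBilin q (F.e i))
  have h1 : L.comp back = LinearMap.id := by
    refine LinearMap.ext fun x => ?_
    have := hspan x
    rw [Frame.proj_apply, sub_eq_zero] at this
    conv_rhs => rw [LinearMap.id_apply, this, Finset.sum_add_distrib]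
    rfl
  have h2 : back.comp L = LinearMap.id := by
    refine LinearMap.ext fun p => funext fun j => ?_
    simp only [L, back, LinearMap.comp_apply, LinearMap.pi_apply, LinearMap.prod_apply, Pi.prod, LinearMap.coe_mk,
      AddHom.coe_mk, map_sum, map_smul, map_add]
    simp [F.ef, F.fe, F.ee, F.ff, LinearMap.id_apply]
    refine Prod.ext ?_ ?_ <;> simp [Prod.fst_sum, Prod.snd_sum]
  refine ⟨{ (LinearEquiv.ofLinear L back h1 h2 : HS A m ≃ₗ[A] V) with map_app' := fun p => ?_ }⟩
  change q (∑ i, (p i).1 • F.e i + ∑ i, (p i).2 • F.f i) = _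
  rw [QuadraticMap.map_add q,
    sum_zero q _ _ (fun i => by rw [QuadraticMap.map_smul, F.qe, smul_zero]) (fun i j => by
      simp [QuadraticMap.polar_smul_left, QuadraticMap.polar_smul_right, F.ee]),
    sum_zero q _ _ (fun i => by rw [QuadraticMap.map_smul, F.qf, smul_zero]) (fun i j => by
      simp [QuadraticMap.polar_smul_left, QuadraticMap.polar_smul_right, F.ff]), hyp_apply]
  simp only [← QuadraticMap.polarBilin_apply_apply]
  simp only [map_sum, map_smul, LinearMap.sum_apply, LinearMap.smul_apply]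
  simp [QuadraticMap.polarBilin_apply_apply, F.ef, mul_comm]

end Isometry

section Regular

variable {R : Type u} [CommRing R] {M : Type u} [AddCommGroup M] [Module R M] [Module.Free R M]
  {Q : QuadraticForm R M} {m : ℕ}

/-- Matrix descriptions after a cover. -/
theorem exists_even_matrix (b : Module.Basis (Fin (2 * (m + 1))) R M) (hQ : IsRegular Q) :
    ∃ (A : Type u) (_ : CommRing A) (_ : Algebra R A), IsCover (R := R) A ∧
      Nonempty ((A ⊗[R] CliffordAlgebra Q) ≃ₐ[A] Matrix (Fin (2 ^ (m + 1))) (Fin (2 ^ (m + 1))) A) ∧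
      Nonempty ((A ⊗[R] ↥(CliffordAlgebra.even Q)) ≃ₐ[A]
        (Matrix (Fin (2 ^ m)) (Fin (2 ^ m)) A × Matrix (Fin (2 ^ m)) (Fin (2 ^ m)) A)) := by
  obtain ⟨A, _, _, hA, ⟨F⟩⟩ := exists_evenFrame b hQ
  obtain ⟨iso⟩ := F.exists_isometry (F.proj_eq_zero (Algebra.TensorProduct.basis A b))
  obtain ⟨φ⟩ := exists_equiv A (m + 1)
  obtain ⟨ψ⟩ := exists_even_equiv A m
  obtain ⟨c⟩ := nonempty_even_congr iso
  exact ⟨A, _, _, hA, ⟨((cb Q A).symm.trans (CliffordAlgebra.equivOfIsometry iso).symm).trans φ⟩,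
    ⟨((evenBCEquiv (Q := Q) A).trans c.symm).trans ψ⟩⟩

theorem center_eq_bot (b : Module.Basis (Fin (2 * m)) R M) (hQ : IsRegular Q) :
    Subalgebra.center R (CliffordAlgebra Q) = ⊥ := by
  refine eq_bot_iff.2 fun z hz => ?_
  rw [Subalgebra.mem_center_iff] at hz
  have hg := goodPolar_of_goodMat (goodMat_of_isUnit_det (isUnit_det_polMat_of_isRegular b hQ))
  have hc : ∀ i v, ι Q v * par Q i z = par Q i z * ι Q v := fun i v => by
    rw [← (par_mul_ι (Q := Q) i z v).1, ← (par_mul_ι (Q := Q) i z v).2, hz]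
  obtain ⟨e, he⟩ := even_central hg (par_mem Q 0 z) (hc 0)
  rw [Algebra.mem_bot]
  exact ⟨e, by rw [he, ← add_zero (par Q 0 z),
    ← odd_central_eq_zero b (even_two_mul m) hQ (par_mem Q 1 z) (hc 1), par_add_par]⟩

/-- The even part is its own centre's centraliser. -/
theorem centralizer_center_even (b : Module.Basis (Fin (2 * m)) R M) (hQ : IsRegular Q) :
    Subalgebra.centralizer R ((CliffordAlgebra.even Q).val ''
      (Subalgebra.center R ↥(CliffordAlgebra.even Q) : Set ↥(CliffordAlgebra.even Q))) =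
      CliffordAlgebra.even Q := by
  obtain ⟨D⟩ := exists_datum b hQ
  refine le_antisymm (fun z hz => ?_) fun z hz => ?_
  · rw [Subalgebra.mem_centralizer_iff] at hz
    suffices h : par Q 1 z = 0 by
      have := par_mem Q 0 z
      rwa [show par Q 0 z = z by rw [← add_zero (par Q 0 z), ← h, par_add_par]] at this
    have hl : ∀ i, D.ℓ i * par Q 1 z = 0 := by
      intro i
      have htr := D.tr i
      have hx := hz (D.x i) ⟨⟨D.x i, htr.1⟩, Subalgebra.mem_center_iff.2 fun y => Subtype.ext (htr.comm y.2), rfl⟩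
      have h0 : ∀ y, y ∈ evenOdd Q 1 → y * D.x i = (D.x i + D.ℓ i) * y := by
        intro y hy
        induction y, hy using CliffordAlgebra.evenOdd_induction (Q := Q) (n := (1 : ZMod 2)) with
        | range_ι_pow v hv =>
          rw [show (1 : ZMod 2).val = 1 from rfl, pow_one] at hv
          obtain ⟨w, rfl⟩ := hv
          exact htr.2.2 w
        | add a c _ _ ha hc => rw [add_mul, mul_add, ha, hc]
        | ι_mul_ι_mul a c y _ ih =>
          have hac := ι_mul_ι_mem_evenOdd_zero Q a c
          rw [mul_assoc, ih, ← mul_assoc, mul_add, htr.comm hac, htr.2.1.comm hac, ← add_mul, mul_assoc]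
      have hsum : D.x i * z = D.x i * par Q 0 z + D.x i * par Q 1 z := by rw [← mul_add, par_add_par]
      have hsum' : z * D.x i = par Q 0 z * D.x i + par Q 1 z * D.x i := by rw [← add_mul, par_add_par]
      have e : D.x i * par Q 1 z = par Q 1 z * D.x i := by
        rw [hsum, hsum', htr.comm (par_mem Q 0 z)] at hx
        exact add_left_cancel hx
      rw [h0 _ (par_mem Q 1 z), add_mul] at e
      exact (add_left_cancel (e.symm.trans (add_zero _).symm))
    calc par Q 1 z = (∑ i, D.ℓ i * D.l i) * par Q 1 z := by rw [D.one, one_mul]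
      _ = 0 := by
        rw [Finset.sum_mul]
        refine Finset.sum_eq_zero fun i _ => ?_
        rw [← (D.tr i).2.1.comm (D.acl i).1, mul_assoc, hl, mul_zero]
  · rw [Subalgebra.mem_centralizer_iff]
    rintro _ ⟨g, hg, rfl⟩
    exact (congrArg Subtype.val ((Subalgebra.mem_center_iff.1 hg) ⟨z, hz⟩)).symm

end Regular

end Groth.Agent.CliffSmooth
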