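import Groth.Agent.CliffSmooth.EvenSplit
import Groth.Agent.OrthSmooth.Main

/-!
# The special orthogonal group in even rank as a scheme of solutions
-/

set_option autoImplicit false

universe u

namespace Groth.Agent.CliffSmooth

open CliffordAlgebra QuadGrp TensorProduct MvPolynomial Groth.Agent.OrthSmooth Groth.Agent.QuadHalfDisc
open CategoryTheory AlgebraicGeometry

variable {R : Type u} [CommRing R] {n : ℕ} {Q : QuadraticForm R (Fin n → R)}

theorem mem_O_iff (A : Type u) [CommRing A] [Algebra R A]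
    (g : (A ⊗[R] (Fin n → R)) ≃ₗ[A] (A ⊗[R] (Fin n → R))) :
    g ∈ QuadGrp.O (baseChangeForm A Q) ↔ IsSol Q ∅ (LinearMap.toMatrix (bA A) (bA A) g.toLinearMap) := by
  rw [isSol_empty_iff]
  refine Iff.trans ?_ (mem_orth_iff Q A g)
  rw [QuadGrp.orth, QuadGrp.mem_O, QuadGrp.mem_O]
  exact forall_congr' fun v => (TensorProduct.AlgebraTensorModule.rid R A A).injective.eq_iff

theorem isSol_of_subset {s : Finset (MvPolynomial (Fin n × Fin n) R)} {A : Type u} [CommRing A] [Algebra R A]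
    {g : Matrix (Fin n) (Fin n) A} (h : IsSol Q s g) : IsSol Q ∅ g := ⟨h.1, by simp⟩

variable {A B : Type u} [CommRing A] [Algebra R A] [CommRing B] [Algebra R B]

theorem compat_of_matrix (φ : A →ₐ[R] B) (g : (A ⊗[R] (Fin n → R)) ≃ₗ[A] (A ⊗[R] (Fin n → R)))
    (g' : (B ⊗[R] (Fin n → R)) ≃ₗ[B] (B ⊗[R] (Fin n → R)))
    (h : LinearMap.toMatrix (bA B) (bA B) g'.toLinearMap = (LinearMap.toMatrix (bA A) (bA A) g.toLinearMap).map φ)
    (v : A ⊗[R] (Fin n → R)) : g' (mapV φ v) = mapV φ (g v) := by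
  refine (bA B).ext_elem fun i => ?_
  have h1 := congrFun (LinearMap.toMatrix_mulVec_repr (bA B) (bA B) g'.toLinearMap (mapV φ v)) i
  have h2 := congrFun (LinearMap.toMatrix_mulVec_repr (bA A) (bA A) g.toLinearMap v) i
  rw [repr_rTensor]
  refine h1.symm.trans (Eq.trans ?_ (congrArg φ h2))
  rw [h]
  simp [Matrix.mulVec, dotProduct, map_sum, repr_rTensor]

variable (hQ : IsRegular Q) (D : Datum Q)

include hQ in
theorem d_map (φ : A →ₐ[R] B) {g : (A ⊗[R] (Fin n → R)) ≃ₗ[A] (A ⊗[R] (Fin n → R))}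
    (hg : g ∈ QuadGrp.O (baseChangeForm A Q))
    {g' : (B ⊗[R] (Fin n → R)) ≃ₗ[B] (B ⊗[R] (Fin n → R))} (hg' : g' ∈ QuadGrp.O (baseChangeForm B Q))
    (hc : ∀ v, g' (mapV φ v) = mapV φ (g v)) : (D.bc Q B).d g' hg' = φ ((D.bc Q A).d g hg) := by
  have hF : ∀ y, cbMap Q φ (bcl Q A y) = bcl Q B y := fun y => by
    apply (cb Q B).injective
    rw [cb_cbMap, cb_bcl, cb_bcl, Algebra.TensorProduct.map_tmul, map_one, AlgHom.id_apply]
  refine Datum.d_natural (D.bc Q A) (goodPolar_baseChange (Pi.basisFun R (Fin n)) hQ A)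
    (goodPolar_baseChange (Pi.basisFun R (Fin n)) hQ B) (D.bc Q B) φ.toRingHom (mapV φ) (cbMap Q φ)
    (cbMap_ι Q φ) (cbMap_algebraMap Q φ) (fun i => ?_) hg hg' hc
  change Tr _ (cbMap Q φ (bcl Q A (D.x i))) (cbMap Q φ (bcl Q A (D.ℓ i)))
  rw [hF, hF]
  exact (D.tr i).bcl B

include hQ in
theorem isUnit_det_of_isSol (hn : Even n) {s : Finset (MvPolynomial (Fin n × Fin n) R)} {g : Matrix (Fin n) (Fin n) A}
    (hg : IsSol Q s g) : IsUnit g.det :=
  IsUnit.of_mul_eq_one g.det (by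
    rw [← sq]
    exact det_sq_eq_one ⟨fun _ => hQ, fun h => absurd hn (Nat.not_even_iff_odd.2 h)⟩ g hg.1)

/-- The universal isometry. -/
noncomputable def univG (hn : Even n) : (Coord Q ∅ ⊗[R] (Fin n → R)) ≃ₗ[Coord Q ∅] (Coord Q ∅ ⊗[R] (Fin n → R)) :=
  toAut (Coord Q ∅) (homEquiv Q ∅ _ (AlgHom.id R _)).1 (isUnit_det_of_isSol hQ hn (homEquiv Q ∅ _ (AlgHom.id R _)).2)

theorem univG_mem (hn : Even n) : univG hQ hn ∈ QuadGrp.O (baseChangeForm (Coord Q ∅) Q) := by
  rw [mem_O_iff, univG, toMatrix_toAut]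
  exact (homEquiv Q ∅ _ (AlgHom.id R _)).2

/-- A polynomial giving the Dickson invariant. -/
noncomputable def dPoly (hn : Even n) : MvPolynomial (Fin n × Fin n) R :=
  (Ideal.Quotient.mk_surjective ((D.bc Q (Coord Q ∅)).d (univG hQ hn) (univG_mem hQ hn))).choose

theorem d_eq_aeval (hn : Even n) {g : (A ⊗[R] (Fin n → R)) ≃ₗ[A] (A ⊗[R] (Fin n → R))}
    (hg : g ∈ QuadGrp.O (baseChangeForm A Q)) :
    (D.bc Q A).d g hg = aeval (fun ij : Fin n × Fin n => LinearMap.toMatrix (bA A) (bA A) g.toLinearMap ij.1 ij.2)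
      (dPoly hQ D hn) := by
  set M := LinearMap.toMatrix (bA A) (bA A) g.toLinearMap with hM
  set f := (homEquiv Q ∅ A).symm ⟨M, (mem_O_iff A g).1 hg⟩
  have hc : ∀ v, g (mapV f v) = mapV f (univG hQ hn v) := by
    refine compat_of_matrix f _ g ?_
    rw [univG, toMatrix_toAut, ← hM]
    ext i j
    simp [f, OrthSmooth.homEquiv]
  rw [d_map hQ D f (univG_mem hQ hn) hg hc,
    ← (Ideal.Quotient.mk_surjective ((D.bc Q (Coord Q ∅)).d (univG hQ hn) (univG_mem hQ hn))).choose_spec]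
  change (f.comp (Ideal.Quotient.mkₐ R _)) (dPoly hQ D hn) = _
  refine DFunLike.congr_fun (MvPolynomial.algHom_ext fun ij => ?_) _
  simp [f, OrthSmooth.homEquiv]

include hQ in
theorem exists_polar_one (hn0 : 0 < n) : ∃ e f : A ⊗[R] (Fin n → R), QuadraticMap.polar (baseChangeForm A Q) e f = 1 := by
  obtain ⟨v, hv⟩ := hQ.2 ((Pi.basisFun R (Fin n)).coord ⟨0, hn0⟩)
  refine ⟨1 ⊗ₜ v, 1 ⊗ₜ (Pi.basisFun R (Fin n) ⟨0, hn0⟩), ?_⟩
  rw [polar_baseChangeForm, ← QuadraticMap.polarBilin_apply_apply, hv]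
  simp

/-- The special orthogonal group is cut out by the invariant. -/
theorem mem_sorth_even_iff (hn : Even n) (hn0 : 0 < n)
    (g : (A ⊗[R] (Fin n → R)) ≃ₗ[A] (A ⊗[R] (Fin n → R))) :
    g ∈ QuadGrp.sorth Q A ↔ IsSol Q {dPoly hQ D hn} (LinearMap.toMatrix (bA A) (bA A) g.toLinearMap) := by
  classical
  rcases subsingleton_or_nontrivial A with hA | hA
  · haveI : Subsingleton (A ⊗[R] (Fin n → R)) := Module.subsingleton A _
    have : g = 1 := LinearEquiv.ext fun v => Subsingleton.elim _ _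
    exact iff_of_true (this ▸ one_mem _) ⟨funext fun s => Subsingleton.elim _ _, fun p _ => Subsingleton.elim _ _⟩
  have hr : Module.finrank A (A ⊗[R] (Fin n → R)) = n := by
    rw [Module.finrank_eq_card_basis (bA A), Fintype.card_fin]
  rw [QuadGrp.sorth, QuadGrp.SO, hr, if_pos hn]
  obtain ⟨e, f, hef⟩ := exists_polar_one (A := A) hQ hn0
  have key := fun hg => Datum.mem_SOeven_iff (D.bc Q A) (goodPolar_baseChange (Pi.basisFun R (Fin n)) hQ A) hef g hg
  constructor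
  · intro h
    obtain ⟨hg, _⟩ := id h
    refine ⟨((mem_O_iff A g).1 hg).1, fun p hp => ?_⟩
    rw [Finset.mem_singleton.1 hp, ← d_eq_aeval hQ D hn hg]
    exact (key hg).1 h
  · intro h
    have hg : g ∈ QuadGrp.O (baseChangeForm A Q) := (mem_O_iff A g).2 (isSol_of_subset h)
    exact (key hg).2 (by rw [d_eq_aeval hQ D hn hg]; exact h.2 _ (Finset.mem_singleton_self _))

/-- The polynomial is idempotent on isometries. -/
theorem aeval_dPoly_idem (hn : Even n) {g : Matrix (Fin n) (Fin n) A} (hg : IsSol Q ∅ g) :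
    IsIdempotentElem (aeval (fun ij : Fin n × Fin n => g ij.1 ij.2) (dPoly hQ D hn)) := by
  set e := toAut (R := R) A g (isUnit_det_of_isSol hQ hn hg)
  have hm : LinearMap.toMatrix (bA A) (bA A) e.toLinearMap = g := toMatrix_toAut (R := R) A g _
  have he : e ∈ QuadGrp.O (baseChangeForm A Q) := (mem_O_iff A e).2 (hm.symm ▸ hg)
  have h := Datum.idempotent (D.bc Q A) (goodPolar_baseChange (Pi.basisFun R (Fin n)) hQ A) e he
  rw [d_eq_aeval hQ D hn he, hm] at h
  exact h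

/-- The scheme of solutions. -/
noncomputable def affRepSOrthEven (hn : Even n) (hn0 : 0 < n) {G : Over (Spec (CommRingCat.of R))} [GrpObj G]
    (G' : QuadGrp.SOrthRep Q G) : AffRep G (Coord Q {dPoly hQ D hn}) :=
  affRepOf Q G' _ (fun _A _ _ g => mem_sorth_even_iff hQ D hn hn0 g) fun _A _ _ _g hg => isUnit_det_of_isSol hQ hn hg

theorem formallySmooth_sorth_even (hn : Even n) : Algebra.FormallySmooth R (Coord Q {dPoly hQ D hn}) := by
  refine formallySmooth_coord Q _ fun B _ _ I hI g hg => ?_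
  obtain ⟨g', h1, h2⟩ := exists_lift_regular hI _ g
    (isUnit_det_polar_map (isUnit_det_polar_of_isRegular Q hQ) B) (isSol_map_mk Q I _ g hg)
  refine ⟨g', h1, h2, fun p hp => ?_⟩
  rw [Finset.mem_singleton.1 hp]
  have hid := aeval_dPoly_idem hQ D hn ((isSol_empty_iff g').2 h2)
  have hmem : aeval (fun ij : Fin n × Fin n => g' ij.1 ij.2) (dPoly hQ D hn) ∈ I := by
    rw [← Ideal.Quotient.eq_zero_iff_mem]
    refine Eq.trans ?_ (hg.2 _ (Finset.mem_singleton_self _))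
    change ((Ideal.Quotient.mkₐ R I).comp (aeval fun ij : Fin n × Fin n => g' ij.1 ij.2)) (dPoly hQ D hn) = _
    refine DFunLike.congr_fun (MvPolynomial.algHom_ext fun ij => ?_) _
    simp only [AlgHom.comp_apply, aeval_X, Ideal.Quotient.mkₐ_eq_mk, Matrix.map_apply]
    exact Ideal.Quotient.eq.2 (h1 ij.1 ij.2)
  rw [← hid.eq]
  have h0 : _ ∈ I ^ 2 := pow_two I ▸ Ideal.mul_mem_mul hmem hmem
  rw [hI, Ideal.mem_bot] at h0
  exact h0

end Groth.Agent.CliffSmooth
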