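import Groth.Agent.CliffSmooth.Good
import Groth.Agent.QuadHalfDisc
import Mathlib.LinearAlgebra.FiniteDimensional.Basic

/-!
# Hyperbolic frames and finding pairs over a field
-/

set_option autoImplicit false

universe u v

namespace Groth.Agent.CliffSmooth

open QuadGrp

section Frame

variable {A : Type u} [CommRing A] {V : Type v} [AddCommGroup V] [Module A V] (q : QuadraticForm A V)

/-- `k` orthogonal hyperbolic pairs. -/
structure Frame (k : ℕ) where
  e : Fin k → V
  f : Fin k → V
  qe : ∀ i, q (e i) = 0
  qf : ∀ i, q (f i) = 0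
  ef : ∀ i j, QuadraticMap.polar q (e i) (f j) = if i = j then 1 else 0
  ee : ∀ i j, QuadraticMap.polar q (e i) (e j) = 0
  ff : ∀ i j, QuadraticMap.polar q (f i) (f j) = 0

variable {q} {k : ℕ}

/-- Projection to the orthogonal of a frame. -/
noncomputable def Frame.proj (F : Frame q k) : V →ₗ[A] V :=
  LinearMap.id - ∑ i, ((QuadraticMap.polarBilin q (F.f i)).smulRight (F.e i) +
    (QuadraticMap.polarBilin q (F.e i)).smulRight (F.f i))

theorem Frame.proj_apply (F : Frame q k) (x : V) : F.proj x =
    x - ∑ i, (QuadraticMap.polar q (F.f i) x • F.e i + QuadraticMap.polar q (F.e i) x • F.f i) := by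
  simp [Frame.proj]

theorem Frame.fe (F : Frame q k) (i j : Fin k) : QuadraticMap.polar q (F.f i) (F.e j) = if j = i then 1 else 0 := by
  rw [QuadraticMap.polar_comm, F.ef]

theorem Frame.polar_e_proj (F : Frame q k) (j : Fin k) (x : V) :
    QuadraticMap.polarBilin q (F.e j) (F.proj x) = 0 ∧ QuadraticMap.polarBilin q (F.f j) (F.proj x) = 0 := by
  refine ⟨?_, ?_⟩
  · rw [Frame.proj_apply, map_sub, map_sum]
    simp only [map_add, map_smul, QuadraticMap.polarBilin_apply_apply, F.ee, F.ef]
    simp [Finset.sum_add_distrib]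
  · rw [Frame.proj_apply, map_sub, map_sum]
    simp only [map_add, map_smul, QuadraticMap.polarBilin_apply_apply, F.ff, F.fe]
    simp [Finset.sum_add_distrib]

theorem Frame.proj_eq_self (F : Frame q k) {z : V} (he : ∀ i, QuadraticMap.polar q (F.e i) z = 0)
    (hf : ∀ i, QuadraticMap.polar q (F.f i) z = 0) : F.proj z = z := by
  simp [Frame.proj_apply, he, hf]

theorem Frame.polar_proj (F : Frame q k) {z : V} (he : ∀ i, QuadraticMap.polar q (F.e i) z = 0)
    (hf : ∀ i, QuadraticMap.polar q (F.f i) z = 0) (x : V) :
    QuadraticMap.polarBilin q z (F.proj x) = QuadraticMap.polarBilin q z x := by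
  rw [Frame.proj_apply, map_sub, map_sum]
  simp only [map_add, map_smul, QuadraticMap.polarBilin_apply_apply, QuadraticMap.polar_comm q z (F.e _),
    QuadraticMap.polar_comm q z (F.f _)]
  simp [he, hf]

end Frame

section Field

variable {K : Type u} [Field K] {V : Type v} [AddCommGroup V] [Module K V] {n : ℕ}
  (b : Module.Basis (Fin n) K V) {q : QuadraticForm K V} {k : ℕ}

include b in
theorem exists_ne_zero_of_card_lt {ι' : Type*} [Fintype ι'] (φ : ι' → Module.Dual K V) (h : Fintype.card ι' < n) :
    ∃ z, z ≠ 0 ∧ ∀ i, φ i z = 0 := by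
  haveI : Module.Finite K V := Module.Finite.of_basis b
  have hlt : Module.finrank K (ι' → K) < Module.finrank K V := by
    rwa [Module.finrank_pi, Module.finrank_eq_card_basis b, Fintype.card_fin]
  obtain ⟨z, hz, h0⟩ := Submodule.exists_mem_ne_zero_of_ne_bot (LinearMap.ker_ne_bot_of_finrank_lt (f := LinearMap.pi φ) hlt)
  exact ⟨z, h0, fun i => congrFun (LinearMap.mem_ker.1 hz) i⟩

/-- The functionals cutting out the orthogonal of a frame. -/
noncomputable def Frame.funs (F : Frame q k) : Fin k ⊕ Fin k → Module.Dual K V :=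
  Sum.elim (fun i => QuadraticMap.polarBilin q (F.e i)) (fun i => QuadraticMap.polarBilin q (F.f i))

include b in
/-- The form does not vanish on the orthogonal of a frame. -/
theorem exists_value_ne_zero (hR1 : ∀ x : V, (∀ y, QuadraticMap.polar q x y = 0) → q x = 0 → x = 0)
    (F : Frame q k) (hk : 2 * k < n) : ∃ x, q (F.proj x) ≠ 0 := by
  by_contra hne
  push Not at hne
  obtain ⟨z, hz, h⟩ := exists_ne_zero_of_card_lt b F.funs (by simpa [two_mul] using hk)
  have he : ∀ i, QuadraticMap.polar q (F.e i) z = 0 := fun i => h (Sum.inl i)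
  have hf : ∀ i, QuadraticMap.polar q (F.f i) z = 0 := fun i => h (Sum.inr i)
  refine hz (hR1 z (fun y => ?_) (by rw [← F.proj_eq_self he hf]; exact hne z))
  rw [← QuadraticMap.polarBilin_apply_apply, ← F.polar_proj he hf, ← F.proj_eq_self he hf,
    QuadraticMap.polarBilin_apply_apply, QuadraticMap.polar, ← map_add, hne, hne, hne, sub_zero, sub_zero]

include b in
/-- A vector and a partner spanning a regular plane in the orthogonal of a frame. -/
theorem exists_pair (hR1 : ∀ x : V, (∀ y, QuadraticMap.polar q x y = 0) → q x = 0 → x = 0)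
    (hR2 : ∃ ψ : Module.Dual K V, ∀ x : V, (∀ y, QuadraticMap.polar q x y = 0) → ψ x = 0 → x = 0)
    (F : Frame q k) (hk : 2 * k + 1 < n) :
    ∃ x y, q (F.proj x) * (QuadraticMap.polar q (F.proj x) (F.proj y) ^ 2 - 4 * q (F.proj x) * q (F.proj y)) ≠ 0 := by
  by_cases h2 : (2 : K) = 0
  · have h4 : (4 : K) = 0 := by linear_combination 2 * h2
    obtain ⟨ψ, hψ⟩ := hR2
    obtain ⟨x, y, hxy⟩ : ∃ x y, QuadraticMap.polar q (F.proj x) (F.proj y) ≠ 0 := by
      by_contra hne
      push Not at hne
      obtain ⟨z, hz, h⟩ := exists_ne_zero_of_card_lt b (Sum.elim F.funs (fun _ : Unit => ψ))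
        (by simpa [two_mul, add_assoc] using hk)
      have he : ∀ i, QuadraticMap.polar q (F.e i) z = 0 := fun i => h (Sum.inl (Sum.inl i))
      have hf : ∀ i, QuadraticMap.polar q (F.f i) z = 0 := fun i => h (Sum.inl (Sum.inr i))
      refine hz (hψ z (fun y => ?_) (h (Sum.inr ())))
      rw [← QuadraticMap.polarBilin_apply_apply, ← F.polar_proj he hf, ← F.proj_eq_self he hf,
        QuadraticMap.polarBilin_apply_apply, hne]
    by_cases hx : q (F.proj x) = 0
    swap
    · exact ⟨x, y, mul_ne_zero hx (by simpa [h4] using hxy)⟩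
    by_cases hy : q (F.proj y) = 0
    swap
    · exact ⟨y, x, mul_ne_zero hy (by simpa [h4, QuadraticMap.polar_comm] using hxy)⟩
    refine ⟨x + y, y, mul_ne_zero ?_ ?_⟩
    · rwa [map_add, QuadraticMap.map_add q, hx, hy, zero_add, zero_add]
    · simp only [h4, zero_mul, sub_zero]
      rw [map_add, QuadraticMap.polar_add_left, QuadraticMap.polar_self, hy, smul_zero, add_zero]
      exact pow_ne_zero 2 hxy
  · have hR0 : ∀ x : V, (∀ y, QuadraticMap.polar q x y = 0) → x = 0 := fun x hx => hR1 x hx (by
      have := hx x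
      rw [QuadraticMap.polar_self, two_nsmul, ← two_mul] at this
      exact (mul_eq_zero.1 this).resolve_left h2)
    obtain ⟨x, hx⟩ := exists_value_ne_zero b hR1 F (by omega)
    obtain ⟨y, hy, hxy⟩ : ∃ y, q (F.proj y) ≠ 0 ∧ QuadraticMap.polar q (F.proj x) (F.proj y) = 0 := by
      by_contra hne
      push Not at hne
      obtain ⟨z, hz, h⟩ := exists_ne_zero_of_card_lt b
        (Sum.elim F.funs (fun _ : Unit => QuadraticMap.polarBilin q (F.proj x))) (by simpa [two_mul, add_assoc] using hk)
      have he : ∀ i, QuadraticMap.polar q (F.e i) z = 0 := fun i => h (Sum.inl (Sum.inl i))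
      have hf : ∀ i, QuadraticMap.polar q (F.f i) z = 0 := fun i => h (Sum.inl (Sum.inr i))
      have hzx : QuadraticMap.polar q (F.proj x) z = 0 := h (Sum.inr ())
      have hzero : ∀ w, QuadraticMap.polar q (F.proj x) (F.proj w) = 0 → q (F.proj w) = 0 := fun w hw => by
        by_contra hq
        exact hne w hq hw
      refine hz (hR0 z fun w => ?_)
      rw [← QuadraticMap.polarBilin_apply_apply, ← F.polar_proj he hf]
      -- remove the component along `x`
      set a := QuadraticMap.polar q (F.proj x) (F.proj x)
      have ha : a ≠ 0 := by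
        simp only [a, QuadraticMap.polar_self, two_nsmul, ← two_mul]
        exact mul_ne_zero h2 hx
      set w' := w - (QuadraticMap.polar q (F.proj x) (F.proj w) / a) • x
      have hw' : QuadraticMap.polar q (F.proj x) (F.proj w') = 0 := by
        simp only [w', map_sub, map_smul, QuadraticMap.polar_sub_right, QuadraticMap.polar_smul_right, smul_eq_mul]
        rw [div_mul_cancel₀ _ ha, sub_self]
      have hzw : QuadraticMap.polar q z (F.proj w') = 0 := by
        have hzz : q (F.proj z) = 0 := hzero z (by rw [F.proj_eq_self he hf]; exact hzx)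
        have hsum : q (F.proj (z + w')) = 0 := hzero _ (by
          rw [map_add, QuadraticMap.polar_add_right, F.proj_eq_self he hf, hzx, hw', add_zero])
        rw [map_add, F.proj_eq_self he hf, QuadraticMap.map_add q, hzero w' hw', add_zero] at hsum
        rw [F.proj_eq_self he hf] at hzz
        rwa [hzz, zero_add] at hsum
      simpa [w', map_sub, QuadraticMap.polarBilin_apply_apply, QuadraticMap.polar_comm _ z (F.proj x), hzx,
        QuadraticMap.polar_sub_right, QuadraticMap.polar_smul_right] using hzw
    refine ⟨x, y, mul_ne_zero hx ?_⟩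
    rw [hxy, zero_pow (by norm_num), zero_sub, neg_ne_zero]
    exact mul_ne_zero (mul_ne_zero (by rw [show (4 : K) = 2 * 2 by norm_num]; exact mul_ne_zero h2 h2) hx) hy

/-- A semiregular form of odd rank has anisotropic radical and at most a line of radical. -/
theorem semiregular_radical (hn : Odd n) (hq : IsSemiregular b (LinearEquiv.refl K K) q) :
    (∀ x : V, (∀ y, QuadraticMap.polar q x y = 0) → q x = 0 → x = 0) ∧
      ∃ ψ : Module.Dual K V, ∀ x : V, (∀ y, QuadraticMap.polar q x y = 0) → ψ x = 0 → x = 0 := by
  classical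
  constructor
  · intro x hx hqx
    by_contra hne
    obtain ⟨i, hi⟩ : ∃ i, b.repr x i ≠ 0 := by
      by_contra h
      push Not at h
      exact hne (b.repr.injective (Finsupp.ext fun i => by simp [h i]))
    let g : V →ₗ[K] V := b.constr K (Function.update (fun l => b l) i x)
    have hdet : LinearMap.det g = b.repr x i := by
      rw [← LinearMap.det_toMatrix b,
        show LinearMap.toMatrix b b g = OrthSmooth.replMat i (fun l => b.repr x l) from ?_, OrthSmooth.det_replMat]
      ext a l
      rw [LinearMap.toMatrix_apply]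
      by_cases hl : l = i
      · subst hl; simp [g, OrthSmooth.replMat_col]
      · simp [g, OrthSmooth.replMat_col_ne i _ a l hl, hl, Finsupp.single_apply, Matrix.one_apply, eq_comm]
    set c := coeffs b (LinearEquiv.refl K K) (q.comp g)
    have h0 : ∀ l, c (Sym2.mk i l) = 0 := by
      intro l
      simp only [c, coeffs_mk, LinearEquiv.refl_apply, QuadraticMap.comp_apply]
      by_cases h : i = l
      · subst h; simp [g, hqx]
      · rw [if_neg h]
        simp only [QuadraticMap.polar, QuadraticMap.comp_apply, map_add]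
        simp only [g, Module.Basis.constr_basis, Function.update_self, Function.update_of_ne (Ne.symm h)]
        exact hx (b l)
    have hh : OrthSmooth.hd (QuadHalfDisc.co (QuadHalfDisc.up c)) = 0 := by
      rw [OrthSmooth.hd_block hn i, show QuadHalfDisc.up c i i = 0 by simp [QuadHalfDisc.up, h0 i], zero_mul]
      · intro l hl
        simp only [QuadHalfDisc.up, Matrix.of_apply]
        split_ifs
        · exact h0 l
        · rfl
      · intro l hl
        simp only [QuadHalfDisc.up, Matrix.of_apply]
        split_ifs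
        · rw [Sym2.eq_swap]; exact h0 l
        · rfl
    rw [QuadHalfDisc.co_up] at hh
    have := QuadHalfDisc.halfDisc_comp hn b q g
    rw [show halfDisc b (LinearEquiv.refl K K) (q.comp g) = 0 from hh, hdet] at this
    exact mul_ne_zero (pow_ne_zero 2 hi) (hq : IsUnit _).ne_zero this.symm
  · obtain ⟨P, hP⟩ : ∃ P : PolarDatum q b, P.D ≠ 0 := by
      by_contra hne
      push Not at hne
      have := goodPolar_of_goodMat (goodMat_of_isSemiregular hn b hq)
      refine one_ne_zero (α := K) ((Ideal.mem_bot (R := K)).1 ?_)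
      rw [← Ideal.eq_top_iff_one, eq_top_iff, ← this, Ideal.span_le]
      rintro D ⟨P, rfl⟩
      exact hne P
    refine ⟨P.ψ, fun x hx hψ => b.repr.injective (Finsupp.ext fun j => ?_)⟩
    have := LinearMap.congr_fun (P.eq j) x
    rw [QuadraticMap.polarBilin_apply_apply, QuadraticMap.polar_comm, hx, LinearMap.add_apply, LinearMap.smul_apply,
      LinearMap.smul_apply, hψ, smul_zero, add_zero, Module.Basis.coord_apply, smul_eq_mul] at this
    rw [map_zero, Finsupp.zero_apply]
    exact (mul_eq_zero.1 this.symm).resolve_left hP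

end Field

end Groth.Agent.CliffSmooth
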