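import Groth.Agent.CliffSmooth.BaseChange
import Groth.Agent.CliffSmooth.FieldPairs
import Mathlib.RingTheory.Flat.FaithfullyFlat.Algebra
import Mathlib.RingTheory.Flat.Localization
import Mathlib.RingTheory.AdjoinRoot
import Mathlib.RingTheory.FinitePresentation
import Mathlib.RingTheory.Localization.Away.Basic
import Mathlib.RingTheory.LocalProperties.Basic
import Mathlib.Algebra.MvPolynomial.Basic

/-!
# Semiregular forms of odd rank split fppf locally
-/

set_option autoImplicit false

universe u

namespace Groth.Agent.CliffSmooth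

open CliffordAlgebra TensorProduct QuadGrp

variable {R : Type u} [CommRing R] {M : Type u} [AddCommGroup M] [Module R M] [Module.Free R M]
  (Q : QuadraticForm R M)

section Transport

variable {A B : Type u} [CommRing A] [Algebra R A] [CommRing B] [Algebra R B] (φ : A →ₐ[R] B)

/-- The base changed vectors. -/
noncomputable abbrev mapV : A ⊗[R] M →ₗ[R] B ⊗[R] M := LinearMap.rTensor M φ.toLinearMap

theorem mapV_smul (a : A) (x : A ⊗[R] M) : mapV φ (a • x) = φ a • mapV φ x := by
  induction x using TensorProduct.induction_on with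
  | zero => simp
  | add y z hy hz => simp only [smul_add, map_add, hy, hz]
  | tmul c w => simp [TensorProduct.smul_tmul']

theorem form_mapV (x : A ⊗[R] M) : baseChangeForm B Q (mapV φ x) = φ (baseChangeForm A Q x) := by
  apply algebraMap_injective (baseChangeForm B Q)
  rw [← ι_sq_scalar, ← cbMap_ι, ← map_mul, ι_sq_scalar, cbMap_algebraMap]

theorem polar_mapV (x y : A ⊗[R] M) : QuadraticMap.polar (baseChangeForm B Q) (mapV φ x) (mapV φ y) =
    φ (QuadraticMap.polar (baseChangeForm A Q) x y) := by
  simp only [QuadraticMap.polar, ← map_add (mapV φ), form_mapV, map_sub]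

variable {Q}

/-- The base change of a frame. -/
noncomputable def Frame.map {k : ℕ} (F : Frame (baseChangeForm A Q) k) : Frame (baseChangeForm B Q) k where
  e i := mapV φ (F.e i)
  f i := mapV φ (F.f i)
  qe i := by rw [form_mapV, F.qe, map_zero]
  qf i := by rw [form_mapV, F.qf, map_zero]
  ef i j := by rw [polar_mapV, F.ef]; split <;> simp
  ee i j := by rw [polar_mapV, F.ee, map_zero]
  ff i j := by rw [polar_mapV, F.ff, map_zero]

theorem Frame.map_proj {k : ℕ} (F : Frame (baseChangeForm A Q) k) (x : A ⊗[R] M) :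
    (F.map φ).proj (mapV φ x) = mapV φ (F.proj x) := by
  simp [Frame.proj_apply, Frame.map, polar_mapV, mapV_smul, map_sub, map_sum]

end Transport

theorem isSemiregular_baseChange {n : ℕ} (b : Module.Basis (Fin n) R M)
    (hQ : IsSemiregular b (LinearEquiv.refl R R) Q) (A : Type u) [CommRing A] [Algebra R A] :
    IsSemiregular (Algebra.TensorProduct.basis A b) (LinearEquiv.refl A A) (baseChangeForm A Q) := by
  have hc : coeffs (Algebra.TensorProduct.basis A b) (LinearEquiv.refl A A) (baseChangeForm A Q) =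
      algebraMap R A ∘ coeffs b (LinearEquiv.refl R R) Q := by
    funext s
    induction s using Sym2.ind with
    | _ i j =>
      simp only [Function.comp_apply, coeffs_mk, LinearEquiv.refl_apply, Algebra.TensorProduct.basis_apply]
      by_cases h : i = j
      · simp [h, baseChangeForm_one_tmul]
      · simp [h, polar_baseChangeForm]
  have : halfDisc (Algebra.TensorProduct.basis A b) (LinearEquiv.refl A A) (baseChangeForm A Q) =
      algebraMap R A (halfDisc b (LinearEquiv.refl R R) Q) := by
    rw [halfDisc, halfDisc, hc]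
    exact (OrthSmooth.map_hd (algebraMap R A) _).symm
  rw [IsSemiregular, this]
  exact (hQ : IsUnit _).map _

/-- A ring is a cover: faithfully flat and finitely presented. -/
def IsCover (A : Type u) [CommRing A] [Algebra R A] : Prop :=
  Module.FaithfullyFlat R A ∧ Algebra.FinitePresentation R A

theorem exists_cover_unit {A : Type u} [CommRing A] [Algebra R A] (hA : IsCover (R := R) A) (σ : Type) [Finite σ]
    (r : MvPolynomial σ A)
    (h : ∀ p : Ideal A, p.IsPrime → ∀ (K : Type u) [Field K] (ψ : A →+* K), RingHom.ker ψ = p →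
      ∃ x : σ → K, MvPolynomial.eval₂ ψ x r ≠ 0) :
    ∃ (A' : Type u) (_ : CommRing A') (_ : Algebra R A') (φ : A →ₐ[R] A') (x : σ → A'),
      IsCover (R := R) A' ∧ IsUnit (MvPolynomial.eval₂ φ.toRingHom x r) := by
  let P := MvPolynomial σ A
  let A' := Localization.Away r
  obtain ⟨hff, hfp⟩ := hA
  haveI : Module.Flat P A' := IsLocalization.flat A' (Submonoid.powers r)
  haveI : Module.Flat A A' := Module.Flat.trans A P A'
  have hffA : Module.FaithfullyFlat A A' := by
    refine Module.FaithfullyFlat.of_comap_surjective fun p => ?_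
    let K := p.asIdeal.ResidueField
    obtain ⟨x, hx⟩ := h p.asIdeal p.isPrime K (algebraMap A K) (Ideal.ker_algebraMap_residueField _)
    let g : A' →+* K := IsLocalization.Away.lift (S := A') r (g := MvPolynomial.eval₂Hom (algebraMap A K) x)
      (isUnit_iff_ne_zero.2 hx)
    refine ⟨PrimeSpectrum.comap g ⊥, PrimeSpectrum.ext ?_⟩
    change (RingHom.ker g).comap (algebraMap A A') = p.asIdeal
    rw [RingHom.comap_ker]
    refine Eq.trans (congrArg RingHom.ker ?_) (Ideal.ker_algebraMap_residueField p.asIdeal)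
    refine RingHom.ext fun a => ?_
    rw [RingHom.comp_apply, IsScalarTower.algebraMap_apply A P A', IsLocalization.Away.lift_eq]
    exact MvPolynomial.eval₂Hom_C _ _ a
  haveI : Algebra.FinitePresentation P A' := IsLocalization.Away.finitePresentation r
  haveI : Algebra.FinitePresentation A A' := Algebra.FinitePresentation.trans A P A'
  refine ⟨A', inferInstance, inferInstance, IsScalarTower.toAlgHom R A A',
    fun s => algebraMap P A' (MvPolynomial.X s), ⟨Module.FaithfullyFlat.trans R A A',
      Algebra.FinitePresentation.trans R A A'⟩, ?_⟩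
  rw [show MvPolynomial.eval₂ (IsScalarTower.toAlgHom R A A').toRingHom
      (fun s => algebraMap P A' (MvPolynomial.X s)) r = algebraMap P A' r from ?_]
  · exact IsLocalization.Away.algebraMap_isUnit r
  · refine RingHom.congr_fun (f := MvPolynomial.eval₂Hom _ _) (g := algebraMap P A') (MvPolynomial.ringHom_ext ?_ ?_) r
    · intro a
      rw [MvPolynomial.eval₂Hom_C]
      exact IsScalarTower.algebraMap_apply A P A' a
    · intro s; rw [MvPolynomial.eval₂Hom_X']

theorem exists_cover_root {A : Type u} [CommRing A] [Algebra R A] (hA : IsCover (R := R) A) (β γ : A) :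
    ∃ (A' : Type u) (_ : CommRing A') (_ : Algebra R A') (φ : A →ₐ[R] A') (t : A'),
      IsCover (R := R) A' ∧ t ^ 2 + φ β * t + φ γ = 0 := by
  obtain ⟨hff, hfp⟩ := hA
  let g : Polynomial A := Polynomial.X ^ 2 + (Polynomial.C β * Polynomial.X + Polynomial.C γ)
  have hg : g.Monic := Polynomial.monic_X_pow_add (by
    refine (Polynomial.degree_linear_le).trans_lt ?_
    norm_num)
  haveI := hg.free_adjoinRoot
  haveI := hg.finite_adjoinRoot
  haveI : Module.FaithfullyFlat A (AdjoinRoot g) := by
    rcases subsingleton_or_nontrivial A with hs | hs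
    · haveI : Subsingleton (AdjoinRoot g) := Module.subsingleton A _
      exact Module.FaithfullyFlat.of_comap_surjective fun p => absurd (Subsingleton.elim p.asIdeal ⊤) p.isPrime.ne_top
    · haveI : Nontrivial (AdjoinRoot g) := by
        have hnd : 0 < g.natDegree := by
          have : g.coeff 2 = 1 := by simp [g, Polynomial.coeff_X_of_ne_one]
          have := Polynomial.le_natDegree_of_ne_zero (p := g) (n := 2) (by rw [this]; exact one_ne_zero)
          omega
        let pb := AdjoinRoot.powerBasis' hg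
        exact nontrivial_of_ne _ 0 (pb.basis.ne_zero ⟨0, by rw [show pb.dim = g.natDegree from rfl]; exact hnd⟩)
      infer_instance
  haveI : Algebra.FinitePresentation A (AdjoinRoot g) :=
    Algebra.FinitePresentation.quotient ⟨{g}, by simp⟩
  refine ⟨AdjoinRoot g, inferInstance, inferInstance, IsScalarTower.toAlgHom R A (AdjoinRoot g), AdjoinRoot.root g,
    ⟨Module.FaithfullyFlat.trans R A _, Algebra.FinitePresentation.trans R A _⟩, ?_⟩
  have := AdjoinRoot.eval₂_root g
  simp only [g, Polynomial.eval₂_add, Polynomial.eval₂_mul, Polynomial.eval₂_C, Polynomial.eval₂_X,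
    Polynomial.eval₂_X_pow] at this
  rw [add_assoc]
  exact this

variable {Q}

/-- Generic vector of the polynomial ring. -/
theorem exists_next {n k : ℕ} (hk : 2 * k + 1 < n) (b : Module.Basis (Fin n) R M)
    (hrad : ∀ (K : Type u) [Field K] [Algebra R K],
      (∀ x : K ⊗[R] M, (∀ y, QuadraticMap.polar (baseChangeForm K Q) x y = 0) → baseChangeForm K Q x = 0 → x = 0) ∧
        ∃ ψ : Module.Dual K (K ⊗[R] M), ∀ x : K ⊗[R] M,
          (∀ y, QuadraticMap.polar (baseChangeForm K Q) x y = 0) → ψ x = 0 → x = 0) {A : Type u} [CommRing A] [Algebra R A] (hA : IsCover (R := R) A)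
    (F : Frame (baseChangeForm A Q) k) :
    ∃ (A' : Type u) (_ : CommRing A') (_ : Algebra R A'), IsCover (R := R) A' ∧
      Nonempty (Frame (baseChangeForm A' Q) (k + 1)) := by
  classical
  let P := MvPolynomial (Fin n ⊕ Fin n) A
  let φP : A →ₐ[R] P := IsScalarTower.toAlgHom R A P
  let X : P ⊗[R] M := (F.map φP).proj (∑ i, (MvPolynomial.X (Sum.inl i) : P) • ((1 : P) ⊗ₜ[R] b i))
  let Y : P ⊗[R] M := (F.map φP).proj (∑ i, (MvPolynomial.X (Sum.inr i) : P) • ((1 : P) ⊗ₜ[R] b i))
  let r : P := baseChangeForm P Q X * (QuadraticMap.polar (baseChangeForm P Q) X Y ^ 2 -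
    4 * baseChangeForm P Q X * baseChangeForm P Q Y)
  obtain ⟨A₁, _, _, φ, x, hA₁, hu⟩ := exists_cover_unit hA (Fin n ⊕ Fin n) r fun p _ K _ ψ _ => by
    letI : Algebra R K := (ψ.comp (algebraMap R A)).toAlgebra
    let ψR : A →ₐ[R] K := ⟨ψ, fun _ => rfl⟩
    obtain ⟨hR1, hR2⟩ := hrad K
    obtain ⟨x, y, hxy⟩ := exists_pair (Algebra.TensorProduct.basis K b) hR1 hR2 (F.map ψR) hk
    let c : Fin n ⊕ Fin n → K := Sum.elim (fun i => (Algebra.TensorProduct.basis K b).repr x i)
      (fun i => (Algebra.TensorProduct.basis K b).repr y i)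
    refine ⟨c, ?_⟩
    let χ : P →ₐ[R] K :=
      { MvPolynomial.eval₂Hom ψ c with
        commutes' := fun a => by
          change MvPolynomial.eval₂Hom ψ c (MvPolynomial.C (algebraMap R A a)) = _
          rw [MvPolynomial.eval₂Hom_C]; rfl }
    have hF : ∀ z, (F.map ψR).proj (mapV χ z) = mapV χ ((F.map φP).proj z) := by
      intro z
      rw [← Frame.map_proj χ (F.map φP) z]
      have hχ : ∀ a : A ⊗[R] M, mapV χ (mapV φP a) = mapV ψR a := by
        intro a
        induction a using TensorProduct.induction_on with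
        | zero => simp
        | add y z hy hz => simp only [map_add, hy, hz]
        | tmul a w =>
          simp only [LinearMap.rTensor_tmul, AlgHom.toLinearMap_apply]
          congr 1
          exact MvPolynomial.eval₂Hom_C ψ c a
      simp [Frame.proj_apply, Frame.map, hχ]
    have hX : ∀ (s : Fin n → Fin n ⊕ Fin n) (w : K ⊗[R] M), (∀ i, c (s i) = (Algebra.TensorProduct.basis K b).repr w i) →
        mapV χ (∑ i, (MvPolynomial.X (s i) : P) • ((1 : P) ⊗ₜ[R] b i)) = w := by
      intro s w hw
      conv_rhs => rw [← (Algebra.TensorProduct.basis K b).sum_repr w]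
      rw [map_sum]
      refine Finset.sum_congr rfl fun i _ => ?_
      rw [mapV_smul, LinearMap.rTensor_tmul, AlgHom.toLinearMap_apply, map_one, Algebra.TensorProduct.basis_apply]
      congr 1
      exact (MvPolynomial.eval₂Hom_X' ψ c (s i)).trans (hw i)
    intro h0
    apply hxy
    rw [← hX Sum.inl x (fun _ => rfl), ← hX Sum.inr y (fun _ => rfl), hF, hF, form_mapV, form_mapV, polar_mapV,
      ← map_pow, show (4 : K) = χ 4 from (map_ofNat χ 4).symm, ← map_mul, ← map_mul, ← map_sub, ← map_mul]
    exact h0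
  -- specialise
  let χ : P →ₐ[R] A₁ :=
    { MvPolynomial.eval₂Hom φ.toRingHom x with
      commutes' := fun a => by
        change MvPolynomial.eval₂Hom φ.toRingHom x (MvPolynomial.C (algebraMap R A a)) = _
        rw [MvPolynomial.eval₂Hom_C]; exact φ.commutes a }
  let v := mapV χ X
  let w := mapV χ Y
  set F₁ := (F.map φP).map χ
  have hvF : ∀ z : P ⊗[R] M, (∀ i, QuadraticMap.polar (baseChangeForm A₁ Q) (F₁.e i) (mapV χ ((F.map φP).proj z)) = 0) ∧
      ∀ i, QuadraticMap.polar (baseChangeForm A₁ Q) (F₁.f i) (mapV χ ((F.map φP).proj z)) = 0 := fun z => by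
    refine ⟨fun i => ?_, fun i => ?_⟩
    · rw [show F₁.e i = mapV χ ((F.map φP).e i) from rfl, polar_mapV]
      exact (congrArg χ ((F.map φP).polar_e_proj i z).1).trans (map_zero χ)
    · rw [show F₁.f i = mapV χ ((F.map φP).f i) from rfl, polar_mapV]
      exact (congrArg χ ((F.map φP).polar_e_proj i z).2).trans (map_zero χ)
  have hu' : IsUnit (baseChangeForm A₁ Q v * (QuadraticMap.polar (baseChangeForm A₁ Q) v w ^ 2 -
      4 * baseChangeForm A₁ Q v * baseChangeForm A₁ Q w)) := by
    simp only [v, w, form_mapV, polar_mapV, ← map_pow, ← map_mul, ← map_sub,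
      show (4 : A₁) = χ 4 from (map_ofNat χ 4).symm]
    exact hu
  obtain ⟨ha, hD⟩ := IsUnit.mul_iff.1 hu'
  obtain ⟨a, ha'⟩ := ha
  obtain ⟨A', _, _, φ', t, hA', ht⟩ := exists_cover_root hA₁
    (QuadraticMap.polar (baseChangeForm A₁ Q) v w * ↑a⁻¹) (baseChangeForm A₁ Q w * ↑a⁻¹)
  refine ⟨A', ‹_›, ‹_›, hA', ?_⟩
  set v' := mapV φ' v
  set w' := mapV φ' w
  set q' := baseChangeForm A' Q
  have hqv : q' v' = φ' ↑a := by simp only [q', v', form_mapV, ha']
  set β := QuadraticMap.polar q' v' w' with hβ
  have hD' : IsUnit (β ^ 2 - 4 * q' v' * q' w') := by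
    simp only [β, q', v', w', form_mapV, polar_mapV, ← map_pow, ← map_mul, ← map_sub,
      show (4 : A') = φ' 4 from (map_ofNat φ' 4).symm]
    exact hD.map φ'
  -- the root
  have hroot : q' v' * t ^ 2 + β * t + q' w' = 0 := by
    have hinv : φ' ↑a * φ' ↑a⁻¹ = 1 := by rw [← map_mul, Units.mul_inv, map_one]
    rw [map_mul, map_mul] at ht
    rw [hqv, hβ, show q' w' = φ' (baseChangeForm A₁ Q w) from form_mapV Q φ' w,
      show QuadraticMap.polar q' v' w' = φ' (QuadraticMap.polar (baseChangeForm A₁ Q) v w) from polar_mapV Q φ' v w]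
    linear_combination φ' ↑a * ht - (φ' (QuadraticMap.polar (baseChangeForm A₁ Q) v w) * t +
      φ' (baseChangeForm A₁ Q w)) * hinv
  have hs : IsUnit (2 * q' v' * t + β) := by
    refine isUnit_of_mul_isUnit_left (y := 2 * q' v' * t + β) ?_
    rw [show (2 * q' v' * t + β) * (2 * q' v' * t + β) = β ^ 2 - 4 * q' v' * q' w' by
      linear_combination 4 * q' v' * hroot]
    exact hD'
  obtain ⟨s, hs'⟩ := hs
  let z := t • v' + w'
  let u₀ := (↑s⁻¹ : A') • v'
  let f₀ := u₀ - q' u₀ • z
  have hqz : q' z = 0 := by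
    simp only [z, QuadraticMap.map_add q', QuadraticMap.map_smul, QuadraticMap.polar_smul_left, smul_eq_mul, ← hβ]
    linear_combination hroot
  have hzu : QuadraticMap.polar q' z u₀ = 1 := by
    simp only [z, u₀, QuadraticMap.polar_add_left, QuadraticMap.polar_smul_left, QuadraticMap.polar_smul_right,
      QuadraticMap.polar_self, QuadraticMap.polar_comm q' w' v', ← hβ, smul_eq_mul, two_nsmul]
    rw [show t * (q' v' + q' v') + β = 2 * q' v' * t + β by ring, ← hs', Units.inv_mul]
  have hzz : QuadraticMap.polar q' z z = 0 := by rw [QuadraticMap.polar_self, hqz, smul_zero]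
  have hzf : QuadraticMap.polar q' z f₀ = 1 := by
    simp only [f₀, QuadraticMap.polar_sub_right, QuadraticMap.polar_smul_right, hzz, smul_zero, sub_zero, hzu]
  have hqf : q' f₀ = 0 := by
    rw [show f₀ = u₀ + (-q' u₀) • z by simp only [f₀]; module, QuadraticMap.map_add q',
      QuadraticMap.map_smul q' (-q' u₀) z, hqz, QuadraticMap.polar_smul_right, QuadraticMap.polar_comm, hzu,
      smul_zero, smul_eq_mul]
    ring
  set F' := F₁.map φ'
  have horth : ∀ i, (QuadraticMap.polar q' (F'.e i) v' = 0 ∧ QuadraticMap.polar q' (F'.e i) w' = 0) ∧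
      (QuadraticMap.polar q' (F'.f i) v' = 0 ∧ QuadraticMap.polar q' (F'.f i) w' = 0) := fun i => by
    simp only [F', Frame.map, v', w', q', polar_mapV]
    refine ⟨⟨?_, ?_⟩, ⟨?_, ?_⟩⟩
    · exact (congrArg φ' ((hvF _).1 i)).trans (map_zero φ')
    · exact (congrArg φ' ((hvF _).1 i)).trans (map_zero φ')
    · exact (congrArg φ' ((hvF _).2 i)).trans (map_zero φ')
    · exact (congrArg φ' ((hvF _).2 i)).trans (map_zero φ')
  have hez : ∀ i, QuadraticMap.polar q' (F'.e i) z = 0 ∧ QuadraticMap.polar q' (F'.e i) f₀ = 0 ∧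
      QuadraticMap.polar q' (F'.f i) z = 0 ∧ QuadraticMap.polar q' (F'.f i) f₀ = 0 := fun i => by
    obtain ⟨⟨a1, a2⟩, ⟨a3, a4⟩⟩ := horth i
    simp [z, f₀, u₀, QuadraticMap.polar_add_right, QuadraticMap.polar_sub_right, QuadraticMap.polar_smul_right,
      a1, a2, a3, a4]
  refine ⟨⟨Fin.snoc F'.e z, Fin.snoc F'.f f₀, ?_, ?_, ?_, ?_, ?_⟩⟩
  · intro i; induction i using Fin.lastCases with
    | last => simpa using hqz
    | cast i => simpa using F'.qe i
  · intro i; induction i using Fin.lastCases with
    | last => simpa using hqf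
    | cast i => simpa using F'.qf i
  · intro i j
    induction i using Fin.lastCases with
    | last => induction j using Fin.lastCases with
      | last => simpa using hzf
      | cast j => simpa [QuadraticMap.polar_comm q' z, (Fin.castSucc_lt_last j).ne'] using (hez j).2.2.1
    | cast i => induction j using Fin.lastCases with
      | last => simpa [(Fin.castSucc_lt_last i).ne] using (hez i).2.1
      | cast j => simpa [Fin.castSucc_inj] using F'.ef i j
  · intro i j
    induction i using Fin.lastCases with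
    | last => induction j using Fin.lastCases with
      | last => simpa using hzz
      | cast j => simpa [QuadraticMap.polar_comm q' z] using (hez j).1
    | cast i => induction j using Fin.lastCases with
      | last => simpa using (hez i).1
      | cast j => simpa using F'.ee i j
  · intro i j
    induction i using Fin.lastCases with
    | last => induction j using Fin.lastCases with
      | last => simp [QuadraticMap.polar_self, hqf]
      | cast j => simpa [QuadraticMap.polar_comm q' f₀] using (hez j).2.2.2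
    | cast i => induction j using Fin.lastCases with
      | last => simpa using (hez i).2.2.2
      | cast j => simpa using F'.ff i j

/-- A complete frame: hyperbolic pairs and an orthogonal vector of value one. -/
structure FullFrame {A : Type u} [CommRing A] {V : Type u} [AddCommGroup V] [Module A V] (q : QuadraticForm A V)
    (m : ℕ) extends Frame q m where
  v : V
  qv : q v = 1
  ve : ∀ i, QuadraticMap.polar q v (e i) = 0
  vf : ∀ i, QuadraticMap.polar q v (f i) = 0

/-- Evaluation of polynomials as a map over the base. -/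
noncomputable def evalR {A B : Type u} [CommRing A] [Algebra R A] [CommRing B] [Algebra R B] {σ : Type}
    (φ : A →ₐ[R] B) (x : σ → B) : MvPolynomial σ A →ₐ[R] B where
  toRingHom := MvPolynomial.eval₂Hom φ.toRingHom x
  commutes' a := by
    change MvPolynomial.eval₂Hom φ.toRingHom x (MvPolynomial.C (algebraMap R A a)) = _
    rw [MvPolynomial.eval₂Hom_C]
    exact φ.commutes a

theorem evalR_apply {A B : Type u} [CommRing A] [Algebra R A] [CommRing B] [Algebra R B] {σ : Type}
    (φ : A →ₐ[R] B) (x : σ → B) (r : MvPolynomial σ A) : evalR φ x r = MvPolynomial.eval₂ φ.toRingHom x r := rfl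

theorem evalR_comp {A B : Type u} [CommRing A] [Algebra R A] [CommRing B] [Algebra R B] {σ : Type}
    (φ : A →ₐ[R] B) (x : σ → B) (a : A ⊗[R] M) :
    mapV (evalR φ x) (mapV (IsScalarTower.toAlgHom R A (MvPolynomial σ A)) a) = mapV φ a := by
  induction a using TensorProduct.induction_on with
  | zero => simp
  | add y z hy hz => simp only [map_add, hy, hz]
  | tmul a w =>
    simp only [LinearMap.rTensor_tmul, AlgHom.toLinearMap_apply]
    congr 1
    exact MvPolynomial.eval₂Hom_C φ.toRingHom x a

theorem evalR_proj {A B : Type u} [CommRing A] [Algebra R A] [CommRing B] [Algebra R B] {σ : Type} {k : ℕ}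
    (F : Frame (baseChangeForm A Q) k) (φ : A →ₐ[R] B) (x : σ → B) (z : MvPolynomial σ A ⊗[R] M) :
    mapV (evalR φ x) ((F.map (IsScalarTower.toAlgHom R A (MvPolynomial σ A))).proj z) =
      (F.map φ).proj (mapV (evalR φ x) z) := by
  rw [← Frame.map_proj]
  simp [Frame.proj_apply, Frame.map, evalR_comp]

theorem evalR_generic {A B : Type u} [CommRing A] [Algebra R A] [CommRing B] [Algebra R B] {σ : Type} {n : ℕ}
    (φ : A →ₐ[R] B) (x : σ → B) (b : Module.Basis (Fin n) R M) (s : Fin n → σ) :
    mapV (evalR φ x) (∑ i, (MvPolynomial.X (s i) : MvPolynomial σ A) • ((1 : MvPolynomial σ A) ⊗ₜ[R] b i)) =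
      ∑ i, x (s i) • (Algebra.TensorProduct.basis B b i) := by
  rw [map_sum]
  refine Finset.sum_congr rfl fun i _ => ?_
  rw [mapV_smul, LinearMap.rTensor_tmul, AlgHom.toLinearMap_apply, map_one, Algebra.TensorProduct.basis_apply,
    evalR_apply, MvPolynomial.eval₂_X]

/-- Normalise a vector of unit value orthogonal to a frame. -/
theorem exists_fullFrame_of_unit {m : ℕ} {A₁ : Type u} [CommRing A₁] [Algebra R A₁] (hA₁ : IsCover (R := R) A₁)
    (F₁ : Frame (baseChangeForm A₁ Q) m) (v : A₁ ⊗[R] M) (hu : IsUnit (baseChangeForm A₁ Q v))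
    (he : ∀ i, QuadraticMap.polar (baseChangeForm A₁ Q) v (F₁.e i) = 0)
    (hf : ∀ i, QuadraticMap.polar (baseChangeForm A₁ Q) v (F₁.f i) = 0) :
    ∃ (A' : Type u) (_ : CommRing A') (_ : Algebra R A'), IsCover (R := R) A' ∧
      Nonempty (FullFrame (baseChangeForm A' Q) m) := by
  obtain ⟨a, ha⟩ := hu
  obtain ⟨A', _, _, φ', t, hA', ht⟩ := exists_cover_root hA₁ 0 (-(↑a⁻¹ : A₁))
  refine ⟨A', _, _, hA', ⟨⟨F₁.map φ', t • mapV φ' v, ?_, ?_, ?_⟩⟩⟩
  · rw [map_zero, zero_mul, add_zero, map_neg, ← sub_eq_add_neg, sub_eq_zero] at ht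
    rw [QuadraticMap.map_smul, form_mapV, ← ha, smul_eq_mul, ← sq, ht, ← map_mul, Units.inv_mul, map_one]
  · intro i
    rw [QuadraticMap.polar_smul_left, show (F₁.map φ').e i = mapV φ' (F₁.e i) from rfl, polar_mapV, he, map_zero,
      smul_zero]
  · intro i
    rw [QuadraticMap.polar_smul_left, show (F₁.map φ').f i = mapV φ' (F₁.f i) from rfl, polar_mapV, hf, map_zero,
      smul_zero]

/-- The last vector of a full frame. -/
theorem exists_fullFrame_of_frame {n m : ℕ} (hn : Odd n) (hm : 2 * m < n) (b : Module.Basis (Fin n) R M)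
    (hQ : IsSemiregular b (LinearEquiv.refl R R) Q) {A : Type u} [CommRing A] [Algebra R A]
    (hA : IsCover (R := R) A) (F : Frame (baseChangeForm A Q) m) :
    ∃ (A' : Type u) (_ : CommRing A') (_ : Algebra R A'), IsCover (R := R) A' ∧
      Nonempty (FullFrame (baseChangeForm A' Q) m) := by
  set G := ∑ i, (MvPolynomial.X i : MvPolynomial (Fin n) A) • ((1 : MvPolynomial (Fin n) A) ⊗ₜ[R] b i) with hG
  set FP := F.map (IsScalarTower.toAlgHom R A (MvPolynomial (Fin n) A)) with hFP
  obtain ⟨A₁, _, _, φ, x, hA₁, hu⟩ := exists_cover_unit hA (Fin n)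
      (baseChangeForm (MvPolynomial (Fin n) A) Q (FP.proj G)) fun p _ K _ ψ _ => by
    letI : Algebra R K := (ψ.comp (algebraMap R A)).toAlgebra
    let ψR : A →ₐ[R] K := ⟨ψ, fun _ => rfl⟩
    obtain ⟨hR1, -⟩ := semiregular_radical (Algebra.TensorProduct.basis K b) hn (isSemiregular_baseChange Q b hQ K)
    obtain ⟨y, hy⟩ := exists_value_ne_zero (Algebra.TensorProduct.basis K b) hR1 (F.map ψR) hm
    refine ⟨fun i => (Algebra.TensorProduct.basis K b).repr y i, ?_⟩
    intro h0
    apply hy
    have hy' : mapV (evalR ψR fun i => (Algebra.TensorProduct.basis K b).repr y i) G = y :=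
      (evalR_generic ψR (fun i => (Algebra.TensorProduct.basis K b).repr y i) b id).trans
        ((Algebra.TensorProduct.basis K b).sum_repr y)
    rw [← hy', ← evalR_proj, form_mapV, evalR_apply]
    exact h0
  have hu' : IsUnit (baseChangeForm A₁ Q (mapV (evalR φ x) (FP.proj G))) := by rw [form_mapV]; exact hu
  have horth : ∀ i, QuadraticMap.polar (baseChangeForm A₁ Q) (mapV (evalR φ x) (FP.proj G))
        (mapV (evalR φ x) (FP.e i)) = 0 ∧
      QuadraticMap.polar (baseChangeForm A₁ Q) (mapV (evalR φ x) (FP.proj G)) (mapV (evalR φ x) (FP.f i)) = 0 := by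
    intro i
    rw [polar_mapV, polar_mapV, QuadraticMap.polar_comm _ (FP.proj G), QuadraticMap.polar_comm _ (FP.proj G)]
    exact ⟨(congrArg (evalR φ x) (FP.polar_e_proj i G).1).trans (map_zero _),
      (congrArg (evalR φ x) (FP.polar_e_proj i G).2).trans (map_zero _)⟩
  exact exists_fullFrame_of_unit hA₁ (FP.map (evalR φ x)) _ hu' (fun i => (horth i).1) (fun i => (horth i).2)

/-- Semiregular forms split fppf locally. -/
theorem exists_fullFrame {m : ℕ} (b : Module.Basis (Fin (2 * m + 1)) R M)
    (hQ : IsSemiregular b (LinearEquiv.refl R R) Q) :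
    ∃ (A : Type u) (_ : CommRing A) (_ : Algebra R A), IsCover (R := R) A ∧
      Nonempty (FullFrame (baseChangeForm A Q) m) := by
  have hn : Odd (2 * m + 1) := odd_two_mul_add_one m
  have hfr : ∀ k, k ≤ m → ∃ (A : Type u) (_ : CommRing A) (_ : Algebra R A), IsCover (R := R) A ∧
      Nonempty (Frame (baseChangeForm A Q) k) := by
    intro k
    induction k with
    | zero =>
      intro _
      exact ⟨R, inferInstance, inferInstance, ⟨inferInstance, Algebra.FinitePresentation.self R⟩,
        ⟨⟨Fin.elim0, Fin.elim0, fun i => i.elim0, fun i => i.elim0, fun i => i.elim0, fun i => i.elim0,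
          fun i => i.elim0⟩⟩⟩
    | succ k ih =>
      intro hk
      obtain ⟨A, _, _, hA, ⟨F⟩⟩ := ih (Nat.le_of_succ_le hk)
      exact exists_next (by omega) b (fun K _ _ => semiregular_radical (Algebra.TensorProduct.basis K b) hn
        (isSemiregular_baseChange Q b hQ K)) hA F
  obtain ⟨A, _, _, hA, ⟨F⟩⟩ := hfr m le_rfl
  exact exists_fullFrame_of_frame hn (by omega) b hQ hA F

end Groth.Agent.CliffSmooth
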