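import Groth.Agent.CliffSmooth.EvenDickson
import Groth.Agent.CliffSmooth.Splitting
import Mathlib.LinearAlgebra.TensorProduct.Pi
import Mathlib.RingTheory.Flat.Equalizer
import Mathlib.RingTheory.Finiteness.Basic

/-!
# Splitting regular forms of even rank, and the centre of the even part
-/

set_option autoImplicit false

universe u

namespace Groth.Agent.CliffSmooth

open CliffordAlgebra QuadGrp TensorProduct

section Trace

variable {A : Type u} [CommRing A] {V : Type u} [AddCommGroup V] [Module A V] {q : QuadraticForm A V} {m : ℕ}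

/-- An idempotent splitting the vectors of a list of pairs. -/
theorem Frame.exists_idem (F : Frame q m) : ∀ l : List (Fin m), l.Nodup → ∃ E : CliffordAlgebra q,
    E ∈ evenOdd q 0 ∧ E * E = E ∧
    (∀ i ∈ l, ι q (F.e i) * E + E * ι q (F.e i) = ι q (F.e i) ∧ ι q (F.f i) * E + E * ι q (F.f i) = ι q (F.f i)) ∧
    ∀ x : V, (∀ i ∈ l, QuadraticMap.polar q (F.e i) x = 0 ∧ QuadraticMap.polar q (F.f i) x = 0) →
      ι q x * E = E * ι q x := by
  intro l
  induction l with
  | nil => intro _; exact ⟨0, zero_mem _, by simp, by simp, fun x _ => by simp⟩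
  | cons a l ih =>
    intro hnd
    obtain ⟨ha, hl⟩ := List.nodup_cons.1 hnd
    obtain ⟨E, E0, EE, hE, hEc⟩ := ih hl
    set e := ι q (F.e a) with he
    set f := ι q (F.f a) with hf
    obtain ⟨p, hp⟩ : ∃ p, p = e * f := ⟨_, rfl⟩
    have hee : e * e = 0 := by rw [he, ι_sq_scalar, F.qe, map_zero]
    have hff : f * f = 0 := by rw [hf, ι_sq_scalar, F.qf, map_zero]
    have hfe : f * e = 1 - e * f := by
      rw [eq_sub_iff_add_eq, add_comm, he, hf, ι_mul_ι_add_swap, F.ef, if_pos rfl, map_one]
    have pe : p * e = e := by rw [hp, mul_assoc, hfe, mul_sub, mul_one, ← mul_assoc, hee, zero_mul, sub_zero]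
    have ep : e * p = 0 := by rw [hp, ← mul_assoc, hee, zero_mul]
    have fp : f * p = f := by rw [hp, ← mul_assoc, hfe, sub_mul, one_mul, mul_assoc, hff, mul_zero, sub_zero]
    have pf : p * f = 0 := by rw [hp, mul_assoc, hff, mul_zero]
    have pp : p * p = p := by
      calc p * p = p * e * f := by rw [mul_assoc, ← hp]
        _ = p := by rw [pe, hp]
    have hne : ∀ i ∈ l, i ≠ a := fun i hi h => ha (h ▸ hi)
    have hEe : e * E = E * e := hEc _ fun i hi => ⟨F.ee i a, by rw [F.fe, if_neg (hne i hi).symm]⟩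
    have hEf : f * E = E * f := hEc _ fun i hi => ⟨by rw [F.ef, if_neg (hne i hi)], F.ff i a⟩
    have hEp : p * E = E * p := by rw [hp, mul_assoc, hEf, ← mul_assoc, hEe, mul_assoc]
    have hpc : ∀ x : V, QuadraticMap.polar q (F.e a) x = 0 → QuadraticMap.polar q (F.f a) x = 0 →
        ι q x * p = p * ι q x := by
      intro x hx hx'
      have h1 : ι q x * e = -(e * ι q x) :=
        eq_neg_of_add_eq_zero_left (by rw [he, ι_mul_ι_add_swap, QuadraticMap.polar_comm, hx, map_zero])
      have h2 : ι q x * f = -(f * ι q x) :=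
        eq_neg_of_add_eq_zero_left (by rw [hf, ι_mul_ι_add_swap, QuadraticMap.polar_comm, hx', map_zero])
      rw [hp, ← mul_assoc, h1, neg_mul, mul_assoc, h2, mul_neg, neg_neg, mul_assoc]
    refine ⟨p + E - (2 : A) • (p * E), ?_, ?_, ?_, ?_⟩
    · refine Submodule.sub_mem _ (Submodule.add_mem _ ?_ E0) (Submodule.smul_mem _ _ ?_)
      · rw [hp]; exact ι_mul_ι_mem_evenOdd_zero q _ _
      · rw [hp]; simpa using SetLike.mul_mem_graded (ι_mul_ι_mem_evenOdd_zero q (F.e a) (F.f a)) E0
    · simp only [mul_add, mul_sub, add_mul, sub_mul, smul_mul_assoc, mul_smul_comm, mul_assoc, ← hEp]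
      have h1 : p * (p * E) = p * E := by rw [← mul_assoc, pp]
      have h2 : E * (p * E) = p * E := by rw [← mul_assoc, ← hEp, mul_assoc, EE]
      simp only [pp, EE, h1, h2]
      module
    · intro i hi
      rcases List.mem_cons.1 hi with rfl | hi
      · constructor
        · rw [mul_sub, sub_mul, mul_add, add_mul, mul_smul_comm, smul_mul_assoc, mul_assoc p, ← hEe, ← mul_assoc,
            ← mul_assoc p, ep, pe, zero_mul, smul_zero, zero_add]
          module
        · rw [mul_sub, sub_mul, mul_add, add_mul, mul_smul_comm, smul_mul_assoc, mul_assoc p, ← hEf, ← mul_assoc,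
            ← mul_assoc p, fp, pf, zero_mul, smul_zero, zero_add]
          module
      · have hce := hpc (F.e i) (F.ee a i) (by rw [F.fe, if_neg (hne i hi)])
        have hcf := hpc (F.f i) (by rw [F.ef, if_neg (hne i hi).symm]) (F.ff a i)
        constructor
        · have h := (hE i hi).1
          rw [mul_sub, sub_mul, mul_add, add_mul, mul_smul_comm, smul_mul_assoc, mul_assoc p, ← mul_assoc, hce,
            mul_assoc]
          calc _ = (2 : A) • (p * ι q (F.e i)) + (ι q (F.e i) * E + E * ι q (F.e i)) -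
                (2 : A) • (p * (ι q (F.e i) * E + E * ι q (F.e i))) := by rw [mul_add]; module
            _ = _ := by rw [h]; abel
        · have h := (hE i hi).2
          rw [mul_sub, sub_mul, mul_add, add_mul, mul_smul_comm, smul_mul_assoc, mul_assoc p, ← mul_assoc, hcf,
            mul_assoc]
          calc _ = (2 : A) • (p * ι q (F.f i)) + (ι q (F.f i) * E + E * ι q (F.f i)) -
                (2 : A) • (p * (ι q (F.f i) * E + E * ι q (F.f i))) := by rw [mul_add]; module
            _ = _ := by rw [h]; abel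
    · intro x hx
      have h1 := hEc x fun i hi => hx i (List.mem_cons_of_mem _ hi)
      have h2 := hpc x (hx a List.mem_cons_self).1 (hx a List.mem_cons_self).2
      rw [mul_sub, sub_mul, mul_add, add_mul, mul_smul_comm, smul_mul_assoc, ← mul_assoc, h2, mul_assoc, h1,
        mul_assoc]

/-- A spanning frame gives a central idempotent of the even part with trace one. -/
theorem Frame.exists_tr_sq (F : Frame q m) (hspan : ∀ x : V, F.proj x = 0) :
    ∃ ε w : CliffordAlgebra q, Tr q ε w ∧ w * w = 1 := by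
  obtain ⟨E, E0, EE, hE, -⟩ := F.exists_idem Finset.univ.toList (Finset.nodup_toList _)
  have hv : ∀ x, ι q x * E + E * ι q x = ι q x := by
    intro x
    have := hspan x
    rw [Frame.proj_apply, sub_eq_zero] at this
    rw [this, map_sum, Finset.sum_mul, Finset.mul_sum, ← Finset.sum_add_distrib]
    refine Finset.sum_congr rfl fun i _ => ?_
    rw [map_add, map_smul, map_smul, add_mul, mul_add, smul_mul_assoc, smul_mul_assoc, mul_smul_comm, mul_smul_comm,
      add_add_add_comm, ← smul_add, ← smul_add, (hE i (by simp)).1, (hE i (by simp)).2]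
  refine ⟨E, 1 - (2 : A) • E, ⟨E0, ⟨Submodule.sub_mem _ (SetLike.one_mem_graded _) (Submodule.smul_mem _ _ E0),
    fun v => ?_⟩, fun v => ?_⟩, ?_⟩
  · have h : ι q v * E = ι q v - E * ι q v := eq_sub_of_add_eq (hv v)
    rw [mul_sub, mul_one, mul_smul_comm, h, sub_mul, one_mul, smul_mul_assoc]
    module
  · rw [eq_sub_of_add_eq (hv v), add_mul, sub_mul, one_mul, smul_mul_assoc]
    module
  · simp only [mul_sub, sub_mul, mul_one, one_mul, smul_mul_assoc, mul_smul_comm, EE, smul_smul]
    module

/-- Pairs filling the rank span. -/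
theorem Frame.proj_eq_zero (F : Frame q m) (b : Module.Basis (Fin (2 * m)) A V) (x : V) : F.proj x = 0 := by
  classical
  haveI : Module.Finite A V := Module.Finite.of_basis b
  let ψ : V →ₗ[A] (Fin m ⊕ Fin m → A) :=
    LinearMap.pi (Sum.elim (fun i => QuadraticMap.polarBilin q (F.f i)) fun i => QuadraticMap.polarBilin q (F.e i))
  have hψ : Function.Surjective ψ := by
    intro c
    refine ⟨∑ i, (c (Sum.inl i) • F.e i + c (Sum.inr i) • F.f i), funext fun s => ?_⟩
    rcases s with j | j <;>
      simp only [ψ, LinearMap.pi_apply, Sum.elim_inl, Sum.elim_inr, map_sum, map_add, map_smul,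
        QuadraticMap.polarBilin_apply_apply] <;>
      simp [F.fe, F.ff, F.ee, F.ef, Finset.sum_add_distrib]
  let σ : (Fin m ⊕ Fin m) ≃ Fin (2 * m) := finSumFinEquiv.trans (finCongr (two_mul m).symm)
  let e : (Fin m ⊕ Fin m → A) ≃ₗ[A] V := (LinearEquiv.funCongrLeft A A σ.symm).trans b.equivFun.symm
  have hinj : Function.Injective (e.toLinearMap ∘ₗ ψ) :=
    OrzechProperty.injective_of_surjective_endomorphism _ (e.surjective.comp hψ)
  refine hinj ?_
  rw [map_zero, LinearMap.comp_apply, ← map_zero e]
  refine congrArg e (funext fun s => ?_)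
  rcases s with j | j
  · exact (F.polar_e_proj j x).2
  · exact (F.polar_e_proj j x).1

end Trace

variable {R : Type u} [CommRing R] {M : Type u} [AddCommGroup M] [Module R M] [Module.Free R M]
  {Q : QuadraticForm R M} {m : ℕ}

theorem goodPolar_baseChange {n : ℕ} (b : Module.Basis (Fin n) R M) (hQ : IsRegular Q) (A : Type u) [CommRing A]
    [Algebra R A] : GoodPolar (baseChangeForm A Q) (Algebra.TensorProduct.basis A b) := by
  refine goodPolar_of_goodMat (goodMat_of_isUnit_det ?_)
  rw [polMat_baseChange]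
  have := (isUnit_det_polMat_of_isRegular b hQ).map (algebraMap R A)
  rwa [RingHom.map_det, RingHom.mapMatrix_apply] at this

theorem radical_eq_zero {n : ℕ} (b : Module.Basis (Fin n) R M) (hQ : IsRegular Q) (K : Type u) [Field K] [Algebra R K]
    (x : K ⊗[R] M) (hx : ∀ y, QuadraticMap.polar (baseChangeForm K Q) x y = 0) : x = 0 := by
  classical
  set bK := Algebra.TensorProduct.basis K b
  have hdet : IsUnit (polMat (baseChangeForm K Q) bK).det := by
    rw [polMat_baseChange]
    have := (isUnit_det_polMat_of_isRegular b hQ).map (algebraMap R K)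
    rwa [RingHom.map_det, RingHom.mapMatrix_apply] at this
  have h : Matrix.vecMul (fun i => bK.repr x i) (polMat (baseChangeForm K Q) bK) = 0 := by
    funext j
    have h1 := hx (bK j)
    rw [← bK.sum_repr x, ← QuadraticMap.polarBilin_apply_apply, map_sum, LinearMap.sum_apply] at h1
    simpa [Matrix.vecMul, dotProduct, polMat] using h1
  have h0 := Matrix.eq_zero_of_vecMul_eq_zero hdet.ne_zero h
  exact bK.repr.injective (Finsupp.ext fun i => by simpa using congrFun h0 i)

/-- Regular forms of even rank split fppf locally. -/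
theorem exists_evenFrame (b : Module.Basis (Fin (2 * m)) R M) (hQ : IsRegular Q) :
    ∃ (A : Type u) (_ : CommRing A) (_ : Algebra R A), IsCover (R := R) A ∧
      Nonempty (Frame (baseChangeForm A Q) m) := by
  have hfr : ∀ k, k ≤ m → ∃ (A : Type u) (_ : CommRing A) (_ : Algebra R A), IsCover (R := R) A ∧
      Nonempty (Frame (baseChangeForm A Q) k) := by
    intro k
    induction k with
    | zero =>
      intro _
      exact ⟨R, inferInstance, inferInstance, ⟨inferInstance, Algebra.FinitePresentation.self R⟩,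
        ⟨⟨Fin.elim0, Fin.elim0, fun i => i.elim0, fun i => i.elim0, fun i => i.elim0, fun i => i.elim0,
          fun i => i.elim0⟩⟩⟩
    | succ k ih =>
      intro hk
      obtain ⟨A, _, _, hA, ⟨F⟩⟩ := ih (Nat.le_of_succ_le hk)
      exact exists_next (by omega) b (fun K _ _ => ⟨fun x hx _ => radical_eq_zero b hQ K x hx,
        ⟨0, fun x hx _ => radical_eq_zero b hQ K x hx⟩⟩) hA F
  exact hfr m le_rfl

variable (Q) in
/-- The even part after base change. -/
noncomputable abbrev bcl (A : Type u) [CommRing A] [Algebra R A] : CliffordAlgebra Q →ₐ[R] CliffordAlgebra (baseChangeForm A Q) :=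
  ofBCAux Q A

theorem cb_bcl (A : Type u) [CommRing A] [Algebra R A] (y : CliffordAlgebra Q) :
    cb Q A (bcl Q A y) = (1 : A) ⊗ₜ[R] y := by
  induction y using CliffordAlgebra.induction with
  | algebraMap r => rw [AlgHom.commutes, IsScalarTower.algebraMap_apply R A (CliffordAlgebra (baseChangeForm A Q)),
      AlgEquiv.commutes, Algebra.TensorProduct.algebraMap_apply, Algebra.algebraMap_self, RingHom.id_apply,
      Algebra.algebraMap_eq_smul_one, Algebra.algebraMap_eq_smul_one, TensorProduct.smul_tmul]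
  | ι v => rw [ofBCAux_ι, cb_ι, vecBC_tmul]
  | add a c ha hc => rw [map_add, map_add, ha, hc, TensorProduct.tmul_add]
  | mul a c ha hc => rw [map_mul, map_mul, ha, hc, Algebra.TensorProduct.tmul_mul_tmul, one_mul]

theorem bcl_mem_even (A : Type u) [CommRing A] [Algebra R A] {y : CliffordAlgebra Q} (hy : y ∈ evenOdd Q 0) :
    bcl Q A y ∈ evenOdd (baseChangeForm A Q) 0 := by
  induction y, hy using CliffordAlgebra.evenOdd_induction (Q := Q) (n := (0 : ZMod 2)) with
  | range_ι_pow v hv =>
    rw [ZMod.val_zero, pow_zero, Submodule.mem_one] at hv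
    obtain ⟨r, rfl⟩ := hv
    rw [AlgHom.commutes, IsScalarTower.algebraMap_apply R A (CliffordAlgebra (baseChangeForm A Q))]
    exact SetLike.algebraMap_mem_graded _ _
  | add x y _ _ ihx ihy => rw [map_add]; exact Submodule.add_mem _ ihx ihy
  | ι_mul_ι_mul m₁ m₂ x _ ih =>
    rw [map_mul, map_mul, ofBCAux_ι, ofBCAux_ι]
    have := SetLike.mul_mem_graded (ι_mul_ι_mem_evenOdd_zero (baseChangeForm A Q) (1 ⊗ₜ m₁) (1 ⊗ₜ m₂)) ih
    rwa [zero_add] at this

theorem AC.bcl (A : Type u) [CommRing A] [Algebra R A] {ℓ : CliffordAlgebra Q} (h : AC Q ℓ) :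
    AC (baseChangeForm A Q) (bcl Q A ℓ) := by
  refine ⟨bcl_mem_even A h.1, fun v => ?_⟩
  induction v using TensorProduct.induction_on with
  | zero => simp
  | add x y hx hy => rw [map_add, add_mul, mul_add, hx, hy, neg_add]
  | tmul a w =>
    rw [show a ⊗ₜ[R] w = a • ((1 : A) ⊗ₜ[R] w) by rw [TensorProduct.smul_tmul', smul_eq_mul, mul_one], map_smul,
      smul_mul_assoc, mul_smul_comm, ← ofBCAux_ι, ← map_mul, ← map_mul, h.2, map_neg, smul_neg]

theorem Tr.bcl (A : Type u) [CommRing A] [Algebra R A] {x ℓ : CliffordAlgebra Q} (h : Tr Q x ℓ) :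
    Tr (baseChangeForm A Q) (bcl Q A x) (bcl Q A ℓ) := by
  refine ⟨bcl_mem_even A h.1, h.2.1.bcl A, fun v => ?_⟩
  induction v using TensorProduct.induction_on with
  | zero => simp
  | add x y hx hy => rw [map_add, add_mul, mul_add, hx, hy]
  | tmul a w =>
    rw [show a ⊗ₜ[R] w = a • ((1 : A) ⊗ₜ[R] w) by rw [TensorProduct.smul_tmul', smul_eq_mul, mul_one], map_smul,
      smul_mul_assoc, mul_smul_comm, ← ofBCAux_ι, ← map_mul, ← map_add, ← map_mul, h.2.2]

variable (Q) in
/-- The datum after base change. -/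
noncomputable def Datum.bc (D : Datum Q) (A : Type u) [CommRing A] [Algebra R A] : Datum (baseChangeForm A Q) where
  k := D.k
  x := bcl Q A ∘ D.x
  ℓ := bcl Q A ∘ D.ℓ
  l := bcl Q A ∘ D.l
  tr i := (D.tr i).bcl A
  acl i := (D.acl i).bcl A
  one := by simp only [Function.comp_apply, ← map_mul, ← map_sum, D.one, map_one]

/-- The even part of a regular form of even rank has a datum. -/
theorem exists_datum (b : Module.Basis (Fin (2 * m)) R M) (hQ : IsRegular Q) : Nonempty (Datum Q) := by
  classical
  obtain ⟨A, _, _, hA, ⟨F⟩⟩ := exists_evenFrame b hQ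
  haveI := hA.1
  obtain ⟨ε, w, ht, hww⟩ := F.exists_tr_sq (F.proj_eq_zero (Algebra.TensorProduct.basis A b))
  let C := CliffordAlgebra Q
  let mL := fun v : M => LinearMap.mulLeft R (ι Q v)
  let mR := fun v : M => LinearMap.mulRight R (ι Q v)
  let T := (Fin (2 * m) × Bool) ⊕ Bool
  let fst' : T → (C →ₗ[R] C) := Sum.elim
    (fun s => if s.2 then mL (b s.1) - mR (b s.1) else 0) (fun t => if t then par Q 1 else 0)
  let snd' : T → (C →ₗ[R] C) := Sum.elim
    (fun s => if s.2 then -mR (b s.1) else mL (b s.1) + mR (b s.1)) (fun t => if t then 0 else par Q 1)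
  let Φ : C × C →ₗ[R] (T → C) := LinearMap.pi fun s => (fst' s).comp (LinearMap.fst R C C) + (snd' s).comp (LinearMap.snd R C C)
  have hker : ∀ x ℓ : C, Φ (x, ℓ) = 0 → Tr Q x ℓ := by
    intro x ℓ h
    have hpar : ∀ y : C, par Q 1 y = 0 → y ∈ evenOdd Q 0 := fun y hy => by
      rw [← par_add_par Q y, hy, add_zero]; exact par_mem Q 0 y
    have h1 : ∀ i, ι Q (b i) * x = (x + ℓ) * ι Q (b i) ∧ ι Q (b i) * ℓ = -(ℓ * ι Q (b i)) := fun i => by
      have e1 := congrFun h (Sum.inl (i, true))
      have e2 := congrFun h (Sum.inl (i, false))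
      simp [Φ, fst', snd', mL, mR] at e1 e2
      exact ⟨by rw [add_mul, ← sub_eq_zero, ← e1]; abel, eq_neg_of_add_eq_zero_left e2⟩
    refine ⟨hpar x (by simpa [Φ, fst', snd'] using congrFun h (Sum.inr true)),
      ⟨hpar ℓ (by simpa [Φ, fst', snd'] using congrFun h (Sum.inr false)), fun v => ?_⟩, fun v => ?_⟩
    all_goals
      rw [← b.sum_repr v, map_sum, Finset.sum_mul, Finset.mul_sum]
      first
        | (rw [← Finset.sum_neg_distrib]; refine Finset.sum_congr rfl fun i _ => ?_
           rw [map_smul, smul_mul_assoc, (h1 i).2, mul_smul_comm, smul_neg])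
        | (refine Finset.sum_congr rfl fun i _ => ?_
           rw [map_smul, smul_mul_assoc, (h1 i).1, mul_smul_comm])
  let incl := LinearMap.inl R C C
  let incr := LinearMap.inr R C C
  set t : A ⊗[R] (C × C) := incl.baseChange A (cb Q A ε) + incr.baseChange A (cb Q A w) with ht'
  have hval : ∀ (v : M), ((1 : A) ⊗ₜ[R] ι Q v) * cb Q A ε = (cb Q A ε + cb Q A w) * ((1 : A) ⊗ₜ[R] ι Q v) ∧
      ((1 : A) ⊗ₜ[R] ι Q v) * cb Q A w = -(cb Q A w * ((1 : A) ⊗ₜ[R] ι Q v)) := fun v => by
    simp only [← vecBC_tmul, ← cb_ι, ← map_mul, ← map_add, ht.2.2, ht.2.1.2, map_neg, and_self]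
  have hL : ∀ (v : M) (z : A ⊗[R] C), (mL v).lTensor A z = ((1 : A) ⊗ₜ[R] ι Q v) * z ∧
      (mR v).lTensor A z = z * ((1 : A) ⊗ₜ[R] ι Q v) := fun v z => by
    induction z using TensorProduct.induction_on with
    | zero => simp
    | add x y hx hy => simp only [map_add, mul_add, add_mul, hx, hy]; exact ⟨trivial, trivial⟩
    | tmul a y => simp [mL, mR]
  have hP : ∀ y : CliffordAlgebra (baseChangeForm A Q), y ∈ evenOdd (baseChangeForm A Q) 0 →
      (par Q 1).lTensor A (cb Q A y) = 0 := fun y hy => by
    have h := cb_par Q A 1 y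
    rw [par_of_mem_ne _ hy (by decide), map_zero] at h
    exact h.symm
  have hΦt : Φ.lTensor A t = 0 := by
    apply (TensorProduct.piRight R R A (fun _ : T => C)).injective
    rw [map_zero]
    funext s
    have hcomp : ∀ z : A ⊗[R] (C × C), TensorProduct.piRight R R A (fun _ : T => C) (Φ.lTensor A z) s =
        ((fst' s).comp (LinearMap.fst R C C) + (snd' s).comp (LinearMap.snd R C C)).lTensor A z := fun z => by
      induction z using TensorProduct.induction_on with
      | zero => simp
      | add x y hx hy => simp only [map_add, Pi.add_apply, hx, hy]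
      | tmul a y => simp [Φ, TensorProduct.tmul_add]
    have hinc : ∀ z : A ⊗[R] C, ((fst' s).comp (LinearMap.fst R C C) + (snd' s).comp (LinearMap.snd R C C)).lTensor A
        (incl.baseChange A z) = (fst' s).lTensor A z ∧
        ((fst' s).comp (LinearMap.fst R C C) + (snd' s).comp (LinearMap.snd R C C)).lTensor A
        (incr.baseChange A z) = (snd' s).lTensor A z := fun z => by
      induction z using TensorProduct.induction_on with
      | zero => simp
      | add x y hx hy => simp only [map_add, hx, hy]; exact ⟨trivial, trivial⟩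
      | tmul a y => simp [incl, incr]
    rw [hcomp, ht', map_add, (hinc _).1, (hinc _).2, Pi.zero_apply]
    rcases s with ⟨i, _ | _⟩ | _ | _ <;>
      simp only [fst', snd', Sum.elim_inl, Sum.elim_inr, if_true, Bool.false_eq_true, if_false, LinearMap.lTensor_zero,
        LinearMap.lTensor_sub, LinearMap.lTensor_add, LinearMap.lTensor_neg, LinearMap.sub_apply, LinearMap.add_apply,
        LinearMap.neg_apply, LinearMap.zero_apply, (hL _ _).1, (hL _ _).2, (hval _).1, (hval _).2, zero_add, add_zero,
        hP _ ht.1, hP _ ht.2.1.1]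
    · abel
    · rw [add_mul]; abel
  have hex : Function.Exact (LinearMap.ker Φ).subtype Φ := LinearMap.exact_subtype_ker_map Φ
  obtain ⟨z, hz⟩ := ((Module.Flat.lTensor_exact A hex) t).1 hΦt
  obtain ⟨S, rfl⟩ := TensorProduct.exists_finset z
  set x' : S → C := fun i => (i.1.2 : C × C).1 with hx'
  set ℓ' : S → C := fun i => (i.1.2 : C × C).2 with hℓ'
  have htr : ∀ i, Tr Q (x' i) (ℓ' i) := fun i => hker _ _ i.1.2.2
  have hw : w = ∑ i : S, i.1.1 • bcl Q A (ℓ' i) := by
    apply (cb Q A).injective
    have h := congrArg ((LinearMap.snd R C C).baseChange A) hz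
    have h1 : ∀ z : A ⊗[R] C, (LinearMap.snd R C C).baseChange A (incl.baseChange A z) = 0 ∧
        (LinearMap.snd R C C).baseChange A (incr.baseChange A z) = z := fun z => by
      induction z using TensorProduct.induction_on with
      | zero => simp
      | add x y hx hy => simp only [map_add, hx, hy, add_zero]; exact ⟨trivial, trivial⟩
      | tmul a y => simp [incl, incr]
    rw [ht', map_add, (h1 _).1, (h1 _).2, zero_add, map_sum, map_sum] at h
    rw [← h, map_sum, ← Finset.sum_coe_sort]
    refine Finset.sum_congr rfl fun i _ => ?_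
    rw [map_smul, cb_bcl, TensorProduct.smul_tmul', smul_eq_mul, mul_one]
    simp [ℓ']
  choose c hc using fun i j => even_central (goodPolar_of_goodMat (goodMat_of_isUnit_det (isUnit_det_polMat_of_isRegular b hQ)))
    ((htr i).2.1.mul_commutes (htr j).2.1).1 ((htr i).2.1.mul_commutes (htr j).2.1).2
  set J : Ideal R := Ideal.span (Set.range fun p : S × S => c p.1 p.2) with hJ
  have h1 : (1 : A) ∈ J.map (algebraMap R A) := by
    have e : ∑ i : S, ∑ j : S, i.1.1 * j.1.1 * algebraMap R A (c i j) = 1 := by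
      apply algebraMap_injective (baseChangeForm A Q)
      rw [map_one, ← hww, hw, Finset.sum_mul_sum, map_sum]
      refine Finset.sum_congr rfl fun i _ => ?_
      rw [map_sum]
      refine Finset.sum_congr rfl fun j _ => ?_
      rw [smul_mul_smul_comm, ← map_mul, ← hc, AlgHom.commutes, map_mul, ← IsScalarTower.algebraMap_apply,
        Algebra.smul_def]
    rw [← e]
    exact Ideal.sum_mem _ fun i _ => Ideal.sum_mem _ fun j _ =>
      Ideal.mul_mem_left _ _ (Ideal.mem_map_of_mem _ (Ideal.subset_span ⟨(i, j), rfl⟩))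
  have hJ' : (1 : R) ∈ J := by
    rw [← Ideal.comap_map_eq_self_of_faithfullyFlat (B := A) J]
    simpa using h1
  obtain ⟨r, hr⟩ := (Submodule.mem_span_range_iff_exists_fun R).1 hJ'
  let e := (Fintype.equivFin S).symm
  refine ⟨⟨Fintype.card S, fun i => x' (e i), fun i => ℓ' (e i), fun i => ∑ j, r (e i, j) • ℓ' j, fun i => htr _,
    fun i => AC.sum fun j _ => (htr j).2.1.smul _, ?_⟩⟩
  rw [e.sum_comp (fun i => ℓ' i * ∑ j, r (i, j) • ℓ' j)]
  rw [← map_one (algebraMap R C), ← hr, Fintype.sum_prod_type, map_sum]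
  refine Finset.sum_congr rfl fun i _ => ?_
  rw [Finset.mul_sum, map_sum]
  refine Finset.sum_congr rfl fun j _ => ?_
  rw [mul_smul_comm, smul_eq_mul, map_mul, hc, Algebra.smul_def]

end Groth.Agent.CliffSmooth
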