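import Mathlib.LinearAlgebra.CliffordAlgebra.Contraction
import Mathlib.LinearAlgebra.CliffordAlgebra.Conjugation
import Mathlib.LinearAlgebra.ExteriorAlgebra.Basis
import Mathlib.LinearAlgebra.QuadraticForm.Basis
import Mathlib.Tactic.NoncommRing
import Mathlib.Tactic.Module

/-!
# Contractions on exterior algebras and the linear structure of Clifford algebras over any ring
-/

set_option autoImplicit false

universe u v

namespace Groth.Agent.CliffSmooth

open CliffordAlgebra

variable {R : Type u} [CommRing R] {M : Type v} [AddCommGroup M] [Module R M]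

local notation "Λ" => ExteriorAlgebra R M

theorem mem_zero_iff {x : Λ} : x ∈ ⋀[R]^0 M ↔ ∃ r : R, algebraMap R Λ r = x := by
  change x ∈ (LinearMap.range (ExteriorAlgebra.ι R : M →ₗ[R] Λ)) ^ 0 ↔ _
  rw [pow_zero]
  exact Submodule.mem_one

theorem mem_one_iff {x : Λ} : x ∈ ⋀[R]^1 M ↔ ∃ m : M, ExteriorAlgebra.ι R m = x := by
  change x ∈ (LinearMap.range (ExteriorAlgebra.ι R : M →ₗ[R] Λ)) ^ 1 ↔ _
  rw [pow_one]
  exact LinearMap.mem_range

/-- The component of degree at least `k`. -/
noncomputable def tail (k : ℕ) : Λ →ₗ[R] Λ :=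
  LinearMap.id - ∑ i ∈ Finset.range k, GradedAlgebra.proj (fun i : ℕ => ⋀[R]^i M) i

theorem tail_of_mem {k i : ℕ} {x : Λ} (hx : x ∈ ⋀[R]^i M) :
    tail k x = if i < k then 0 else x := by
  classical
  have : ∀ j, GradedAlgebra.proj (fun i : ℕ => ⋀[R]^i M) j x = if j = i then x else 0 := by
    intro j
    change ((DirectSum.decompose (fun i : ℕ => ⋀[R]^i M) x j : ⋀[R]^j M) : Λ) = _
    by_cases h : j = i
    · subst h
      rw [if_pos rfl]
      exact DirectSum.decompose_of_mem_same (fun i : ℕ => ⋀[R]^i M) hx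
    · rw [if_neg h]
      exact DirectSum.decompose_of_mem_ne (fun i : ℕ => ⋀[R]^i M) hx (Ne.symm h)
  rw [tail, LinearMap.sub_apply, LinearMap.id_apply, LinearMap.sum_apply, Finset.sum_congr rfl fun j _ => this j,
    Finset.sum_ite_eq']
  by_cases h : i < k <;> simp [h]

theorem mem_range_of_mem_zero {x : Λ} (hx : x ∈ ⋀[R]^0 M) : ∃ r : R, x = algebraMap R Λ r := by
  obtain ⟨r, rfl⟩ := mem_zero_iff.1 hx
  exact ⟨r, rfl⟩

theorem contractLeft_mem (d : Module.Dual R M) (i : ℕ) {x : Λ} (hx : x ∈ ⋀[R]^(i + 1) M) :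
    contractLeft (Q := (0 : QuadraticForm R M)) d x ∈ ⋀[R]^i M := by
  induction i generalizing x with
  | zero =>
    obtain ⟨m, rfl⟩ := mem_one_iff.1 hx
    exact mem_zero_iff.2 ⟨d m, (contractLeft_ι (Q := (0 : QuadraticForm R M)) d m).symm⟩
  | succ i ih =>
    change x ∈ (LinearMap.range (ExteriorAlgebra.ι R : M →ₗ[R] Λ)) ^ (i + 1 + 1) at hx
    rw [pow_succ'] at hx
    refine Submodule.mul_induction_on hx ?_ fun a b ha hb => ?_
    · rintro a ⟨m, rfl⟩ b hb
      change contractLeft (Q := (0 : QuadraticForm R M)) d (ι _ m * b) ∈ _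
      rw [contractLeft_ι_mul]
      refine Submodule.sub_mem _ (Submodule.smul_mem _ _ hb) ?_
      change ExteriorAlgebra.ι R m * _ ∈ (LinearMap.range (ExteriorAlgebra.ι R : M →ₗ[R] Λ)) ^ (i + 1)
      rw [pow_succ']
      exact Submodule.mul_mem_mul (LinearMap.mem_range_self _ m) (ih hb)
    · rw [map_add]; exact Submodule.add_mem _ ha hb

theorem contractLeft_tail (d : Module.Dual R M) (k : ℕ) (x : Λ) :
    contractLeft (Q := (0 : QuadraticForm R M)) d (tail (k + 1) x) = tail k (contractLeft (Q := (0 : QuadraticForm R M)) d x) := by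
  induction x using DirectSum.Decomposition.inductionOn (fun i : ℕ => ⋀[R]^i M) with
  | zero => simp
  | add a b ha hb => simp only [map_add, ha, hb]
  | @homogeneous i m =>
    obtain ⟨x, hx⟩ := m
    rcases i with _ | i
    · obtain ⟨r, rfl⟩ := mem_range_of_mem_zero hx
      rw [tail_of_mem hx, if_pos (Nat.succ_pos k), map_zero]
      exact ((congrArg (tail k) (contractLeft_algebraMap (Q := (0 : QuadraticForm R M)) d r)).trans (map_zero _)).symm
    · rw [tail_of_mem hx, tail_of_mem (contractLeft_mem d i hx)]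
      by_cases h : i < k
      · rw [if_pos h, if_pos (by omega), map_zero]
      · rw [if_neg h, if_neg (by omega)]

theorem tail_algebraMap (k : ℕ) (r : R) : tail (k + 1) (algebraMap R Λ r) = 0 := by
  rw [tail_of_mem (i := 0) (mem_zero_iff.2 ⟨r, rfl⟩), if_pos (Nat.succ_pos k)]

theorem tail_ι (k : ℕ) (m : M) : tail (k + 2) (ExteriorAlgebra.ι R m) = 0 := by
  rw [tail_of_mem (i := 1) (mem_one_iff.2 ⟨m, rfl⟩), if_pos (by omega)]

theorem tail_tail (j k : ℕ) (x : Λ) : tail j (tail k x) = tail (max j k) x := by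
  induction x using DirectSum.Decomposition.inductionOn (fun i : ℕ => ⋀[R]^i M) with
  | zero => simp
  | add a b ha hb => simp only [map_add, ha, hb]
  | @homogeneous i m =>
    obtain ⟨x, hx⟩ := m
    rw [tail_of_mem hx, tail_of_mem (k := max j k) hx]
    by_cases h : i < k
    · rw [if_pos h, map_zero, if_pos (by omega)]
    · rw [if_neg h, tail_of_mem hx]
      by_cases h' : i < j
      · rw [if_pos h', if_pos (by omega)]
      · rw [if_neg h', if_neg (by omega)]

/-- An element of the exterior algebra annihilated by all contractions is a scalar. -/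
theorem eq_algebraMap_of_contractLeft_eq_zero {ι' : Type*} [Fintype ι'] (b : Module.Basis ι' R M) (x : Λ)
    (h : ∀ d, contractLeft (Q := (0 : QuadraticForm R M)) d x = 0) :
    x = algebraMap R Λ (ExteriorAlgebra.algebraMapInv x) := by
  classical
  -- removing one basis vector
  have hT : ∀ (k : ι') (y : Λ), ExteriorAlgebra.map (LinearMap.id - (b.coord k).smulRight (b k)) y =
      y - ExteriorAlgebra.ι R (b k) * contractLeft (Q := (0 : QuadraticForm R M)) (b.coord k) y := by
    intro k y
    induction y using CliffordAlgebra.left_induction with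
    | algebraMap r => rw [AlgHom.commutes, contractLeft_algebraMap, mul_zero, sub_zero]
    | add a c ha hc => rw [map_add, map_add, ha, hc, mul_add]; abel
    | ι_mul a m ha =>
      rw [map_mul, ha]
      change ExteriorAlgebra.map _ (ExteriorAlgebra.ι R m) * _ = _
      rw [ExteriorAlgebra.map_apply_ι, contractLeft_ι_mul]
      simp only [LinearMap.sub_apply, LinearMap.id_apply, LinearMap.smulRight_apply, map_sub, map_smul]
      have hs : ∀ z : Λ, ExteriorAlgebra.ι R (b k) * (ExteriorAlgebra.ι R (b k) * z) = 0 := fun z => by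
        rw [← mul_assoc, ExteriorAlgebra.ι_sq_zero, zero_mul]
      have hc : ∀ z : Λ, ExteriorAlgebra.ι R m * (ExteriorAlgebra.ι R (b k) * z) =
          -(ExteriorAlgebra.ι R (b k) * (ExteriorAlgebra.ι R m * z)) := fun z => by
        rw [← mul_assoc, ← mul_assoc, ← neg_mul]
        exact congrArg (· * z) (eq_neg_of_add_eq_zero_left (ExteriorAlgebra.ι_add_mul_swap _ _))
      change _ = ExteriorAlgebra.ι R m * a - ExteriorAlgebra.ι R (b k) * _
      simp only [sub_mul, smul_mul_assoc, mul_sub, mul_smul_comm, hs, hc, smul_zero]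
      change _ = _ - (_ - ExteriorAlgebra.ι R (b k) * (ExteriorAlgebra.ι R m * _))
      abel
  have hfix : ∀ s : Finset ι', ExteriorAlgebra.map (LinearMap.id - ∑ k ∈ s, (b.coord k).smulRight (b k)) x = x := by
    intro s
    induction s using Finset.induction_on with
    | empty => simp
    | @insert k s hk ih =>
      have : (LinearMap.id - ∑ l ∈ insert k s, (b.coord l).smulRight (b l) : M →ₗ[R] M) =
          (LinearMap.id - (b.coord k).smulRight (b k)).comp (LinearMap.id - ∑ l ∈ s, (b.coord l).smulRight (b l)) := by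
        refine b.ext fun i => ?_
        rw [Finset.sum_insert hk]
        by_cases hi : i = k
        · subst hi
          simp [Finsupp.single_apply, hk]
        · by_cases his : i ∈ s
          · simp [Finsupp.single_apply, hi, his]
          · simp [Finsupp.single_apply, hi, his]
      rw [this, ← ExteriorAlgebra.map_comp_map, AlgHom.comp_apply, ih, hT, h, mul_zero, sub_zero]
  have h0 := hfix Finset.univ
  have hid : (LinearMap.id - ∑ k, (b.coord k).smulRight (b k) : M →ₗ[R] M) = 0 := by
    refine b.ext fun i => ?_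
    simp [Finsupp.single_apply]
  rw [hid] at h0
  have hm : (ExteriorAlgebra.map (0 : M →ₗ[R] M)) = (Algebra.ofId R Λ).comp ExteriorAlgebra.algebraMapInv :=
    ExteriorAlgebra.hom_ext (LinearMap.ext fun m => by simp [ExteriorAlgebra.algebraMapInv])
  conv_lhs => rw [← h0, hm]
  rfl

end Groth.Agent.CliffSmooth
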