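import Groth.Agent.CliffSmooth.OddCentre

/-!
# Factorisation of the naive Clifford group in odd rank
-/

set_option autoImplicit false

universe u v

namespace Groth.Agent.CliffSmooth

open CliffordAlgebra QuadGrp

variable {R : Type u} [CommRing R] {M : Type v} [AddCommGroup M] [Module R M] [Module.Free R M]
  {Q : QuadraticForm R M} {m : ℕ}

/-- The parity parts of a normalising unit are translates of it by central elements. -/
theorem par_central {u : (CliffordAlgebra Q)ˣ} (hu : u ∈ GPin' Q) (i : ZMod 2) (v : M) :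
    ι Q v * ((↑u⁻¹ : CliffordAlgebra Q) * par Q i (u : CliffordAlgebra Q)) =
      ((↑u⁻¹ : CliffordAlgebra Q) * par Q i (u : CliffordAlgebra Q)) * ι Q v := by
  obtain ⟨w, hw⟩ := ((mem_GPin'_iff u).1 hu).1 v
  have h1 : (u : CliffordAlgebra Q) * ι Q v = ι Q w * u := by rw [hw]; simp [mul_assoc]
  have hp := congrArg (par Q (i + 1)) h1
  rw [(par_mul_ι (Q := Q) i _ _).1, (par_mul_ι (Q := Q) i _ _).2] at hp
  have h2 : ι Q v * (↑u⁻¹ : CliffordAlgebra Q) = ↑u⁻¹ * ι Q w := by
    calc ι Q v * (↑u⁻¹ : CliffordAlgebra Q) = ↑u⁻¹ * ((u : CliffordAlgebra Q) * ι Q v) * ↑u⁻¹ := by simp [← mul_assoc]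
      _ = _ := by rw [h1]; simp [mul_assoc]
  rw [← mul_assoc, h2, mul_assoc, ← hp, mul_assoc]

/-- Multiplying by a central unit preserves the naive Clifford group. -/
theorem mul_central_mem {u : (CliffordAlgebra Q)ˣ} (hu : u ∈ GPin' Q) {t : (CliffordAlgebra Q)ˣ}
    (ht : ∀ y, y * (t : CliffordAlgebra Q) = t * y) : u * t ∈ GPin' Q := by
  refine Subgroup.mul_mem _ hu ((mem_GPin'_iff t).2 ⟨fun v => ⟨v, ?_⟩, fun v => ⟨v, ?_⟩⟩)
  · rw [← ht, mul_assoc, Units.mul_inv, mul_one]
  · rw [mul_assoc, ht, ← mul_assoc, Units.inv_mul, one_mul]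

/-- Over a local ring a normalising unit is central times even. -/
theorem exists_factor [IsLocalRing R] {z : CliffordAlgebra Q} {c : R} (hcom : ∀ y, y * z = z * y)
    (hz1 : z ∈ evenOdd Q 1) (hzu : IsUnit z) (hcu : IsUnit c) (hc : algebraMap R _ c = z * z)
    (hspan : ∀ x : CliffordAlgebra Q, (∀ v, ι Q v * x = x * ι Q v) → ∃ r s : R, x = algebraMap R _ r + s • z)
    (u : (CliffordAlgebra Q)ˣ) (hu : u ∈ GPin' Q) :
    ∃ t : CliffordAlgebra Q, t ∈ Subalgebra.center R (CliffordAlgebra Q) ∧ IsUnit t ∧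
      ∃ w ∈ GSpin Q, (u : CliffordAlgebra Q) = t * w := by
  let x := fun i => (↑u⁻¹ : CliffordAlgebra Q) * par Q i (u : CliffordAlgebra Q)
  obtain ⟨r0, s0, h0⟩ := hspan (x 0) (par_central hu 0)
  have hcx : ∀ (r s : R) (y : CliffordAlgebra Q),
      y * (algebraMap R _ r + s • z) = (algebraMap R _ r + s • z) * y := fun r s y => by
    rw [mul_add, add_mul, Algebra.commutes r y, mul_smul_comm, smul_mul_assoc, hcom]
  have hN : ∀ r s : R, (algebraMap R (CliffordAlgebra Q) r + s • z) * (algebraMap R _ r - s • z) =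
      algebraMap R _ (r ^ 2 - c * s ^ 2) := fun r s => by
    rw [add_mul, mul_sub, mul_sub, smul_mul_smul_comm, ← hc, Algebra.commutes r (s • z), map_sub, pow_two, pow_two,
      mul_comm c, map_mul, Algebra.smul_def (s * s), map_mul _ (s * s) c]
    abel
  have hunit : ∀ r s : R, IsUnit (r ^ 2 - c * s ^ 2) → IsUnit (algebraMap R (CliffordAlgebra Q) r + s • z) := by
    intro r s h
    obtain ⟨q, hq⟩ := h.map (algebraMap R (CliffordAlgebra Q))
    have e1 := hN r s
    rw [← hq] at e1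
    have e2 : (algebraMap R (CliffordAlgebra Q) r - s • z) * (algebraMap R _ r + s • z) = ↑q := by
      rw [hcx r s]; exact e1
    refine ⟨⟨_, (algebraMap R _ r - s • z) * ↑q⁻¹, by rw [← mul_assoc, e1, Units.mul_inv], ?_⟩, rfl⟩
    rw [mul_assoc, show (↑q⁻¹ : CliffordAlgebra Q) * (algebraMap R _ r + s • z) = (algebraMap R _ r + s • z) * ↑q⁻¹ from
      hcx r s _, ← mul_assoc, e2, Units.mul_inv]
  -- the even intertwiner
  suffices h : ∃ t : (CliffordAlgebra Q)ˣ, (∀ y, y * (t : CliffordAlgebra Q) = t * y) ∧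
      (u : CliffordAlgebra Q) * t ∈ evenOdd Q 0 by
    obtain ⟨t, ht, he⟩ := h
    have ht' : ∀ y, y * (↑t⁻¹ : CliffordAlgebra Q) = ↑t⁻¹ * y := fun y => by
      calc y * (↑t⁻¹ : CliffordAlgebra Q) = ↑t⁻¹ * ((t : CliffordAlgebra Q) * y) * ↑t⁻¹ := by simp [← mul_assoc]
        _ = _ := by rw [← ht]; simp [mul_assoc]
    refine ⟨↑t⁻¹, Subalgebra.mem_center_iff.2 ht', ⟨t⁻¹, rfl⟩, u * t, ⟨⟨mul_central_mem hu ht, ?_⟩, ?_⟩, ?_⟩
    · exact ⟨1, IsIdempotentElem.one, by rw [one_smul]; exact he, by rw [sub_self, zero_smul]; exact Submodule.zero_mem _⟩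
    · exact he
    · rw [Units.val_mul, ← ht', mul_assoc, Units.mul_inv, mul_one]
  by_cases hr : IsUnit (r0 ^ 2 - c * s0 ^ 2)
  · obtain ⟨t, ht⟩ := hunit r0 s0 hr
    refine ⟨t, fun y => by rw [ht, hcx], ?_⟩
    rw [ht, ← h0]
    simp only [x, Units.mul_inv_cancel_left]
    exact par_mem Q 0 _
  · -- the other part is a unit
    have hx1 : x 1 = algebraMap R _ (1 - r0) + (-s0) • z := by
      have : x 0 + x 1 = 1 := by
        simp only [x, ← mul_add, par_add_par, Units.inv_mul]
      rw [map_sub, map_one, neg_smul, eq_sub_of_add_eq' this, h0]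
      abel
    have hkey : 2 * (r0 ^ 2 - c * s0 ^ 2) = 2 * r0 := by
      have hu1 : par Q 1 (u : CliffordAlgebra Q) = (u : CliffordAlgebra Q) - par Q 0 (u : CliffordAlgebra Q) := by
        rw [eq_sub_iff_add_eq, add_comm, par_add_par]
      have e0 : par Q 0 (u : CliffordAlgebra Q) = (u : CliffordAlgebra Q) * (algebraMap R _ r0 + s0 • z) := by
        rw [← h0]; simp [x]
      have hi : par Q 0 (u : CliffordAlgebra Q) =
          involute (u : CliffordAlgebra Q) * (algebraMap R _ r0 - s0 • z) := by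
        conv_lhs => rw [← involute_eq_of_mem_even (par_mem Q 0 _), e0, map_mul, map_add, AlgHom.commutes, map_smul,
          involute_eq_of_mem_odd hz1, smul_neg, ← sub_eq_add_neg]
      have hinv : involute (u : CliffordAlgebra Q) = par Q 0 (u : CliffordAlgebra Q) - par Q 1 (u : CliffordAlgebra Q) := by
        conv_lhs => rw [← par_add_par Q (u : CliffordAlgebra Q), map_add, involute_eq_of_mem_even (par_mem Q 0 _),
          involute_eq_of_mem_odd (par_mem Q 1 _), ← sub_eq_add_neg]
      rw [hinv, hu1, e0] at hi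
      have h3 := congrArg (fun y => (↑u⁻¹ : CliffordAlgebra Q) * y) hi
      simp only [Units.inv_mul_cancel_left, mul_sub, ← mul_assoc, Units.inv_mul, one_mul, sub_mul, hN] at h3
      have h4 : algebraMap R (CliffordAlgebra Q) (r0 + r0) =
          algebraMap R _ (r0 ^ 2 - c * s0 ^ 2) + algebraMap R _ (r0 ^ 2 - c * s0 ^ 2) := by
        rw [← hN r0 s0, map_add, mul_sub]
        calc algebraMap R (CliffordAlgebra Q) r0 + algebraMap R _ r0
            = (algebraMap R _ r0 + s0 • z) + (algebraMap R _ r0 - s0 • z) := by abel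
          _ = _ := by
            conv_lhs => arg 1; rw [h3]
            abel
      rw [← map_add] at h4
      rw [two_mul, two_mul]
      exact (algebraMap_injective Q h4).symm
    have hr' : IsUnit ((1 - r0) ^ 2 - c * (-s0) ^ 2) := by
      by_contra hcon
      have m0 := (IsLocalRing.mem_maximalIdeal _).2 (show r0 ^ 2 - c * s0 ^ 2 ∈ nonunits R from hr)
      have m1 := (IsLocalRing.mem_maximalIdeal _).2 (show (1 - r0) ^ 2 - c * (-s0) ^ 2 ∈ nonunits R from hcon)
      have e : (1 : R) = ((1 - r0) ^ 2 - c * (-s0) ^ 2) + (r0 ^ 2 - c * s0 ^ 2) := by linear_combination -hkey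
      exact (IsLocalRing.maximalIdeal.isMaximal R).ne_top ((Ideal.eq_top_iff_one _).2 (e ▸ Ideal.add_mem _ m1 m0))
    obtain ⟨t, ht⟩ := hunit _ _ hr'
    obtain ⟨zu, hzu⟩ := hzu
    refine ⟨t * zu, fun y => by rw [Units.val_mul, ← mul_assoc, ht, hzu, hcx, mul_assoc, hcom, ← mul_assoc], ?_⟩
    rw [Units.val_mul, ht, hzu, ← mul_assoc, ← hx1]
    simp only [x, Units.mul_inv_cancel_left]
    have := SetLike.mul_mem_graded (par_mem Q 1 (u : CliffordAlgebra Q)) hz1
    rwa [show (1 : ZMod 2) + 1 = 0 from rfl] at this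

/-- In rank three modulo four with two invertible, norm one forces local homogeneity. -/
theorem pin_eq_pin' [Invertible (2 : R)] (hm : Odd m) (b : Module.Basis (Fin (2 * m + 1)) R M)
    (hQ : IsSemiregular b (LinearEquiv.refl R R) Q) : Pin Q = Pin' Q := by
  refine le_antisymm (fun u hu => ⟨hu.1.1, hu.2⟩) fun u hu => ⟨⟨hu.1, ?_⟩, hu.2⟩
  have hn : star (u : CliffordAlgebra Q) * u = 1 := hu.2
  have hus : (↑u⁻¹ : CliffordAlgebra Q) = star (u : CliffordAlgebra Q) := by
    rw [← mul_one (star (u : CliffordAlgebra Q)), ← Units.mul_inv u, ← mul_assoc, hn, one_mul]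
  have hg : GoodPolar Q b := goodPolar_of_goodMat (goodMat_of_isSemiregular (odd_two_mul_add_one m) b hQ)
  set u0 := par Q 0 (u : CliffordAlgebra Q)
  set u1 := par Q 1 (u : CliffordAlgebra Q)
  set x := (↑u⁻¹ : CliffordAlgebra Q) * u0
  have hxc : ∀ v, ι Q v * x = x * ι Q v := par_central hu.1 0
  have hcp : ∀ i v, ι Q v * par Q i x = par Q i x * ι Q v := fun i v => by
    rw [← (par_mul_ι (Q := Q) i x v).1, ← (par_mul_ι (Q := Q) i x v).2, hxc]
  obtain ⟨e, he⟩ := even_central hg (par_mem Q 0 x) (hcp 0)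
  have hs1 : star (par Q 1 x) = par Q 1 x := by
    rw [star_odd_central' b hQ (par_mem Q 1 x) (hcp 1), (hm.add_one).neg_one_pow, one_smul]
  -- the odd part of `x` is `star u1 * u0`
  have hp : par Q 0 x = star u0 * u0 ∧ par Q 1 x = star u1 * u0 := by
    have hx : x = star u0 * u0 + star u1 * u0 := by
      simp only [x, hus, u0, u1]
      rw [← add_mul, ← star_add, par_add_par]
    have a0 := SetLike.mul_mem_graded (star_mem_evenOdd (par_mem Q 0 (u : CliffordAlgebra Q))) (par_mem Q 0 (u : CliffordAlgebra Q))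
    have a1 := SetLike.mul_mem_graded (star_mem_evenOdd (par_mem Q 1 (u : CliffordAlgebra Q))) (par_mem Q 0 (u : CliffordAlgebra Q))
    rw [add_zero] at a0 a1
    constructor
    · rw [hx, map_add, par_of_mem Q a0, par_of_mem_ne Q a1 (by decide), add_zero]
    · rw [hx, map_add, par_of_mem_ne Q a0 (by decide), par_of_mem Q a1, zero_add]
  have hodd : star u0 * u1 + star u1 * u0 = 0 := by
    have e1 : par Q 1 (star (u : CliffordAlgebra Q) * u) = 0 := by
      rw [hn]; exact par_of_mem_ne Q (SetLike.one_mem_graded _) (by decide)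
    rw [← par_add_par Q (u : CliffordAlgebra Q), star_add, add_mul, mul_add, mul_add, map_add, map_add, map_add] at e1
    have a00 := SetLike.mul_mem_graded (star_mem_evenOdd (par_mem Q 0 (u : CliffordAlgebra Q))) (par_mem Q 0 (u : CliffordAlgebra Q))
    have a01 := SetLike.mul_mem_graded (star_mem_evenOdd (par_mem Q 0 (u : CliffordAlgebra Q))) (par_mem Q 1 (u : CliffordAlgebra Q))
    have a10 := SetLike.mul_mem_graded (star_mem_evenOdd (par_mem Q 1 (u : CliffordAlgebra Q))) (par_mem Q 0 (u : CliffordAlgebra Q))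
    have a11 := SetLike.mul_mem_graded (star_mem_evenOdd (par_mem Q 1 (u : CliffordAlgebra Q))) (par_mem Q 1 (u : CliffordAlgebra Q))
    rw [par_of_mem_ne Q a00 (by decide), par_of_mem Q (show _ ∈ evenOdd Q 1 from a01),
      par_of_mem Q (show _ ∈ evenOdd Q 1 from a10), par_of_mem_ne Q a11 (by decide), zero_add, add_zero] at e1
    exact e1
  have h10 : par Q 1 x = 0 := by
    have h2 : (2 : R) • par Q 1 x = 0 := by
      rw [two_smul]
      nth_rewrite 1 [← hs1]
      rw [hp.2, star_mul, star_star, hodd]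
    rw [← one_smul R (par Q 1 x), ← invOf_mul_self (2 : R), mul_smul, h2, smul_zero]
  have hxe : x = algebraMap R _ e := by rw [← par_add_par Q x, h10, add_zero, he]
  have h0 : e • (u : CliffordAlgebra Q) = u0 := by
    rw [Algebra.smul_def, Algebra.commutes, ← hxe]; simp [x]
  have h01 : (1 - e) • (u : CliffordAlgebra Q) = u1 := by
    rw [sub_smul, one_smul, h0]
    simp only [u0, u1]
    nth_rewrite 1 [← par_add_par Q (u : CliffordAlgebra Q)]
    abel
  refine ⟨e, ?_, h0 ▸ par_mem Q 0 _, h01 ▸ par_mem Q 1 _⟩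
  have hz : (e * (1 - e)) • (u : CliffordAlgebra Q) = 0 := by
    have b0 : (e * (1 - e)) • (u : CliffordAlgebra Q) ∈ evenOdd Q 0 := by
      rw [mul_comm, mul_smul, h0]; exact Submodule.smul_mem _ _ (par_mem Q 0 _)
    have b1 : (e * (1 - e)) • (u : CliffordAlgebra Q) ∈ evenOdd Q 1 := by
      rw [mul_smul, h01]; exact Submodule.smul_mem _ _ (par_mem Q 1 _)
    exact (par_of_mem Q b0).symm.trans (par_of_mem_ne Q b1 (by decide))
  have hz' : e * (1 - e) = 0 := by
    apply algebraMap_injective Q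
    rw [map_zero, Algebra.algebraMap_eq_smul_one, ← Units.mul_inv u, ← smul_mul_assoc, hz, zero_mul]
  change e * e = e
  linear_combination -hz'

end Groth.Agent.CliffSmooth
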