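import Groth.Agent.CliffSmooth.EvenRank
import Groth.Agent.CliffSmooth.Splitting
import Groth.Agent.CliffSmooth.HypRep
import Mathlib.LinearAlgebra.CliffordAlgebra.EvenEquiv
import Mathlib.LinearAlgebra.Matrix.Permutation

/-!
# The Clifford algebra of a fully framed semiregular form
-/

set_option autoImplicit false

universe u

namespace Groth.Agent.CliffSmooth

open CliffordAlgebra QuadGrp

variable {A : Type u} [CommRing A] {V : Type u} [AddCommGroup V] [Module A V] {q : QuadraticForm A V} {m : ℕ}

/-- Index type of a full frame. -/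
abbrev FIdx (m : ℕ) := Option (Fin m ⊕ Fin m)

/-- The vectors of a full frame. -/
def FullFrame.vec (F : FullFrame q m) : FIdx m → V
  | none => F.v
  | some (Sum.inl i) => F.e i
  | some (Sum.inr i) => F.f i

/-- The swap of hyperbolic partners. -/
def partner (m : ℕ) : FIdx m → FIdx m := Option.map Sum.swap

theorem partner_partner (a : FIdx m) : partner m (partner m a) = a := by
  rcases a with _ | (a | a) <;> rfl

theorem FullFrame.polar_vec (F : FullFrame q m) (a c : FIdx m) :
    QuadraticMap.polar q (F.vec a) (F.vec c) = if c = partner m a then (if a = none then 2 else 1) else 0 := by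
  rcases a with _ | (i | i) <;> rcases c with _ | (j | j) <;>
    simp [FullFrame.vec, partner, QuadraticMap.polar_self, F.qv, F.ve, F.vf, F.ee, F.ff, F.ef,
      QuadraticMap.polar_comm q (F.e _) F.v, QuadraticMap.polar_comm q (F.f _) F.v,
      QuadraticMap.polar_comm q (F.f _) (F.e _), eq_comm]

/-- The vectors of a full frame form a basis. -/
theorem FullFrame.exists_basis (F : FullFrame q m) (b : Module.Basis (Fin (2 * m + 1)) A V)
    (hq : IsSemiregular b (LinearEquiv.refl A A) q) : ∃ fb : Module.Basis (FIdx m) A V, ∀ a, fb a = F.vec a := by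
  classical
  let σ : Fin (2 * m + 1) ≃ FIdx m := Fintype.equivOfCardEq (by simp [two_mul])
  let g : V →ₗ[A] V := b.constr A (F.vec ∘ σ)
  have hgb : ∀ l, g (b l) = F.vec (σ l) := fun l => by simp [g]
  set c := coeffs b (LinearEquiv.refl A A) (q.comp g)
  set i := σ.symm none
  have hc : ∀ j l, c (Sym2.mk j l) = if j = l then (if j = i then 1 else 0)
      else (if σ l = partner m (σ j) then 1 else 0) := by
    intro j l
    simp only [c, coeffs_mk, LinearEquiv.refl_apply, QuadraticMap.comp_apply]
    by_cases h : j = l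
    · subst h
      rw [if_pos rfl, if_pos rfl, hgb]
      rcases hj : σ j with _ | (a | a)
      · simp [i, ← hj, FullFrame.vec, F.qv]
      · have hne : j ≠ i := fun e => by simp [e, i] at hj
        simp [hne, FullFrame.vec, F.qe]
      · have hne : j ≠ i := fun e => by simp [e, i] at hj
        simp [hne, FullFrame.vec, F.qf]
    · rw [if_neg h, if_neg h]
      have : QuadraticMap.polar (q.comp g) (b j) (b l) = QuadraticMap.polar q (g (b j)) (g (b l)) := by
        simp [QuadraticMap.polar, map_add]
      rw [this, hgb, hgb, F.polar_vec]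
      by_cases hp : σ l = partner m (σ j)
      · rw [if_pos hp, if_pos hp, if_neg]
        intro hj
        rw [hj] at hp
        exact h (σ.injective (hj.trans (hp.trans rfl).symm))
      · rw [if_neg hp, if_neg hp]
  have hh : IsUnit (OrthSmooth.hd (QuadHalfDisc.co (QuadHalfDisc.up c))) := by
    rw [OrthSmooth.hd_block (odd_two_mul_add_one m) i]
    · have h1 : QuadHalfDisc.up c i i = 1 := by simp [QuadHalfDisc.up, hc]
      rw [h1, one_mul, Matrix.adjugate_apply]
      set P := (QuadHalfDisc.up c + (QuadHalfDisc.up c).transpose).updateRow i (Pi.single i 1)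
      let π : Fin (2 * m + 1) → Fin (2 * m + 1) := fun j => σ.symm (partner m (σ j))
      have hP : P = Matrix.of fun j l => if l = π j then (1 : A) else 0 := by
        ext j l
        by_cases hj : j = i
        · subst hj
          simp only [P, Matrix.updateRow_self, Matrix.of_apply, π, i, Equiv.apply_symm_apply]
          simp [partner, Pi.single_apply]
        · have hσ : σ j ≠ none := fun e => hj (by simp [i, ← e])
          have hjl : (QuadHalfDisc.up c + (QuadHalfDisc.up c).transpose) j l =
              if j = l then 2 * c (Sym2.mk j j) else c (Sym2.mk j l) := by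
            rcases lt_trichotomy j l with h | h | h
            · simp [QuadHalfDisc.up, h.le, h.not_ge, h.ne]
            · subst h; simp [QuadHalfDisc.up, two_mul]
            · simp [QuadHalfDisc.up, h.le, h.not_ge, h.ne', Sym2.eq_swap]
          simp only [P, Matrix.updateRow_ne hj, Matrix.of_apply, hjl, π, hc]
          by_cases h : j = l
          · subst h
            have : j ≠ σ.symm (partner m (σ j)) := fun e => by
              have e' := congrArg σ e
              rw [Equiv.apply_symm_apply] at e'
              rcases hh' : σ j with _ | (a | a)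
              · exact hσ hh'
              · rw [hh'] at e'; simp [partner] at e'
              · rw [hh'] at e'; simp [partner] at e'
            simp [hj, this]
          · simp [h, Equiv.eq_symm_apply]
      have hinv : P * P = 1 := by
        rw [hP]
        ext j l
        simp only [Matrix.mul_apply, Matrix.of_apply, ite_mul, one_mul, zero_mul, Finset.sum_ite_eq', Finset.mem_univ,
          if_true, Matrix.one_apply]
        simp [π, partner_partner, eq_comm]
      exact IsUnit.of_mul_eq_one P.det (by rw [← Matrix.det_mul, hinv, Matrix.det_one])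
    · intro l hl
      simp only [QuadHalfDisc.up, Matrix.of_apply, hc, if_neg (Ne.symm hl)]
      have : ¬ σ l = partner m (σ i) := by
        simp only [i, Equiv.apply_symm_apply, partner, Option.map_none]
        exact fun e => hl (by simp [i, ← e])
      simp [this]
    · intro l hl
      simp only [QuadHalfDisc.up, Matrix.of_apply, hc, if_neg hl]
      have : ¬ σ i = partner m (σ l) := by
        intro e
        have := congrArg (partner m) e
        rw [partner_partner] at this
        simp only [i, Equiv.apply_symm_apply, partner, Option.map_none] at this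
        exact hl (by simp [i, this])
      simp [this]
  rw [QuadHalfDisc.co_up] at hh
  have hcomp := QuadHalfDisc.halfDisc_comp (odd_two_mul_add_one m) b q g
  have hdet : IsUnit (LinearMap.det g) := by
    have h : IsUnit (LinearMap.det g ^ 2 * halfDisc b (LinearEquiv.refl A A) q) := hcomp ▸ hh
    exact (isUnit_pow_iff two_ne_zero).1 (isUnit_of_mul_isUnit_left h)
  haveI : Module.Free A V := Module.Free.of_basis b
  haveI : Module.Finite A V := Module.Finite.of_basis b
  have hbij : IsUnit (LinearMap.toMatrix b b g).det := by rwa [LinearMap.det_toMatrix]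
  let ge := LinearEquiv.ofIsUnitDet hbij
  refine ⟨(b.map ge).reindex σ, fun a => ?_⟩
  simp [ge, LinearEquiv.ofIsUnitDet, hgb]

section Central

variable [Module.Free A V]

/-- The involution attached to a pair. -/
noncomputable def FullFrame.pairInv (F : FullFrame q m) (i : Fin m) : CliffordAlgebra q :=
  ι q (F.e i) * ι q (F.f i) - ι q (F.f i) * ι q (F.e i)

omit [Module.Free A V] in
theorem FullFrame.pairInv_spec (F : FullFrame q m) (i : Fin m) :
    F.pairInv i * ι q (F.e i) = -(ι q (F.e i) * F.pairInv i) ∧
    F.pairInv i * ι q (F.f i) = -(ι q (F.f i) * F.pairInv i) ∧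
    F.pairInv i * F.pairInv i = 1 ∧ star (F.pairInv i) = -F.pairInv i ∧ F.pairInv i ∈ evenOdd q 0 := by
  set e := ι q (F.e i) with he
  set f := ι q (F.f i) with hf
  have hee : e * e = 0 := by rw [he, ι_sq_scalar, F.qe, map_zero]
  have hff : f * f = 0 := by rw [hf, ι_sq_scalar, F.qf, map_zero]
  have hef : f * e = 1 - e * f := by
    rw [eq_sub_iff_add_eq, add_comm, he, hf, ι_mul_ι_add_swap, F.ef, if_pos rfl, map_one]
  have k1 : ∀ z, e * (e * z) = 0 := fun z => by rw [← mul_assoc, hee, zero_mul]
  have k2 : ∀ z, f * (f * z) = 0 := fun z => by rw [← mul_assoc, hff, zero_mul]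
  have k3 : ∀ z, f * (e * z) = z - e * (f * z) := fun z => by rw [← mul_assoc, hef, sub_mul, one_mul, mul_assoc]
  refine ⟨?_, ?_, ?_, ?_, ?_⟩
  · simp only [FullFrame.pairInv, ← he, ← hf, sub_mul, mul_sub, mul_assoc, hee, hef, k1, k2, k3, mul_zero, mul_one, one_mul]
    abel
  · simp only [FullFrame.pairInv, ← he, ← hf, sub_mul, mul_sub, mul_assoc, hff, hef, k1, k2, k3, mul_zero, mul_one, one_mul]
    abel
  · simp only [FullFrame.pairInv, ← he, ← hf, sub_mul, mul_sub, mul_assoc, hee, hff, hef, k1, k2, k3, mul_zero, mul_one, one_mul]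
    abel
  · rw [FullFrame.pairInv, star_sub, star_mul, star_mul, CliffordAlgebra.star_ι, CliffordAlgebra.star_ι, neg_mul_neg,
      neg_mul_neg, neg_sub]
  · exact Submodule.sub_mem _ (ι_mul_ι_mem_evenOdd_zero q _ _) (ι_mul_ι_mem_evenOdd_zero q _ _)

omit [Module.Free A V] in
theorem FullFrame.pairInv_comm (F : FullFrame q m) (i : Fin m) {x : V}
    (he : QuadraticMap.polar q (F.e i) x = 0) (hf : QuadraticMap.polar q (F.f i) x = 0) :
    F.pairInv i * ι q x = ι q x * F.pairInv i := by
  have h1 : ι q (F.e i) * ι q x = -(ι q x * ι q (F.e i)) := eq_neg_of_add_eq_zero_left (by rw [ι_mul_ι_add_swap, he, map_zero])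
  have h2 : ι q (F.f i) * ι q x = -(ι q x * ι q (F.f i)) := eq_neg_of_add_eq_zero_left (by rw [ι_mul_ι_add_swap, hf, map_zero])
  have k : ∀ a c x : CliffordAlgebra q, a * x = -(x * a) → c * x = -(x * c) → a * c * x = x * (a * c) := by
    intro a c x ha hc
    rw [mul_assoc, hc, mul_neg, ← mul_assoc, ha, neg_mul, neg_neg, mul_assoc]
  rw [FullFrame.pairInv, sub_mul, mul_sub, k _ _ _ h1 h2, k _ _ _ h2 h1]

omit [Module.Free A V] in
/-- The product of the involutions of a list of pairs. -/
theorem FullFrame.prod_spec (F : FullFrame q m) : ∀ l : List (Fin m), l.Nodup →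
    (l.map F.pairInv).prod ∈ evenOdd q 0 ∧
    (∀ i ∈ l, (l.map F.pairInv).prod * ι q (F.e i) = -(ι q (F.e i) * (l.map F.pairInv).prod) ∧
      (l.map F.pairInv).prod * ι q (F.f i) = -(ι q (F.f i) * (l.map F.pairInv).prod)) ∧
    (∀ x : V, (∀ i ∈ l, QuadraticMap.polar q (F.e i) x = 0 ∧ QuadraticMap.polar q (F.f i) x = 0) →
      (l.map F.pairInv).prod * ι q x = ι q x * (l.map F.pairInv).prod) ∧
    (l.map F.pairInv).prod * (l.map F.pairInv).prod = 1 ∧
    star (l.map F.pairInv).prod = ((-1 : A) ^ l.length) • (l.map F.pairInv).prod := by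
  intro l
  induction l with
  | nil => intro _; exact ⟨by simpa using SetLike.one_mem_graded (evenOdd q), by simp, by simp, by simp, by simp⟩
  | cons a l ih =>
    intro hnd
    obtain ⟨ha, hl⟩ := List.nodup_cons.1 hnd
    obtain ⟨i0, ianti, icomm, isq, istar⟩ := ih hl
    simp only [List.map_cons, List.prod_cons, List.length_cons]
    set P := (l.map F.pairInv).prod
    obtain ⟨ae, af, asq, astar, a0⟩ := F.pairInv_spec a
    have hne : ∀ i ∈ l, i ≠ a := fun i hi e => ha (e ▸ hi)
    have hPe : P * ι q (F.e a) = ι q (F.e a) * P :=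
      icomm _ fun i hi => ⟨F.ee i a, by rw [F.fe, if_neg (hne i hi).symm]⟩
    have hPf : P * ι q (F.f a) = ι q (F.f a) * P :=
      icomm _ fun i hi => ⟨by rw [F.ef, if_neg (hne i hi)], F.ff i a⟩
    have hPH : P * F.pairInv a = F.pairInv a * P := by
      have hp : ∀ x y : CliffordAlgebra q, P * x = x * P → P * y = y * P → P * (x * y) = x * y * P := fun x y hx hy => by
        rw [← mul_assoc, hx, mul_assoc, hy, ← mul_assoc]
      rw [FullFrame.pairInv, mul_sub, sub_mul, hp _ _ hPe hPf, hp _ _ hPf hPe]
    refine ⟨by simpa using SetLike.mul_mem_graded a0 i0, ?_, ?_, ?_, ?_⟩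
    · intro i hi
      rcases List.mem_cons.1 hi with rfl | hi
      · exact ⟨by rw [mul_assoc, hPe, ← mul_assoc, ae, neg_mul, mul_assoc],
          by rw [mul_assoc, hPf, ← mul_assoc, af, neg_mul, mul_assoc]⟩
      · have he := F.pairInv_comm a (x := F.e i) (F.ee a i) (by rw [F.fe, if_neg (hne i hi)])
        have hf := F.pairInv_comm a (x := F.f i) (by rw [F.ef, if_neg (hne i hi).symm]) (F.ff a i)
        exact ⟨by rw [mul_assoc, (ianti i hi).1, mul_neg, ← mul_assoc, he, mul_assoc],
          by rw [mul_assoc, (ianti i hi).2, mul_neg, ← mul_assoc, hf, mul_assoc]⟩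
    · intro x hx
      rw [mul_assoc, icomm x (fun i hi => hx i (List.mem_cons_of_mem _ hi)), ← mul_assoc,
        F.pairInv_comm a (hx a List.mem_cons_self).1 (hx a List.mem_cons_self).2, mul_assoc]
    · rw [mul_assoc, ← mul_assoc P, hPH, mul_assoc, isq, mul_one, asq]
    · rw [star_mul, istar, astar, smul_mul_assoc, mul_neg, hPH, pow_succ, mul_neg_one, neg_smul, smul_neg]

/-- The odd central involution. -/
noncomputable def FullFrame.zc (F : FullFrame q m) : CliffordAlgebra q :=
  ι q F.v * ((Finset.univ : Finset (Fin m)).toList.map F.pairInv).prod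

omit [Module.Free A V] in
theorem FullFrame.zc_spec (F : FullFrame q m) (fb : Module.Basis (FIdx m) A V) (hfb : ∀ a, fb a = F.vec a) :
    F.zc ∈ evenOdd q 1 ∧ F.zc * F.zc = 1 ∧ (∀ x, ι q x * F.zc = F.zc * ι q x) ∧
      star F.zc = ((-1 : A) ^ (m + 1)) • F.zc := by
  obtain ⟨w0, wanti, wcomm, wsq, wstar⟩ := F.prod_spec Finset.univ.toList (Finset.nodup_toList _)
  rw [FullFrame.zc]
  set w := ((Finset.univ : Finset (Fin m)).toList.map F.pairInv).prod
  have hv : w * ι q F.v = ι q F.v * w :=
    wcomm _ fun i _ => ⟨by rw [QuadraticMap.polar_comm]; exact F.ve i, by rw [QuadraticMap.polar_comm]; exact F.vf i⟩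
  have hvv : ι q F.v * ι q F.v = 1 := by rw [ι_sq_scalar, F.qv, map_one]
  refine ⟨by simpa using SetLike.mul_mem_graded (ι_mem_evenOdd_one q F.v) w0, ?_, ?_, ?_⟩
  · rw [mul_assoc, ← mul_assoc w, hv, mul_assoc, wsq, mul_one, hvv]
  · intro x
    have hb : ∀ a, ι q (fb a) * (ι q F.v * w) = (ι q F.v * w) * ι q (fb a) := by
      intro a
      rw [hfb]
      rcases a with _ | (i | i)
      · simp only [FullFrame.vec]; rw [← mul_assoc, mul_assoc _ w, hv, ← mul_assoc]
      · have h := (wanti i (by simp)).1
        have hve : ι q (F.e i) * ι q F.v = -(ι q F.v * ι q (F.e i)) :=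
          eq_neg_of_add_eq_zero_left (by rw [ι_mul_ι_add_swap, QuadraticMap.polar_comm, F.ve, map_zero])
        simp only [FullFrame.vec]
        rw [← mul_assoc, hve, mul_assoc (ι q F.v) w, h, mul_neg, neg_mul, mul_assoc]
      · have h := (wanti i (by simp)).2
        have hve : ι q (F.f i) * ι q F.v = -(ι q F.v * ι q (F.f i)) :=
          eq_neg_of_add_eq_zero_left (by rw [ι_mul_ι_add_swap, QuadraticMap.polar_comm, F.vf, map_zero])
        simp only [FullFrame.vec]
        rw [← mul_assoc, hve, mul_assoc (ι q F.v) w, h, mul_neg, neg_mul, mul_assoc]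
    rw [← fb.sum_repr x, map_sum, Finset.sum_mul, Finset.mul_sum]
    refine Finset.sum_congr rfl fun a _ => ?_
    rw [map_smul, smul_mul_assoc, mul_smul_comm, hb]
  · rw [star_mul, CliffordAlgebra.star_ι, wstar, smul_mul_assoc, mul_neg, hv, Finset.length_toList, Finset.card_univ,
      Fintype.card_fin, pow_succ, mul_neg_one, neg_smul, smul_neg]

/-- Central elements are combinations of one and an odd central involution. -/
theorem exists_of_central {n : ℕ} {b : Module.Basis (Fin n) A V} (hg : GoodPolar q b) {z : CliffordAlgebra q}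
    (hz1 : z ∈ evenOdd q 1) (hzz : z * z = 1) (hzc : ∀ x, ι q x * z = z * ι q x)
    {x : CliffordAlgebra q} (hx : ∀ v, ι q v * x = x * ι q v) : ∃ r s : A, x = algebraMap A _ r + s • z := by
  have hcp : ∀ i v, ι q v * par q i x = par q i x * ι q v := fun i v => by
    rw [← (par_mul_ι (Q := q) i x v).1, ← (par_mul_ι (Q := q) i x v).2, hx]
  obtain ⟨r, hr⟩ := even_central hg (par_mem q 0 x) (hcp 0)
  have h1 := SetLike.mul_mem_graded hz1 (par_mem q 1 x)
  rw [show (1 : ZMod 2) + 1 = 0 from rfl] at h1
  obtain ⟨s, hs⟩ := even_central hg h1 fun v => by rw [← mul_assoc, hzc, mul_assoc, hcp, ← mul_assoc]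
  have hc : ∀ y : CliffordAlgebra q, y * z = z * y := by
    intro y
    induction y using CliffordAlgebra.induction with
    | algebraMap c => exact Algebra.commutes c z
    | ι v => exact hzc v
    | add a c ha hc => rw [add_mul, mul_add, ha, hc]
    | mul a c ha hc => rw [mul_assoc, hc, ← mul_assoc, ha, mul_assoc]
  refine ⟨r, s, ?_⟩
  have h2 : par q 1 x = s • z := by
    rw [Algebra.smul_def, hs, mul_assoc, hc, ← mul_assoc, hzz, one_mul]
  rw [← h2, hr]
  exact (par_add_par q x).symm

end Central

omit [AddCommGroup V] [Module A V] in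
theorem sum_zero {W : Type u} [AddCommGroup W] [Module A W] (p : QuadraticForm A W) {ι' : Type} (s : Finset ι')
    (x : ι' → W) (h0 : ∀ i, p (x i) = 0) (h : ∀ i j, QuadraticMap.polar p (x i) (x j) = 0) : p (∑ i ∈ s, x i) = 0 := by
  classical
  induction s using Finset.induction_on with
  | empty => simp
  | @insert a s ha ih =>
    rw [Finset.sum_insert ha, QuadraticMap.map_add p, h0, ih, ← QuadraticMap.polarBilin_apply_apply, map_sum]
    simp [h]

/-- The isometry from a hyperbolic form plus a square. -/
noncomputable def FullFrame.hypMap (F : FullFrame q m) : (HS A m × A) →ₗ[A] V where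
  toFun p := ∑ i, (p.1 i).1 • F.e i + ∑ i, (-(p.1 i).2) • F.f i + p.2 • F.v
  map_add' x y := by simp [add_smul, Finset.sum_add_distrib]; abel
  map_smul' c x := by simp [smul_add, Finset.smul_sum, smul_smul]

theorem FullFrame.q_hypMap (F : FullFrame q m) (p : HS A m × A) :
    q (F.hypMap p) = -(CliffordAlgebra.EquivEven.Q' (hyp A m) p) := by
  change q (∑ i, (p.1 i).1 • F.e i + ∑ i, (-(p.1 i).2) • F.f i + p.2 • F.v) = _
  rw [QuadraticMap.map_add q, QuadraticMap.map_add q,
    sum_zero q _ _ (fun i => by rw [QuadraticMap.map_smul, F.qe, smul_zero]) (fun i j => by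
      simp [QuadraticMap.polar_smul_left, QuadraticMap.polar_smul_right, F.ee]),
    sum_zero q _ _ (fun i => by rw [QuadraticMap.map_smul, F.qf, smul_zero]) (fun i j => by
      simp [QuadraticMap.polar_smul_left, QuadraticMap.polar_smul_right, F.ff]),
    QuadraticMap.map_smul, F.qv, CliffordAlgebra.EquivEven.Q'_apply, hyp_apply]
  simp only [← QuadraticMap.polarBilin_apply_apply]
  simp only [map_add, map_sum, map_smul, LinearMap.sum_apply, LinearMap.add_apply, LinearMap.smul_apply]
  simp only [QuadraticMap.polarBilin_apply_apply, F.ef]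
  simp [QuadraticMap.polar_comm q _ F.v, F.ve, F.vf, Finset.sum_neg_distrib, mul_comm]
  ring

omit [Module A V] in
theorem map_evenOdd {W : Type u} [AddCommGroup W] [Module A W] [Module A V] {p : QuadraticForm A W}
    {q' : QuadraticForm A V} (f : p →qᵢ q') {i : ZMod 2} {x : CliffordAlgebra p} (hx : x ∈ evenOdd p i) :
    CliffordAlgebra.map f x ∈ evenOdd q' i := by
  induction x, hx using CliffordAlgebra.evenOdd_induction (Q := p) (n := i) with
  | range_ι_pow v hv =>
    have h : CliffordAlgebra.map f v ∈ (LinearMap.range (ι q')) ^ i.val := by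
      have := Submodule.mem_map_of_mem (f := (CliffordAlgebra.map f).toLinearMap) hv
      rw [Submodule.map_pow] at this
      refine (pow_le_pow_left' (?_ : Submodule.map (CliffordAlgebra.map f).toLinearMap (LinearMap.range (ι p)) ≤
        LinearMap.range (ι q')) i.val) this
      rintro _ ⟨_, ⟨w, rfl⟩, rfl⟩
      exact ⟨f w, (map_apply_ι f w).symm⟩
    exact le_iSup (fun j : {k : ℕ // (k : ZMod 2) = i} => LinearMap.range (ι q') ^ (j : ℕ))
      ⟨i.val, ZMod.natCast_zmod_val i⟩ h
  | add x y hx hy ihx ihy => rw [map_add]; exact Submodule.add_mem _ ihx ihy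
  | ι_mul_ι_mul m₁ m₂ x hx ih =>
    rw [map_mul, map_mul, map_apply_ι, map_apply_ι]
    have := SetLike.mul_mem_graded (ι_mul_ι_mem_evenOdd_zero q' (f m₁) (f m₂)) ih
    rwa [zero_add] at this

/-- The even Clifford algebra of a framed form is a matrix algebra. -/
theorem FullFrame.even_equiv (F : FullFrame q m) (fb : Module.Basis (FIdx m) A V) (hfb : ∀ a, fb a = F.vec a) :
    Nonempty (CliffordAlgebra.even q ≃ₐ[A] Matrix (Fin (2 ^ m)) (Fin (2 ^ m)) A) := by
  classical
  let bb := ((Pi.basis fun _ : Fin m => Module.Basis.finTwoProd A).prod (Module.Basis.singleton Unit A))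
  let back : V →ₗ[A] (HS A m × A) := fb.constr A (fun a => match a with
    | none => (0, 1)
    | some (Sum.inl i) => (Pi.single i (1, 0), 0)
    | some (Sum.inr i) => (Pi.single i (0, -1), 0))
  have h1 : F.hypMap.comp back = LinearMap.id := by
    refine fb.ext fun a => ?_
    rw [LinearMap.comp_apply, Module.Basis.constr_basis, LinearMap.id_apply, hfb]
    rcases a with _ | (i | i) <;>
      simp [FullFrame.hypMap, FullFrame.vec, Pi.single_apply, apply_ite Prod.fst, apply_ite Prod.snd]
  have h2 : back.comp F.hypMap = LinearMap.id := by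
    refine LinearMap.ext fun p => ?_
    have hk : ∀ a, back (F.vec a) = (match a with
        | none => ((0 : HS A m), (1 : A))
        | some (Sum.inl i) => (Pi.single i (1, 0), 0)
        | some (Sum.inr i) => (Pi.single i (0, -1), 0)) := fun a => by rw [← hfb]; simp [back]
    change back (∑ i, (p.1 i).1 • F.vec (some (Sum.inl i)) + ∑ i, (-(p.1 i).2) • F.vec (some (Sum.inr i)) +
      p.2 • F.vec none) = p
    simp only [map_add, map_sum, map_smul, hk]
    refine Prod.ext (funext fun j => Prod.ext ?_ ?_) ?_ <;>
      simp [Prod.fst_sum, Prod.snd_sum, Finset.sum_apply, Pi.single_apply, apply_ite Prod.fst, apply_ite Prod.snd]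
  let iso : (CliffordAlgebra.EquivEven.Q' (hyp A m)).IsometryEquiv (-q) :=
    { (LinearEquiv.ofLinear F.hypMap back h1 h2 : (HS A m × A) ≃ₗ[A] V) with
      map_app' := fun p => by
        change -(q (F.hypMap p)) = _
        rw [F.q_hypMap, neg_neg] }
  let E := CliffordAlgebra.equivOfIsometry iso
  have hle : (CliffordAlgebra.even (CliffordAlgebra.EquivEven.Q' (hyp A m))).map E.toAlgHom =
      CliffordAlgebra.even (-q) := by
    refine le_antisymm ?_ ?_
    · rintro _ ⟨x, hx, rfl⟩
      exact map_evenOdd iso.toIsometry hx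
    · intro x hx
      exact ⟨E.symm x, map_evenOdd iso.symm.toIsometry hx, E.apply_symm_apply x⟩
  obtain ⟨φ⟩ := exists_equiv A m
  exact ⟨((evenEquivEvenNeg q).trans ((Subalgebra.equivOfEq _ _ hle.symm).trans
    ((E.subalgebraMap _).symm.trans (equivEven (hyp A m)).symm))).trans φ⟩

end Groth.Agent.CliffSmooth
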