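import Groth.Agent.CliffSmooth.Solve
import Groth.Agent.OrthSmooth.Mat

/-!
# Polar data of regular and semiregular forms
-/

set_option autoImplicit false

universe u v

namespace Groth.Agent.CliffSmooth

open Matrix QuadGrp

variable {R : Type u} [CommRing R] {M : Type v} [AddCommGroup M] [Module R M] {n : ℕ}

/-- The polar matrix. -/
noncomputable def polMat (Q : QuadraticForm R M) (b : Module.Basis (Fin n) R M) : Matrix (Fin n) (Fin n) R :=
  Matrix.of fun i j => QuadraticMap.polarBilin Q (b i) (b j)

/-- Determinant and principal minors of size `n - 1` generate the unit ideal. -/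
def GoodMat (P : Matrix (Fin n) (Fin n) R) : Prop :=
  Ideal.span (insert P.det (Set.range fun i => P.adjugate i i)) = ⊤

theorem GoodMat.map {S : Type*} [CommRing S] (f : R →+* S) {P : Matrix (Fin n) (Fin n) R} (h : GoodMat P) :
    GoodMat (P.map f) := by
  have h1 := congrArg (Ideal.map f) h
  rw [Ideal.map_span, Ideal.map_top, Set.image_insert_eq, ← Set.range_comp, RingHom.map_det] at h1
  rw [GoodMat, ← h1]
  congr 3
  funext i
  exact (congrFun (congrFun (RingHom.map_adjugate f P) i) i).symm

theorem polarBilin_sum (Q : QuadraticForm R M) (b : Module.Basis (Fin n) R M) (v : Fin n → R) (l : Fin n) :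
    QuadraticMap.polarBilin Q (∑ k, v k • b k) (b l) = ((polMat Q b).mulVec v) l := by
  simp [polMat, Matrix.mulVec, dotProduct, QuadraticMap.polar_comm _ (b l), mul_comm]

theorem goodPolar_of_goodMat {Q : QuadraticForm R M} {b : Module.Basis (Fin n) R M} (h : GoodMat (polMat Q b)) :
    GoodPolar Q b := by
  classical
  rw [GoodPolar, eq_top_iff, ← h, Ideal.span_le]
  rintro D (rfl | ⟨i₀, rfl⟩)
  · refine Ideal.subset_span ⟨⟨_, fun j => ∑ k, (polMat Q b).adjugate k j • b k, 0, 0, fun j => ?_, fun k => Or.inr fun i => ?_⟩, rfl⟩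
    · refine b.ext fun l => ?_
      rw [polarBilin_sum]
      change ((polMat Q b) * (polMat Q b).adjugate) l j = _
      rw [Matrix.mul_adjugate]
      simp [Matrix.one_apply, Finsupp.single_apply, eq_comm]
      rfl
    · rw [polarBilin_sum]
      change ((polMat Q b) * (polMat Q b).adjugate) k i = _
      rw [Matrix.mul_adjugate]
      simp [Matrix.one_apply, eq_comm]
      rfl
  · set P' := (polMat Q b).updateRow i₀ (Pi.single i₀ 1)
    have hD : P'.det = (polMat Q b).adjugate i₀ i₀ := (Matrix.adjugate_apply _ _ _).symm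
    let w : Fin n → M := fun j => if j = i₀ then 0 else ∑ k, P'.adjugate k j • b k
    have hw0 : ∀ j, j ≠ i₀ → P'.adjugate i₀ j = 0 := by
      intro j hj
      have := congrFun (congrFun (Matrix.mul_adjugate P') i₀) j
      simpa [P', Matrix.mul_apply, Matrix.updateRow_self, Pi.single_apply, Matrix.one_apply_ne (Ne.symm hj)] using this
    have hval : ∀ j l, j ≠ i₀ → l ≠ i₀ →
        QuadraticMap.polarBilin Q (w j) (b l) = if j = l then (polMat Q b).adjugate i₀ i₀ else 0 := by
      intro j l hj hl
      simp only [w, if_neg hj]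
      rw [polarBilin_sum]
      have := congrFun (congrFun (Matrix.mul_adjugate P') l) j
      rw [hD] at this
      simp only [Matrix.mul_apply, P', Matrix.updateRow_ne hl] at this
      refine this.trans ?_
      simp [Matrix.one_apply, eq_comm]
    dsimp only
    generalize (polMat Q b).adjugate i₀ i₀ = D₀ at hval ⊢
    refine Ideal.subset_span ⟨⟨D₀, w, fun j => if j = i₀ then -D₀
      else QuadraticMap.polarBilin Q (w j) (b i₀), b.coord i₀, fun j => ?_, fun k => ?_⟩, rfl⟩
    · refine b.ext fun l => ?_
      by_cases hj : j = i₀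
      · subst hj; simp [w]
      by_cases hl : l = i₀
      · subst hl; simp [hj, Finsupp.single_apply, Ne.symm hj]
      · rw [hval j l hj hl]
        simp [Finsupp.single_apply, hj, hl, eq_comm]
    · by_cases hk : k = i₀
      · exact Or.inl (by simp [w, hk])
      · refine Or.inr fun i => ?_
        by_cases hi : i = i₀
        · subst hi; simp [w, Ne.symm hk]
        · exact hval i k hi hk

theorem goodMat_of_isUnit_det {P : Matrix (Fin n) (Fin n) R} (h : IsUnit P.det) : GoodMat P :=
  Ideal.eq_top_of_isUnit_mem _ (Ideal.subset_span (Set.mem_insert _ _)) h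

theorem isUnit_det_polMat_of_isRegular {Q : QuadraticForm R M} (b : Module.Basis (Fin n) R M) (hQ : IsRegular Q) :
    IsUnit (polMat Q b).det := by
  classical
  let e : M ≃ₗ[R] Module.Dual R M := LinearEquiv.ofBijective (QuadraticMap.polarBilin Q) hQ
  have h := e.isUnit_det b b.dualBasis
  rw [show LinearMap.toMatrix b b.dualBasis (e : M →ₗ[R] Module.Dual R M) = (polMat Q b)ᵀ from ?_,
    Matrix.det_transpose] at h
  · exact h
  · ext i j
    rw [LinearMap.toMatrix_apply, b.dualBasis_repr]
    rfl

theorem goodMat_of_isSemiregular (hn : Odd n) {Q : QuadraticForm R M} (b : Module.Basis (Fin n) R M)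
    (hQ : IsSemiregular b (LinearEquiv.refl R R) Q) : GoodMat (polMat Q b) := by
  classical
  set V := QuadHalfDisc.up (coeffs b (LinearEquiv.refl R R) Q)
  have hco : QuadHalfDisc.co V = coeffs b (LinearEquiv.refl R R) Q := QuadHalfDisc.co_up _
  have hP : polMat Q b = V + Vᵀ := by
    rw [← QuadHalfDisc.polarMat_co, hco]
    ext i j
    by_cases h : i = j
    · subst h
      simp [polMat, univPolarMat, coeffs_mk, map_mul, map_ofNat, two_mul]
    · simp [polMat, univPolarMat, coeffs_mk, h]
  have hu : IsUnit (OrthSmooth.hd (QuadHalfDisc.co V)) := by rw [hco]; exact hQ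
  rw [hP, GoodMat]
  by_contra hne
  obtain ⟨I, hI, hle⟩ := Ideal.exists_le_maximal _ hne
  letI := Ideal.Quotient.field I
  let f := Ideal.Quotient.mk I
  have hmap : (V + Vᵀ).map f = V.map f + (V.map f)ᵀ := by rw [Matrix.map_add _ (map_add f), Matrix.transpose_map]
  have hk : OrthSmooth.hd (QuadHalfDisc.co (V.map f)) ≠ 0 := by
    rw [← OrthSmooth.map_hd_co]; exact (hu.map f).ne_zero
  have hdet : (V.map f + (V.map f)ᵀ).det = 0 := by
    rw [← hmap]
    exact ((RingHom.map_det f _).symm).trans
      (Ideal.Quotient.eq_zero_iff_mem.2 (hle (Ideal.subset_span (Set.mem_insert _ _))))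
  by_cases h2 : (2 : R ⧸ I) = 0
  · obtain ⟨i, e, -, -, ha, -⟩ := OrthSmooth.exists_radical hn h2 _ hk
    refine ha ?_
    rw [← hmap]
    have := congrFun (congrFun (RingHom.map_adjugate f (V + Vᵀ)) i) i
    exact this.symm.trans (Ideal.Quotient.eq_zero_iff_mem.2 (hle (Ideal.subset_span (Set.mem_insert_of_mem _ ⟨i, rfl⟩))))
  · rw [← OrthSmooth.two_hd hn] at hdet
    exact mul_ne_zero h2 hk hdet

end Groth.Agent.CliffSmooth
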