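import Groth.Agent.CliffSmooth.Coord

/-!
# Smoothness and affineness of Clifford and Pin group schemes
-/

set_option autoImplicit false

universe u

namespace Groth.Agent.CliffSmooth

open CliffordAlgebra TensorProduct QuadGrp

variable {R : Type u} [CommRing R] {n : ℕ} (Q : QuadraticForm R (Fin n → R)) (pinFlag : Bool)
  (A : Type u) [CommRing A] [Algebra R A]

/-- The point group. -/
noncomputable def grp : Subgroup (CliffordAlgebra (baseChangeForm A Q))ˣ :=
  if pinFlag then pin Q A else gpin Q A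

theorem mem_grp_iff (u : (CliffordAlgebra (baseChangeForm A Q))ˣ) : u ∈ grp Q pinFlag A ↔
    (u ∈ GPin' (baseChangeForm A Q) ∧ u ∈ LH (baseChangeForm A Q)) ∧
      (pinFlag = true → star (u : CliffordAlgebra (baseChangeForm A Q)) * u = 1) := by
  cases pinFlag
  · simp [grp, GPin, Subgroup.mem_inf]
  · simp [grp, Pin, GPin, Subgroup.mem_inf, mem_normOne]

theorem bs_eq (i : Fin n) :
    (Algebra.TensorProduct.basis A (Pi.basisFun R (Fin n))) i = (1 : A) ⊗ₜ[R] (Pi.single i 1 : Fin n → R) := by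
  simp [Algebra.TensorProduct.basis_apply, Pi.basisFun_apply]

theorem conj_mem_iff (x y : CliffordAlgebra (baseChangeForm A Q)) :
    (∀ v, x * ι (baseChangeForm A Q) v * y ∈ LinearMap.range (ι (baseChangeForm A Q))) ↔
      ∀ i : Fin n, (nonVec Q).baseChange A (cb Q A x * ((1 : A) ⊗ₜ ι Q (Pi.single i 1)) * cb Q A y) = 0 := by
  have key : ∀ i : Fin n, (nonVec Q).baseChange A (cb Q A x * ((1 : A) ⊗ₜ ι Q (Pi.single i 1)) * cb Q A y) = 0 ↔
      x * ι (baseChangeForm A Q) ((Algebra.TensorProduct.basis A (Pi.basisFun R (Fin n))) i) * y ∈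
        LinearMap.range (ι (baseChangeForm A Q)) := fun i => by
    rw [mem_range_ι_iff, map_mul (cb Q A), map_mul (cb Q A), bs_eq, cb_ι, vecBC_tmul]
  refine ⟨fun h i => (key i).2 (h _), fun h v => ?_⟩
  rw [← (Algebra.TensorProduct.basis A (Pi.basisFun R (Fin n))).sum_repr v, map_sum, Finset.mul_sum, Finset.sum_mul]
  refine Submodule.sum_mem _ fun i _ => ?_
  rw [map_smul, mul_smul_comm, smul_mul_assoc]
  exact Submodule.smul_mem _ _ ((key i).1 (h i))

theorem isLocHomog_iff (x : CliffordAlgebra (baseChangeForm A Q)) (e : A) :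
    (e • x ∈ evenOdd _ 0 ↔ parBC Q A 1 (e • cb Q A x) = 0) ∧
      ((1 - e) • x ∈ evenOdd _ 1 ↔ parBC Q A 0 ((1 - e) • cb Q A x) = 0) := by
  constructor
  · rw [(mem_evenOdd_iff _ _).1, ← map_smul (cb Q A), ← cb_par, map_eq_zero_iff _ (cb Q A).injective]
  · rw [(mem_evenOdd_iff _ _).2, ← map_smul (cb Q A), ← cb_par, map_eq_zero_iff _ (cb Q A).injective]

theorem tmul_one_eq_zero_iff (a : A) : a ⊗ₜ[R] (1 : CliffordAlgebra Q) = 0 ↔ a = 0 := by
  refine ⟨fun h => ?_, fun h => by rw [h, TensorProduct.zero_tmul]⟩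
  apply algebraMap_injective (baseChangeForm A Q)
  apply (cb Q A).injective
  rw [AlgEquiv.commutes, Algebra.TensorProduct.algebraMap_apply, Algebra.algebraMap_self, RingHom.id_apply, h,
    map_zero, map_zero]

theorem sol_iff (u u' : A ⊗[R] CliffordAlgebra Q) (e : A) :
    (∀ k, eqs Q pinFlag A u u' e k = 0) ↔
      ((∀ i : Fin n, (nonVec Q).baseChange A (u * ((1 : A) ⊗ₜ ι Q (Pi.single i 1)) * u') = 0) ∧
        (∀ i : Fin n, (nonVec Q).baseChange A (u' * ((1 : A) ⊗ₜ ι Q (Pi.single i 1)) * u) = 0)) ∧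
      (u * u' = 1 ∧ u' * u = 1) ∧ (parBC Q A 1 (e • u) = 0 ∧ parBC Q A 0 ((1 - e) • u) = 0 ∧ IsIdempotentElem e) ∧
      (pinFlag = true → (starL Q).baseChange A u * u = 1) := by
  constructor
  · intro h
    refine ⟨⟨fun i => h (Sum.inl (Sum.inl i)), fun i => h (Sum.inl (Sum.inr i))⟩,
      ⟨sub_eq_zero.1 (h (Sum.inr 0)), sub_eq_zero.1 (h (Sum.inr 1))⟩,
      ⟨h (Sum.inr 2), h (Sum.inr 3), sub_eq_zero.1 ((tmul_one_eq_zero_iff Q A _).1 (h (Sum.inr 4)))⟩, fun hp => ?_⟩
    have := h (Sum.inr 5)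
    subst hp
    exact sub_eq_zero.1 this
  · rintro ⟨⟨h1, h2⟩, ⟨h3, h4⟩, ⟨h5, h6, h7⟩, h8⟩ ((i | i) | k)
    · exact h1 i
    · exact h2 i
    fin_cases k
    · exact sub_eq_zero.2 h3
    · exact sub_eq_zero.2 h4
    · exact h5
    · exact h6
    · exact (tmul_one_eq_zero_iff Q A _).2 (sub_eq_zero.2 h7)
    · cases pinFlag
      · rfl
      · exact sub_eq_zero.2 (h8 rfl)

theorem idem_unique {u : (CliffordAlgebra (baseChangeForm A Q))ˣ} {e e' : A}
    (he : IsIdempotentElem e) (he' : IsIdempotentElem e')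
    (h0 : e • (u : CliffordAlgebra (baseChangeForm A Q)) ∈ evenOdd (baseChangeForm A Q) 0)
    (h1 : (1 - e) • (u : CliffordAlgebra (baseChangeForm A Q)) ∈ evenOdd (baseChangeForm A Q) 1)
    (k0 : e' • (u : CliffordAlgebra (baseChangeForm A Q)) ∈ evenOdd (baseChangeForm A Q) 0)
    (k1 : (1 - e') • (u : CliffordAlgebra (baseChangeForm A Q)) ∈ evenOdd (baseChangeForm A Q) 1) : e = e' := by
  have key : ∀ a c : A, a • (u : CliffordAlgebra (baseChangeForm A Q)) ∈ evenOdd (baseChangeForm A Q) 0 →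
      (1 - c) • (u : CliffordAlgebra (baseChangeForm A Q)) ∈ evenOdd (baseChangeForm A Q) 1 → a * (1 - c) = 0 := by
    intro a c ha hc
    have e0 : (a * (1 - c)) • (u : CliffordAlgebra (baseChangeForm A Q)) ∈ evenOdd (baseChangeForm A Q) 0 := by
      rw [mul_comm, mul_smul]; exact Submodule.smul_mem _ _ ha
    have e1 : (a * (1 - c)) • (u : CliffordAlgebra (baseChangeForm A Q)) ∈ evenOdd (baseChangeForm A Q) 1 := by
      rw [mul_smul]; exact Submodule.smul_mem _ _ hc
    have hz : (a * (1 - c)) • (u : CliffordAlgebra (baseChangeForm A Q)) = 0 :=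
      (par_of_mem _ e0).symm.trans (par_of_mem_ne _ e1 (by decide))
    apply algebraMap_injective (baseChangeForm A Q)
    rw [map_zero, Algebra.algebraMap_eq_smul_one, ← Units.mul_inv u, ← smul_mul_assoc, hz, zero_mul]
  linear_combination key e e' h0 k1 - key e' e k0 h1

theorem sol_of_mem (u : (CliffordAlgebra (baseChangeForm A Q))ˣ) (e : A) (hu : u ∈ grp Q pinFlag A)
    (he : IsIdempotentElem e) (h0 : e • (u : CliffordAlgebra (baseChangeForm A Q)) ∈ evenOdd (baseChangeForm A Q) 0)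
    (h1 : (1 - e) • (u : CliffordAlgebra (baseChangeForm A Q)) ∈ evenOdd (baseChangeForm A Q) 1) :
    ∀ k, eqs Q pinFlag A (cb Q A (u : CliffordAlgebra (baseChangeForm A Q)))
      (cb Q A (↑u⁻¹ : CliffordAlgebra (baseChangeForm A Q))) e k = 0 := by
  obtain ⟨⟨hg, -⟩, hp⟩ := (mem_grp_iff Q pinFlag A u).1 hu
  obtain ⟨g1, g2⟩ := (mem_GPin'_iff u).1 hg
  refine (sol_iff Q pinFlag A _ _ _).2 ⟨⟨(conj_mem_iff Q A _ _).1 g1, (conj_mem_iff Q A _ _).1 g2⟩,
    ⟨?_, ?_⟩, ⟨(isLocHomog_iff Q A _ _).1.1 h0, (isLocHomog_iff Q A _ _).2.1 h1, he⟩, fun h => ?_⟩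
  · rw [← map_mul (cb Q A), Units.mul_inv, map_one]
  · rw [← map_mul (cb Q A), Units.inv_mul, map_one]
  · rw [← cb_star, ← map_mul (cb Q A), hp h, map_one]

/-- The unit of a solution. -/
noncomputable def toUnit (p : Sol Q pinFlag A) : (CliffordAlgebra (baseChangeForm A Q))ˣ where
  val := (cb Q A).symm p.1.1.1
  inv := (cb Q A).symm p.1.1.2
  val_inv := by rw [← map_mul, ((sol_iff Q pinFlag A _ _ _).1 p.2).2.1.1, map_one]
  inv_val := by rw [← map_mul, ((sol_iff Q pinFlag A _ _ _).1 p.2).2.1.2, map_one]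

theorem toUnit_homog (p : Sol Q pinFlag A) : IsIdempotentElem p.1.2 ∧
    p.1.2 • (toUnit Q pinFlag A p : CliffordAlgebra (baseChangeForm A Q)) ∈ evenOdd (baseChangeForm A Q) 0 ∧
    (1 - p.1.2) • (toUnit Q pinFlag A p : CliffordAlgebra (baseChangeForm A Q)) ∈ evenOdd (baseChangeForm A Q) 1 := by
  obtain ⟨-, -, ⟨h0, h1, he⟩, -⟩ := (sol_iff Q pinFlag A _ _ _).1 p.2
  refine ⟨he, (isLocHomog_iff Q A _ _).1.2 ?_, (isLocHomog_iff Q A _ _).2.2 ?_⟩
  · simpa [toUnit] using h0
  · simpa [toUnit] using h1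

theorem toUnit_mem (p : Sol Q pinFlag A) : toUnit Q pinFlag A p ∈ grp Q pinFlag A := by
  obtain ⟨⟨g1, g2⟩, -, -, hp⟩ := (sol_iff Q pinFlag A _ _ _).1 p.2
  refine (mem_grp_iff Q pinFlag A _).2 ⟨⟨(mem_GPin'_iff _).2 ⟨(conj_mem_iff Q A _ _).2 ?_, (conj_mem_iff Q A _ _).2 ?_⟩,
    p.1.2, toUnit_homog Q pinFlag A p⟩, fun h => ?_⟩
  · simpa [toUnit] using g1
  · simpa [toUnit] using g2
  · apply (cb Q A).injective
    rw [map_mul (cb Q A), cb_star, map_one]
    simpa [toUnit] using hp h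

/-- Points of the group as solutions. -/
noncomputable def grpEquiv : ↥(grp Q pinFlag A) ≃ Sol Q pinFlag A where
  toFun u := ⟨((cb Q A (u.1 : CliffordAlgebra (baseChangeForm A Q)), cb Q A (↑u.1⁻¹ : CliffordAlgebra (baseChangeForm A Q))),
      Classical.choose ((mem_grp_iff Q pinFlag A u.1).1 u.2).1.2),
    sol_of_mem Q pinFlag A u.1 _ u.2 (Classical.choose_spec ((mem_grp_iff Q pinFlag A u.1).1 u.2).1.2).1
      (Classical.choose_spec ((mem_grp_iff Q pinFlag A u.1).1 u.2).1.2).2.1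
      (Classical.choose_spec ((mem_grp_iff Q pinFlag A u.1).1 u.2).1.2).2.2⟩
  invFun p := ⟨toUnit Q pinFlag A p, toUnit_mem Q pinFlag A p⟩
  left_inv u := Subtype.ext (Units.ext ((cb Q A).symm_apply_apply _))
  right_inv p := by
    refine Subtype.ext (Prod.ext (Prod.ext ((cb Q A).apply_symm_apply _) ((cb Q A).apply_symm_apply _)) ?_)
    obtain ⟨he, h0, h1⟩ := toUnit_homog Q pinFlag A p
    have hex := ((mem_grp_iff Q pinFlag A (toUnit Q pinFlag A p)).1 (toUnit_mem Q pinFlag A p)).1.2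
    exact idem_unique Q A (u := toUnit Q pinFlag A p) (Classical.choose_spec hex).1 he
      (Classical.choose_spec hex).2.1 (Classical.choose_spec hex).2.2 h0 h1

variable {A} {B : Type u} [CommRing B] [Algebra R B]

open CategoryTheory AlgebraicGeometry MonObj in
/-- The affine representation. -/
noncomputable def affRep {G : Over (Spec (CommRingCat.of R))} [GrpObj G]
    (D : CliffRep Q (fun A _ _ => grp Q pinFlag A) G) : OrthSmooth.AffRep G (Coord Q pinFlag) where
  pts A _ _ := ((D.pts A).toEquiv.trans (grpEquiv Q pinFlag A)).trans (homEquiv Q pinFlag A).symm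
  natural A B _ _ _ _ φ y := by
    apply (homEquiv Q pinFlag B).injective
    apply Subtype.ext
    rw [homEquiv_natural]
    simp only [Equiv.trans_apply, Equiv.apply_symm_apply, MulEquiv.coe_toEquiv]
    set a := D.pts A y
    set c := D.pts B (specOverMap R φ ≫ y)
    have hc : ((c : (CliffordAlgebra (baseChangeForm B Q))ˣ) : CliffordAlgebra (baseChangeForm B Q)) =
        cbMap Q φ (a : (CliffordAlgebra (baseChangeForm A Q))ˣ) :=
      D.natural A B φ (cbMap Q φ) (cbMap_ι Q φ) (cbMap_algebraMap Q φ) y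
    have hv : chg Q φ (cb Q A (a : (CliffordAlgebra (baseChangeForm A Q))ˣ)) =
        cb Q B (c : (CliffordAlgebra (baseChangeForm B Q))ˣ) := by rw [hc, cb_cbMap]
    have hi : chg Q φ (cb Q A (↑(a : (CliffordAlgebra (baseChangeForm A Q))ˣ)⁻¹)) =
        cb Q B (↑(c : (CliffordAlgebra (baseChangeForm B Q))ˣ)⁻¹) := by
      refine left_inv_eq_right_inv (a := cb Q B (c : (CliffordAlgebra (baseChangeForm B Q))ˣ)) ?_
        (by rw [← map_mul, Units.mul_inv, map_one])
      rw [← hv, ← map_mul, ← map_mul, Units.inv_mul, map_one, map_one]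
    refine Prod.ext (Prod.ext hv.symm hi.symm) ?_
    -- the idempotents agree
    obtain ⟨he, h0, h1⟩ := Classical.choose_spec ((mem_grp_iff Q pinFlag B c.1).1 c.2).1.2
    have hA := chg_eqs Q pinFlag φ (cb Q A a.1) (cb Q A ↑a.1⁻¹) (grpEquiv Q pinFlag A a).1.2
    have hsol : ∀ k, eqs Q pinFlag B (cb Q B c.1) (cb Q B ↑c.1⁻¹) (φ (grpEquiv Q pinFlag A a).1.2) k = 0 := fun k => by
      rw [← hv, ← hi, ← hA]
      exact (congrArg (chg Q φ) ((grpEquiv Q pinFlag A a).2 k)).trans (map_zero _)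
    obtain ⟨-, -, ⟨k0, k1, ke⟩, -⟩ := (sol_iff Q pinFlag B _ _ _).1 hsol
    exact idem_unique Q B (u := c.1) he ke h0 h1 ((isLocHomog_iff Q B _ _).1.2 k0) ((isLocHomog_iff Q B _ _).2.2 k1)

variable (A) in
theorem chg_mk_eq_zero (I : Ideal A) {x : A ⊗[R] CliffordAlgebra Q} (h : chg Q (Ideal.Quotient.mkₐ R I) x = 0) :
    (cb Q A).symm x ∈ I • (⊤ : Submodule A (CliffordAlgebra (baseChangeForm A Q))) := by
  refine map_mem_smul (cb Q A).symm.toLinearMap I ?_
  rw [← (Algebra.TensorProduct.basis A (bC Q)).sum_repr x]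
  refine Submodule.sum_mem _ fun s _ => Submodule.smul_mem_smul ?_ Submodule.mem_top
  have := congrArg (fun z => (Algebra.TensorProduct.basis (A ⧸ I) (bC Q)).repr z s) h
  simp only [repr_chg, map_zero, Finsupp.zero_apply, Ideal.Quotient.mkₐ_eq_mk] at this
  exact Ideal.Quotient.eq_zero_iff_mem.1 this

theorem chg_eq_of_mem {I : Ideal A} {x y : CliffordAlgebra (baseChangeForm A Q)}
    (h : x - y ∈ I • (⊤ : Submodule A (CliffordAlgebra (baseChangeForm A Q)))) :
    chg Q (Ideal.Quotient.mkₐ R I) (cb Q A x) = chg Q (Ideal.Quotient.mkₐ R I) (cb Q A y) := by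
  rw [← sub_eq_zero, ← map_sub, ← map_sub]
  refine Submodule.smul_induction_on h (fun r hr z _ => ?_) (fun a c ha hc => by rw [map_add, map_add, ha, hc, add_zero])
  rw [map_smul, chg_smul, Ideal.Quotient.mkₐ_eq_mk, Ideal.Quotient.eq_zero_iff_mem.2 hr, zero_smul]

theorem formallySmooth (hQ : GoodMat (polMat Q (Pi.basisFun R (Fin n)))) (hn : pinFlag = true → 2 ≤ n) :
    Algebra.FormallySmooth R (Coord Q pinFlag) := by
  refine Algebra.FormallySmooth.of_comp_surjective fun B _ _ I hI f => ?_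
  let b := Algebra.TensorProduct.basis B (Pi.basisFun R (Fin n))
  have hgm : GoodMat (polMat (baseChangeForm B Q) b) := by
    rw [polMat_baseChange]; exact hQ.map _
  have hg : GoodPolar (baseChangeForm B Q) b := goodPolar_of_goodMat hgm
  set p := homEquiv Q pinFlag (B ⧸ I) f
  let π := Ideal.Quotient.mkₐ R I
  have hsurj : ∀ z : (B ⧸ I) ⊗[R] CliffordAlgebra Q, ∃ x : CliffordAlgebra (baseChangeForm B Q),
      chg Q π (cb Q B x) = z := by
    intro z
    choose c hc using fun s => Ideal.Quotient.mk_surjective ((Algebra.TensorProduct.basis (B ⧸ I) (bC Q)).repr z s)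
    refine ⟨(cb Q B).symm (ofCoord Q c), ?_⟩
    rw [AlgEquiv.apply_symm_apply, chg_ofCoord]
    conv_rhs => rw [← ofCoord_repr Q z]
    exact congrArg (ofCoord Q) (funext hc)
  obtain ⟨u₁, hu₁⟩ := hsurj p.1.1.1
  obtain ⟨u₁', hu₁'⟩ := hsurj p.1.1.2
  obtain ⟨e₁, he₁⟩ := Ideal.Quotient.mk_surjective p.1.2
  have hz : ∀ k, (cb Q B).symm (eqs Q pinFlag B (cb Q B u₁) (cb Q B u₁') e₁ k) ∈
      I • (⊤ : Submodule B (CliffordAlgebra (baseChangeForm B Q))) := fun k =>
    chg_mk_eq_zero Q B I (by rw [chg_eqs, hu₁, hu₁', Ideal.Quotient.mkₐ_eq_mk, he₁]; exact p.2 k)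
  have hvec : ∀ (x y : CliffordAlgebra (baseChangeForm B Q)),
      (∀ i : Fin n, (cb Q B).symm ((nonVec Q).baseChange B (cb Q B x * ((1 : B) ⊗ₜ ι Q (Pi.single i 1)) * cb Q B y)) ∈
        I • (⊤ : Submodule B (CliffordAlgebra (baseChangeForm B Q)))) →
      ∀ v, ∃ w, x * ι (baseChangeForm B Q) v * y - ι (baseChangeForm B Q) w ∈
        I • (⊤ : Submodule B (CliffordAlgebra (baseChangeForm B Q))) := by
    intro x y h v
    suffices x * ι (baseChangeForm B Q) v * y ∈ LinearMap.range (ι (baseChangeForm B Q)) ⊔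
        I • (⊤ : Submodule B (CliffordAlgebra (baseChangeForm B Q))) by
      obtain ⟨a, ⟨w, rfl⟩, c, hc, hsum⟩ := Submodule.mem_sup.1 this
      exact ⟨w, by rw [← hsum, add_sub_cancel_left]; exact hc⟩
    rw [← b.sum_repr v, map_sum, Finset.mul_sum, Finset.sum_mul]
    refine Submodule.sum_mem _ fun i _ => ?_
    rw [map_smul, mul_smul_comm, smul_mul_assoc]
    refine Submodule.smul_mem _ _ ?_
    set z := x * ι (baseChangeForm B Q) (b i) * y
    have hzz : cb Q B z = cb Q B x * ((1 : B) ⊗ₜ ι Q (Pi.single i 1)) * cb Q B y := by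
      simp only [z, b]; rw [map_mul (cb Q B), map_mul (cb Q B), bs_eq, cb_ι, vecBC_tmul]
    have hw : z - (cb Q B).symm ((nonVec Q).baseChange B (cb Q B z)) ∈ LinearMap.range (ι (baseChangeForm B Q)) := by
      rw [mem_range_ι_iff, map_sub, AlgEquiv.apply_symm_apply, map_sub]
      have : ∀ w : B ⊗[R] CliffordAlgebra Q, (nonVec Q).baseChange B ((nonVec Q).baseChange B w) =
          (nonVec Q).baseChange B w := by
        intro w
        induction w using TensorProduct.induction_on with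
        | zero => simp
        | add a c ha hc => rw [map_add, map_add, ha, hc]
        | tmul a w => simp [nonVec, vecPart_ι]
      rw [this, sub_self]
    have := Submodule.add_mem_sup hw (hzz ▸ h i)
    rwa [sub_add_cancel] at this
  have hc : ∀ x y : CliffordAlgebra (baseChangeForm B Q), (cb Q B).symm (cb Q B x * cb Q B y - 1) = x * y - 1 := by
    intro x y
    rw [← map_mul, map_sub, map_one, AlgEquiv.symm_apply_apply]
  obtain ⟨u, e, hu, hee, hed, h0, h1, hd, hd'⟩ := exists_lift hg I hI u₁ u₁' e₁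
    (hc _ _ ▸ hz (Sum.inr 0)) (hc _ _ ▸ hz (Sum.inr 1))
    (hvec _ _ fun i => hz (Sum.inl (Sum.inl i))) (hvec _ _ fun i => hz (Sum.inl (Sum.inr i)))
    (by
      have := hz (Sum.inr 4)
      simp only [eqs] at this
      have key : (cb Q B).symm ((e₁ * e₁ - e₁) ⊗ₜ[R] (1 : CliffordAlgebra Q)) =
          algebraMap B _ (e₁ * e₁ - e₁) := by
        apply (cb Q B).injective
        rw [AlgEquiv.apply_symm_apply, AlgEquiv.commutes, Algebra.TensorProduct.algebraMap_apply,
          Algebra.algebraMap_self, RingHom.id_apply]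
      rw [key] at this
      have h' := map_mem_smul (ExteriorAlgebra.algebraMapInv.toLinearMap.comp (toExt (baseChangeForm B Q)).toLinearMap) I this
      simp only [LinearMap.comp_apply, LinearEquiv.coe_coe, toExt_algebraMap, AlgHom.toLinearMap_apply,
        AlgHom.commutes, Algebra.algebraMap_self, RingHom.id_apply, smul_eq_mul, Ideal.mul_top] at h'
      exact h')
    (by
      have := hz (Sum.inr 2)
      simp only [eqs] at this
      rwa [← map_smul (cb Q B), ← cb_par, AlgEquiv.symm_apply_apply, map_smul] at this)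
    (by
      have := hz (Sum.inr 3)
      simp only [eqs] at this
      rwa [← map_smul (cb Q B), ← cb_par, AlgEquiv.symm_apply_apply, map_smul] at this)
  obtain ⟨z, hzG, hz0, hz1, hz1', hzN⟩ : ∃ z : (CliffordAlgebra (baseChangeForm B Q))ˣ,
      u * z ∈ GPin' (baseChangeForm B Q) ∧ (z : CliffordAlgebra _) ∈ evenOdd (baseChangeForm B Q) 0 ∧
      (z : CliffordAlgebra _) - 1 ∈ I • (⊤ : Submodule B (CliffordAlgebra (baseChangeForm B Q))) ∧
      (↑z⁻¹ : CliffordAlgebra _) - 1 ∈ I • (⊤ : Submodule B (CliffordAlgebra (baseChangeForm B Q))) ∧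
      (pinFlag = true → star (↑(u * z) : CliffordAlgebra (baseChangeForm B Q)) * ↑(u * z) = 1) := by
    cases pinFlag with
    | false => exact ⟨1, by rwa [mul_one], SetLike.one_mem_graded _, by simp, by simp, fun h => absurd h (by decide)⟩
    | true =>
      obtain ⟨r, hr⟩ := norm_scalar hg hu ⟨e, hee, h0, h1⟩
      have hN : star u₁ * u₁ - 1 ∈ I • (⊤ : Submodule B (CliffordAlgebra (baseChangeForm B Q))) := by
        have := hz (Sum.inr 5)
        simp only [eqs, if_true] at this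
        rwa [← cb_star, hc] at this
      have hr1 : algebraMap B (CliffordAlgebra (baseChangeForm B Q)) (r - 1) ∈
          I • (⊤ : Submodule B (CliffordAlgebra (baseChangeForm B Q))) := by
        have hst : star ((u : CliffordAlgebra (baseChangeForm B Q)) - u₁) ∈
            I • (⊤ : Submodule B (CliffordAlgebra (baseChangeForm B Q))) := by
          have := map_mem_smul (starL (baseChangeForm B Q)) I hd
          rwa [starL_apply] at this
        have := Submodule.add_mem _ (Submodule.add_mem _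
          (map_mem_smul (LinearMap.mulLeft B (star (u : CliffordAlgebra (baseChangeForm B Q)))) I hd)
          (map_mem_smul (LinearMap.mulRight B u₁) I hst)) hN
        convert this using 1
        rw [map_sub, hr, map_one, LinearMap.mulLeft_apply, LinearMap.mulRight_apply, star_sub]
        noncomm_ring
      have h' := map_mem_smul (ExteriorAlgebra.algebraMapInv.toLinearMap.comp (toExt (baseChangeForm B Q)).toLinearMap) I hr1
      simp only [LinearMap.comp_apply, LinearEquiv.coe_coe, toExt_algebraMap, AlgHom.toLinearMap_apply,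
        AlgHom.commutes, Algebra.algebraMap_self, RingHom.id_apply, smul_eq_mul, Ideal.mul_top] at h'
      obtain ⟨z, a1, a2, a3, a4, a5⟩ := exists_norm_fix (hn rfl) hgm I hI u hu h'
        (by rw [add_sub_cancel, hr])
      exact ⟨z, a1, a2, a3, a4, fun _ => a5⟩
  have hlh : ∀ (i : ZMod 2) (a : B), a • (u : CliffordAlgebra _) ∈ evenOdd (baseChangeForm B Q) i →
      a • ((↑(u * z) : CliffordAlgebra _)) ∈ evenOdd (baseChangeForm B Q) i := fun i a h => by
    rw [Units.val_mul, ← smul_mul_assoc]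
    simpa using SetLike.mul_mem_graded h hz0
  have hsol : ∀ k, eqs Q pinFlag B (cb Q B ↑(u * z)) (cb Q B ↑(u * z)⁻¹) e k = 0 := (sol_iff Q pinFlag B _ _ _).2 (by
    obtain ⟨g1, g2⟩ := (mem_GPin'_iff _).1 hzG
    exact ⟨⟨(conj_mem_iff Q B _ _).1 g1, (conj_mem_iff Q B _ _).1 g2⟩,
      ⟨by rw [← map_mul, Units.mul_inv, map_one], by rw [← map_mul, Units.inv_mul, map_one]⟩,
      ⟨(isLocHomog_iff Q B _ _).1.1 (hlh 0 e h0), (isLocHomog_iff Q B _ _).2.1 (hlh 1 _ h1), hee⟩,
      fun h => by rw [← cb_star, ← map_mul, hzN h, map_one]⟩)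
  refine ⟨(homEquiv Q pinFlag B).symm ⟨((_, _), e), hsol⟩, ?_⟩
  apply (homEquiv Q pinFlag (B ⧸ I)).injective
  apply Subtype.ext
  rw [homEquiv_natural, Equiv.apply_symm_apply]
  have hfu : (↑(u * z) : CliffordAlgebra (baseChangeForm B Q)) - u₁ ∈
      I • (⊤ : Submodule B (CliffordAlgebra (baseChangeForm B Q))) := by
    have := Submodule.add_mem _ (map_mem_smul (LinearMap.mulLeft B (u : CliffordAlgebra (baseChangeForm B Q))) I hz1) hd
    convert this using 1
    rw [Units.val_mul, LinearMap.mulLeft_apply]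
    noncomm_ring
  have hfu' : (↑(u * z)⁻¹ : CliffordAlgebra (baseChangeForm B Q)) - u₁' ∈
      I • (⊤ : Submodule B (CliffordAlgebra (baseChangeForm B Q))) := by
    have := Submodule.add_mem _ (map_mem_smul (LinearMap.mulRight B (↑u⁻¹ : CliffordAlgebra (baseChangeForm B Q))) I hz1') hd'
    convert this using 1
    rw [mul_inv_rev, Units.val_mul, LinearMap.mulRight_apply]
    noncomm_ring
  refine Prod.ext (Prod.ext ((chg_eq_of_mem Q hfu).trans hu₁) ((chg_eq_of_mem Q hfu').trans hu₁')) ?_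
  exact (Ideal.Quotient.eq.2 hed).trans he₁

open CategoryTheory AlgebraicGeometry MonObj in
/-- Smooth and affine. -/
theorem smooth_isAffineHom {G : Over (Spec (CommRingCat.of R))} [GrpObj G]
    (D : CliffRep Q (fun A _ _ => grp Q pinFlag A) G)
    (hQ : GoodMat (polMat Q (Pi.basisFun R (Fin n)))) (hn : pinFlag = true → 2 ≤ n) :
    AlgebraicGeometry.Smooth G.hom ∧ IsAffineHom G.hom := by
  refine ⟨(OrthSmooth.smooth_iff (affRep Q pinFlag D)).2
    { formallySmooth := formallySmooth Q pinFlag hQ hn, finitePresentation := inferInstance }, ?_⟩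
  obtain ⟨i, hi⟩ := OrthSmooth.exists_iso (affRep Q pinFlag D)
  rw [hi]
  infer_instance

end Groth.Agent.CliffSmooth
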