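import Groth.Agent.CliffSmooth.Core
import Mathlib.LinearAlgebra.CliffordAlgebra.Star

/-!
# The Clifford norm on the Clifford group and its infinitesimal surjectivity
-/

set_option autoImplicit false

universe u v

namespace Groth.Agent.CliffSmooth

open CliffordAlgebra

variable {R : Type u} [CommRing R] {M : Type v} [AddCommGroup M] [Module R M] [Module.Free R M]
  {Q : QuadraticForm R M} {n : ℕ} {b : Module.Basis (Fin n) R M}

omit [Module.Free R M] in
theorem star_mem_evenOdd {i : ZMod 2} {x : CliffordAlgebra Q} (hx : x ∈ evenOdd Q i) : star x ∈ evenOdd Q i := by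
  rw [star_def, reverse_mem_evenOdd_iff]
  rcases zmod_two_cases i with rfl | rfl
  · rwa [involute_eq_of_mem_even hx]
  · rw [involute_eq_of_mem_odd hx]; exact Submodule.neg_mem _ hx

/-- The Clifford norm of a point of the Clifford group is a scalar. -/
theorem norm_scalar (hQ : GoodPolar Q b) {u : (CliffordAlgebra Q)ˣ} (hu : u ∈ QuadGrp.GPin' Q)
    (hl : QuadGrp.IsLocHomog Q (u : CliffordAlgebra Q)) :
    star (u : CliffordAlgebra Q) * u ∈ (algebraMap R (CliffordAlgebra Q)).range := by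
  refine even_central hQ ?_ fun v => ?_
  · obtain ⟨e, he, h0, h1⟩ := hl
    have a : star (e • (u : CliffordAlgebra Q)) * (e • (u : CliffordAlgebra Q)) ∈ evenOdd Q (0 + 0) :=
      SetLike.mul_mem_graded (star_mem_evenOdd h0) h0
    have c : star ((1 - e) • (u : CliffordAlgebra Q)) * ((1 - e) • (u : CliffordAlgebra Q)) ∈ evenOdd Q (1 + 1) :=
      SetLike.mul_mem_graded (star_mem_evenOdd h1) h1
    have := Submodule.add_mem _ a (show _ ∈ evenOdd Q (0 + 0) from c)
    simp only [CliffordAlgebra.star_smul, smul_mul_assoc, mul_smul_comm, smul_smul, ← add_smul] at this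
    rwa [show e * e + (1 - e) * (1 - e) = 1 by linear_combination 2 * he.eq, one_smul, add_zero] at this
  · obtain ⟨w, hw⟩ := ((mem_GPin'_iff u).1 hu).1 v
    have h1 : (u : CliffordAlgebra Q) * ι Q v = ι Q w * u := by rw [hw]; simp [mul_assoc]
    have h2 : ι Q v * star (u : CliffordAlgebra Q) = star (u : CliffordAlgebra Q) * ι Q w := by
      have := congrArg star h1
      simp only [star_mul, CliffordAlgebra.star_ι, neg_mul, mul_neg, neg_inj] at this
      exact this
    rw [← mul_assoc, h2, mul_assoc, ← h1, ← mul_assoc]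

omit [Module.Free R M] in
theorem lie_vectors (a c v : M) : ι Q a * ι Q c * ι Q v - ι Q v * (ι Q a * ι Q c) =
    ι Q (QuadraticMap.polar Q c v • a - QuadraticMap.polar Q a v • c) := by
  rw [map_sub, map_smul, map_smul, Algebra.smul_def, Algebra.smul_def,
    Algebra.commutes (QuadraticMap.polar Q c v) (ι Q a), ← ι_mul_ι_add_swap, ← ι_mul_ι_add_swap]
  noncomm_ring

/-- An even element of the Lie algebra of the Clifford group with trace one. -/
theorem exists_lie_trace_one (hn : 2 ≤ n) (hQ : GoodMat (polMat Q b)) :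
    ∃ X : CliffordAlgebra Q, X ∈ evenOdd Q 0 ∧ star X + X = 1 ∧
      ∀ v, X * ι Q v - ι Q v * X ∈ LinearMap.range (ι Q) := by
  classical
  let 𝔟 : Ideal R :=
    { carrier := {r | ∃ X : CliffordAlgebra Q, X ∈ evenOdd Q 0 ∧ star X + X = algebraMap R _ r ∧
        ∀ v, X * ι Q v - ι Q v * X ∈ LinearMap.range (ι Q)}
      add_mem' := by
        rintro r s ⟨X, h0, h1, h2⟩ ⟨Y, k0, k1, k2⟩
        exact ⟨X + Y, Submodule.add_mem _ h0 k0, by rw [star_add, map_add, ← h1, ← k1]; abel, fun v => by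
          rw [add_mul, mul_add, add_sub_add_comm]; exact Submodule.add_mem _ (h2 v) (k2 v)⟩
      zero_mem' := ⟨0, Submodule.zero_mem _, by simp, fun v => by simp⟩
      smul_mem' := by
        rintro s r ⟨X, h0, h1, h2⟩
        exact ⟨s • X, Submodule.smul_mem _ _ h0, by
          rw [CliffordAlgebra.star_smul, ← smul_add, h1, Algebra.smul_def, smul_eq_mul, map_mul], fun v => by
          rw [smul_mul_assoc, mul_smul_comm, ← smul_sub]; exact Submodule.smul_mem _ _ (h2 v)⟩ }
  have hent : ∀ k l, polMat Q b k l ∈ 𝔟 := fun k l =>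
    ⟨ι Q (b k) * ι Q (b l), ι_mul_ι_mem_evenOdd_zero Q _ _, by
      rw [star_mul, CliffordAlgebra.star_ι, CliffordAlgebra.star_ι, neg_mul_neg, ι_mul_ι_add_swap,
        QuadraticMap.polar_comm]; rfl,
      fun v => ⟨_, (lie_vectors (b k) (b l) v).symm⟩⟩
  suffices 𝔟 = ⊤ by
    obtain ⟨X, h0, h1, h2⟩ := (this.symm ▸ Submodule.mem_top : (1 : R) ∈ 𝔟)
    exact ⟨X, h0, h1.trans (map_one _), h2⟩
  rw [eq_top_iff, ← hQ, Ideal.span_le]
  have hz : (polMat Q b).map (Ideal.Quotient.mk 𝔟) = 0 :=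
    Matrix.ext fun k l => Ideal.Quotient.eq_zero_iff_mem.2 (hent k l)
  haveI : Nonempty (Fin n) := ⟨⟨0, by omega⟩⟩
  rintro D (rfl | ⟨i, rfl⟩) <;> refine Ideal.Quotient.eq_zero_iff_mem.1 ?_
  · rw [RingHom.map_det, RingHom.mapMatrix_apply, hz, Matrix.det_zero]
  · haveI : Nontrivial (Fin n) := Fin.nontrivial_iff_two_le.2 hn
    have h := RingHom.map_adjugate (Ideal.Quotient.mk 𝔟) (polMat Q b)
    rw [RingHom.mapMatrix_apply, RingHom.mapMatrix_apply, hz, Matrix.adjugate_zero] at h
    exact congrFun (congrFun h i) i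

/-- Correct the norm of a point of the Clifford group by an element congruent to one. -/
theorem exists_norm_fix (hn : 2 ≤ n) (hQ : GoodMat (polMat Q b)) (I : Ideal R) (hI : I ^ 2 = ⊥)
    (u : (CliffordAlgebra Q)ˣ) (hu : u ∈ QuadGrp.GPin' Q) {i : R} (hi : i ∈ I)
    (hN : star (u : CliffordAlgebra Q) * u = algebraMap R _ (1 + i)) :
    ∃ z : (CliffordAlgebra Q)ˣ, u * z ∈ QuadGrp.GPin' Q ∧ (z : CliffordAlgebra Q) ∈ evenOdd Q 0 ∧
      (z : CliffordAlgebra Q) - 1 ∈ I • (⊤ : Submodule R (CliffordAlgebra Q)) ∧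
      (↑z⁻¹ : CliffordAlgebra Q) - 1 ∈ I • (⊤ : Submodule R (CliffordAlgebra Q)) ∧
      star ((↑(u * z) : CliffordAlgebra Q)) * ↑(u * z) = 1 := by
  obtain ⟨X, hX0, hX1, hX⟩ := exists_lie_trace_one hn hQ
  have hii : i * i = 0 := by
    have h : i * i ∈ I ^ 2 := pow_two I ▸ Ideal.mul_mem_mul hi hi
    rwa [hI, Ideal.mem_bot] at h
  have hxx : ∀ a c : CliffordAlgebra Q, (i • a) * (i • c) = 0 := fun a c => by
    rw [smul_mul_smul_comm, hii, zero_smul]
  have g1 : ∀ Y : CliffordAlgebra Q, (1 - Y) * (1 + Y) = 1 - Y * Y := fun Y => by noncomm_ring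
  have g2 : ∀ Y : CliffordAlgebra Q, (1 + Y) * (1 - Y) = 1 - Y * Y := fun Y => by noncomm_ring
  have g3 : ∀ Y V : CliffordAlgebra Q, (1 - Y) * V * (1 + Y) = V - (Y * V - V * Y) - Y * V * Y := fun Y V => by
    noncomm_ring
  have g4 : ∀ Y V : CliffordAlgebra Q, (1 + Y) * V * (1 - Y) = V + (Y * V - V * Y) - Y * V * Y := fun Y V => by
    noncomm_ring
  have g5 : ∀ a c d : CliffordAlgebra Q, (1 - a + c) * (1 - d) = 1 + c - (a + d) + (a * d - c * d) := fun a c d => by
    noncomm_ring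
  let z : (CliffordAlgebra Q)ˣ := ⟨1 - i • X, 1 + i • X,
    by rw [g1, hxx, sub_zero],
    by rw [g2, hxx, sub_zero]⟩
  have hz : z ∈ QuadGrp.GPin' Q := by
    refine (mem_GPin'_iff z).2 ⟨fun v => ?_, fun v => ?_⟩
    · change (1 - i • X) * ι Q v * (1 + i • X) ∈ _
      rw [g3, smul_mul_assoc, mul_smul_comm, hxx, sub_zero, ← smul_sub]
      exact Submodule.sub_mem _ (LinearMap.mem_range_self _ v) (Submodule.smul_mem _ _ (hX v))
    · change (1 + i • X) * ι Q v * (1 - i • X) ∈ _
      rw [g4, smul_mul_assoc, mul_smul_comm, hxx, sub_zero, ← smul_sub]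
      exact Submodule.add_mem _ (LinearMap.mem_range_self _ v) (Submodule.smul_mem _ _ (hX v))
  refine ⟨z, Subgroup.mul_mem _ hu hz, Submodule.sub_mem _ (SetLike.one_mem_graded _) (Submodule.smul_mem _ _ hX0),
    ?_, ?_, ?_⟩
  · change 1 - i • X - 1 ∈ _
    rw [sub_sub_cancel_left]
    exact Submodule.neg_mem _ (Submodule.smul_mem_smul hi Submodule.mem_top)
  · change 1 + i • X - 1 ∈ _
    rw [add_sub_cancel_left]
    exact Submodule.smul_mem_smul hi Submodule.mem_top
  · rw [Units.val_mul, star_mul, mul_assoc, ← mul_assoc (star (u : CliffordAlgebra Q)), hN, ← mul_assoc,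
      ← Algebra.commutes, ← Algebra.smul_def]
    change ((1 + i) • star (1 - i • X)) * (1 - i • X) = 1
    rw [star_sub, star_one, CliffordAlgebra.star_smul, add_smul, one_smul, smul_sub, smul_smul, hii, zero_smul,
      sub_zero]
    calc (1 - i • star X + i • (1 : CliffordAlgebra Q)) * (1 - i • X)
        = 1 + i • (1 : CliffordAlgebra Q) - i • (star X + X) + ((i • star X) * (i • X) - (i • (1 : CliffordAlgebra Q)) * (i • X)) := by
          rw [g5, smul_add]
      _ = 1 := by rw [hX1, hxx, hxx]; abel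

end Groth.Agent.CliffSmooth
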