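import Groth.Agent.CliffSmooth.OddDescent
import Mathlib.RingTheory.LocalRing.Basic

/-!
# The centre of the Clifford algebra of a semiregular form of odd rank
-/

set_option autoImplicit false

universe u v w

namespace Groth.Agent.CliffSmooth

open CliffordAlgebra QuadGrp TensorProduct

section Map

variable {A : Type u} [CommRing A] {V : Type v} [AddCommGroup V] [Module A V] {W : Type w} [AddCommGroup W]
  [Module A W] {p : QuadraticForm A W} {q : QuadraticForm A V}

theorem map_mem_evenOdd (f : p →qᵢ q) {i : ZMod 2} {x : CliffordAlgebra p} (hx : x ∈ evenOdd p i) :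
    CliffordAlgebra.map f x ∈ evenOdd q i := by
  induction x, hx using CliffordAlgebra.evenOdd_induction (Q := p) (n := i) with
  | range_ι_pow v hv =>
    rcases zmod_two_cases i with rfl | rfl
    · rw [ZMod.val_zero, pow_zero, Submodule.mem_one] at hv
      obtain ⟨r, rfl⟩ := hv
      rw [AlgHom.commutes]
      exact SetLike.algebraMap_mem_graded _ _
    · rw [ZMod.val_one, pow_one] at hv
      obtain ⟨m, rfl⟩ := hv
      rw [map_apply_ι]
      exact ι_mem_evenOdd_one _ _
  | add x y hx hy ihx ihy => rw [map_add]; exact Submodule.add_mem _ ihx ihy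
  | ι_mul_ι_mul m₁ m₂ x hx ih =>
    rw [map_mul, map_mul, map_apply_ι, map_apply_ι]
    have := SetLike.mul_mem_graded (ι_mul_ι_mem_evenOdd_zero q (f m₁) (f m₂)) ih
    rwa [zero_add] at this

theorem map_star (f : p →qᵢ q) (x : CliffordAlgebra p) :
    CliffordAlgebra.map f (star x) = star (CliffordAlgebra.map f x) := by
  induction x using CliffordAlgebra.induction with
  | algebraMap r => rw [CliffordAlgebra.star_algebraMap, AlgHom.commutes, CliffordAlgebra.star_algebraMap]
  | ι v => rw [CliffordAlgebra.star_ι, map_neg, map_apply_ι, CliffordAlgebra.star_ι]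
  | mul a c ha hc => rw [star_mul, map_mul, map_mul, star_mul, ha, hc]
  | add a c ha hc => rw [star_add, map_add, map_add, star_add, ha, hc]

/-- Reading a form in coordinates. -/
noncomputable def coordForm {n : ℕ} (b : Module.Basis (Fin n) A V) (q : QuadraticForm A V) :
    QuadraticForm A (Fin n → A) := q.comp b.equivFun.symm.toLinearMap

/-- The coordinate isometry. -/
noncomputable def coordIso {n : ℕ} (b : Module.Basis (Fin n) A V) (q : QuadraticForm A V) :
    q.IsometryEquiv (coordForm b q) :=
  { b.equivFun with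
    map_app' := fun v => by
      change q (b.equivFun.symm (b.equivFun v)) = q v
      rw [LinearEquiv.symm_apply_apply] }

theorem isSemiregular_coordForm {n : ℕ} (b : Module.Basis (Fin n) A V) (q : QuadraticForm A V)
    (h : IsSemiregular b (LinearEquiv.refl A A) q) :
    IsSemiregular (Pi.basisFun A (Fin n)) (LinearEquiv.refl A A) (coordForm b q) := by
  have hc : coeffs (Pi.basisFun A (Fin n)) (LinearEquiv.refl A A) (coordForm b q) =
      coeffs b (LinearEquiv.refl A A) q := by
    funext s
    induction s using Sym2.ind with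
    | _ i j =>
      have hb : ∀ k, b.equivFun.symm (Pi.single k 1) = b k := fun k => by
        apply b.equivFun.injective
        rw [LinearEquiv.apply_symm_apply]
        ext l
        simp [Finsupp.single_apply, Pi.single_apply, eq_comm]
      simp [coeffs_mk, coordForm, QuadraticMap.polar, hb, Pi.basisFun_apply, map_add]
  rw [IsSemiregular, halfDisc, hc]
  exact h

end Map

section Main

variable {R : Type u} [CommRing R] {M : Type u} [AddCommGroup M] [Module R M] [Module.Free R M]
  {Q : QuadraticForm R M} {m : ℕ}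

/-- The involution on odd central elements, in the same universe. -/
theorem star_odd_central (b : Module.Basis (Fin (2 * m + 1)) R M) (hQ : IsSemiregular b (LinearEquiv.refl R R) Q)
    {x : CliffordAlgebra Q} (hx1 : x ∈ evenOdd Q 1) (hxc : ∀ v, ι Q v * x = x * ι Q v) :
    star x = ((-1 : R) ^ (m + 1)) • x := by
  obtain ⟨A, _, _, hA, F, fb, hfb, hg⟩ := exists_split b hQ
  haveI := hA.1
  obtain ⟨hz1, hzz, hzc, hzs⟩ := F.zc_spec fb hfb
  set y := (cb Q A).symm ((1 : A) ⊗ₜ[R] x)
  have hy1 : par _ 0 y = 0 := by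
    apply (cb Q A).injective
    rw [cb_par, AlgEquiv.apply_symm_apply, map_zero, parBC, LinearMap.baseChange_tmul, par_of_mem_ne Q hx1 (by decide),
      TensorProduct.tmul_zero]
  have hyc : ∀ v, ι (baseChangeForm A Q) v * y = y * ι (baseChangeForm A Q) v := by
    intro v
    apply (cb Q A).injective
    rw [map_mul, map_mul, AlgEquiv.apply_symm_apply, cb_ι]
    induction v using TensorProduct.induction_on with
    | zero => simp
    | add a c ha hc => rw [map_add, add_mul, mul_add, ha, hc]
    | tmul a w => rw [vecBC_tmul, Algebra.TensorProduct.tmul_mul_tmul, Algebra.TensorProduct.tmul_mul_tmul, hxc,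
        mul_comm a]
  obtain ⟨r, s, hrs⟩ := exists_of_central hg hz1 hzz hzc hyc
  have hy : y = s • F.zc := by
    have h := congrArg (par (baseChangeForm A Q) 0) hrs
    rw [hy1, map_add, par_of_mem _ (SetLike.algebraMap_mem_graded _ _),
      par_of_mem_ne _ (Submodule.smul_mem _ s hz1) (by decide), add_zero] at h
    rw [hrs, ← h, zero_add]
  have hs : star y = algebraMap R A ((-1) ^ (m + 1)) • y := by
    rw [hy, CliffordAlgebra.star_smul, hzs, smul_comm, map_pow, map_neg, map_one]
  have key : (1 : A) ⊗ₜ[R] star x = (1 : A) ⊗ₜ[R] (((-1 : R) ^ (m + 1)) • x) := by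
    have h := congrArg (cb Q A) hs
    rw [cb_star, map_smul, AlgEquiv.apply_symm_apply, LinearMap.baseChange_tmul, starL_apply] at h
    rw [h, TensorProduct.tmul_smul, algebraMap_smul]
  exact Module.FaithfullyFlat.tensorProduct_mk_injective (A := R) (B := A) (CliffordAlgebra Q) key

/-- An odd central unit over a local ring, in the same universe. -/
theorem exists_odd_unit [IsLocalRing R] (b : Module.Basis (Fin (2 * m + 1)) R M)
    (hQ : IsSemiregular b (LinearEquiv.refl R R) Q) :
    ∃ z : CliffordAlgebra Q, (∀ v, ι Q v * z = z * ι Q v) ∧ z ∈ evenOdd Q 1 ∧ IsUnit z := by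
  classical
  obtain ⟨A, _, _, hA, F, fb, hfb, -⟩ := exists_split b hQ
  haveI := hA.1
  obtain ⟨hz1, hzz, hzc, -⟩ := F.zc_spec fb hfb
  obtain ⟨p, hp⟩ : ∃ p, centreBC Q A p = cb Q A F.zc := exists_centreBC A b fun v => by
    rw [← vecBC_tmul, ← cb_ι, ← map_mul, ← map_mul, hzc]
  obtain ⟨S, rfl⟩ := TensorProduct.exists_finset p
  let ζ : A × ↥(Subalgebra.center R (CliffordAlgebra Q)) → CliffordAlgebra Q := fun i => par Q 1 i.2
  have hζc : ∀ i v, ι Q v * ζ i = ζ i * ι Q v := fun i v => by
    rw [← (par_mul_ι (Q := Q) 1 _ v).1, ← (par_mul_ι (Q := Q) 1 _ v).2, Subalgebra.mem_center_iff.1 i.2.2 _]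
  have hz : cb Q A F.zc = ∑ i ∈ S, i.1 ⊗ₜ[R] ζ i := by
    have h := congrArg (parBC Q A 1) hp
    rw [← cb_par, par_of_mem _ hz1] at h
    rw [← h, map_sum, map_sum]
    exact Finset.sum_congr rfl fun i _ => rfl
  have hprod : ∀ i j, ∃ c : R, algebraMap R (CliffordAlgebra Q) c = ζ i * ζ j := by
    intro i j
    have h := SetLike.mul_mem_graded (par_mem Q 1 (i.2 : CliffordAlgebra Q)) (par_mem Q 1 (j.2 : CliffordAlgebra Q))
    rw [show (1 : ZMod 2) + 1 = 0 from rfl] at h
    exact even_central (goodPolar_of_goodMat (goodMat_of_isSemiregular (odd_two_mul_add_one m) b hQ)) h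
      fun v => by rw [← mul_assoc, hζc, mul_assoc, hζc, ← mul_assoc]
  choose c hc using hprod
  by_cases hu : ∃ i ∈ S, ∃ j ∈ S, IsUnit (c i j)
  · obtain ⟨i, -, j, -, hij⟩ := hu
    have hcomm : ζ i * ζ j = ζ j * ζ i := by
      generalize ζ j = y
      induction y using CliffordAlgebra.induction with
      | algebraMap r => exact (Algebra.commutes r _).symm
      | ι v => exact (hζc i v).symm
      | add a d ha hd => rw [mul_add, add_mul, ha, hd]
      | mul a d ha hd => rw [← mul_assoc, ha, mul_assoc, hd, ← mul_assoc]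
    obtain ⟨cu, hcu⟩ := hij.map (algebraMap R (CliffordAlgebra Q))
    refine ⟨ζ i, hζc i, par_mem Q 1 _, ⟨⟨ζ i, ζ j * ↑cu⁻¹, by rw [← mul_assoc, ← hc, ← hcu, Units.mul_inv], ?_⟩, rfl⟩⟩
    have hcomm' : ↑cu⁻¹ * ζ i = ζ i * ↑cu⁻¹ := by
      have h0 : (cu : CliffordAlgebra Q) * ζ i = ζ i * cu := by rw [hcu]; exact Algebra.commutes _ _
      calc ↑cu⁻¹ * ζ i = ↑cu⁻¹ * (ζ i * cu) * ↑cu⁻¹ := by simp [mul_assoc]
        _ = ↑cu⁻¹ * (↑cu * ζ i) * ↑cu⁻¹ := by rw [h0]
        _ = _ := by simp [← mul_assoc]
    rw [mul_assoc, hcomm', ← mul_assoc, ← hcomm, ← hc, ← hcu, Units.mul_inv]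
  · exfalso
    push Not at hu
    have h1 : (1 : A) ∈ (IsLocalRing.maximalIdeal R).map (algebraMap R A) := by
      have e : algebraMap A (A ⊗[R] CliffordAlgebra Q) (∑ i ∈ S, ∑ j ∈ S, i.1 * j.1 * algebraMap R A (c i j)) = 1 := by
        rw [← map_one (cb Q A), ← hzz, map_mul, hz, Finset.sum_mul_sum, map_sum]
        refine Finset.sum_congr rfl fun i _ => ?_
        rw [map_sum]
        refine Finset.sum_congr rfl fun j _ => ?_
        rw [Algebra.TensorProduct.tmul_mul_tmul, ← hc, Algebra.TensorProduct.algebraMap_apply, Algebra.algebraMap_self,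
          RingHom.id_apply, Algebra.algebraMap_eq_smul_one (A := CliffordAlgebra Q) (c i j),
          TensorProduct.tmul_smul, TensorProduct.smul_tmul', Algebra.smul_def, mul_comm (algebraMap R A (c i j))]
      have h2 := congrArg (cb Q A).symm e
      rw [AlgEquiv.commutes, map_one, ← map_one (algebraMap A (CliffordAlgebra (baseChangeForm A Q)))] at h2
      rw [← algebraMap_injective _ h2]
      exact Ideal.sum_mem _ fun i hi => Ideal.sum_mem _ fun j hj =>
        Ideal.mul_mem_left _ _ (Ideal.mem_map_of_mem _ ((IsLocalRing.mem_maximalIdeal _).2 (hu i hi j hj)))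
    rw [← Ideal.eq_top_iff_one] at h1
    have := Ideal.comap_map_eq_self_of_faithfullyFlat (B := A) (IsLocalRing.maximalIdeal R)
    rw [h1, Ideal.comap_top] at this
    exact (IsLocalRing.maximalIdeal.isMaximal R).ne_top this.symm

end Main

section AnyUniverse

variable {R : Type u} [CommRing R] {M : Type v} [AddCommGroup M] [Module R M] [Module.Free R M]
  {Q : QuadraticForm R M} {m : ℕ}

theorem map_central (b : Module.Basis (Fin (2 * m + 1)) R M) {x : CliffordAlgebra Q}
    (hxc : ∀ v, ι Q v * x = x * ι Q v) (w : Fin (2 * m + 1) → R) :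
    ι (coordForm b Q) w * CliffordAlgebra.map (coordIso b Q).toIsometry x =
      CliffordAlgebra.map (coordIso b Q).toIsometry x * ι (coordForm b Q) w := by
  obtain ⟨v, rfl⟩ := b.equivFun.surjective w
  rw [show b.equivFun v = (coordIso b Q).toIsometry v from rfl, ← map_apply_ι, ← map_mul, ← map_mul, hxc]

/-- The involution on odd central elements. -/
theorem star_odd_central' (b : Module.Basis (Fin (2 * m + 1)) R M) (hQ : IsSemiregular b (LinearEquiv.refl R R) Q)
    {x : CliffordAlgebra Q} (hx1 : x ∈ evenOdd Q 1) (hxc : ∀ v, ι Q v * x = x * ι Q v) :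
    star x = ((-1 : R) ^ (m + 1)) • x := by
  apply (equivOfIsometry (coordIso b Q)).injective
  rw [map_smul]
  change CliffordAlgebra.map (coordIso b Q).toIsometry (star x) = _
  rw [map_star]
  exact star_odd_central (Pi.basisFun R _) (isSemiregular_coordForm b Q hQ) (map_mem_evenOdd _ hx1) (map_central b hxc)

/-- An odd central unit over a local ring, with square a scalar, generating the centre. -/
theorem exists_centre_gen [IsLocalRing R] (b : Module.Basis (Fin (2 * m + 1)) R M)
    (hQ : IsSemiregular b (LinearEquiv.refl R R) Q) :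
    ∃ (z : CliffordAlgebra Q) (c : R), (∀ y, y * z = z * y) ∧ z ∈ evenOdd Q 1 ∧ IsUnit z ∧ IsUnit c ∧
      algebraMap R _ c = z * z ∧
      ∀ x : CliffordAlgebra Q, (∀ v, ι Q v * x = x * ι Q v) → ∃ r s : R, x = algebraMap R _ r + s • z := by
  obtain ⟨z', hzc', hz1', hzu'⟩ := exists_odd_unit (Pi.basisFun R _) (isSemiregular_coordForm b Q hQ)
  set E := equivOfIsometry (coordIso b Q)
  set z := E.symm z'
  have hz1 : z ∈ evenOdd Q 1 := map_mem_evenOdd (coordIso b Q).symm.toIsometry hz1'
  have hcom : ∀ y, y * z = z * y := by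
    intro y
    apply E.injective
    rw [map_mul, map_mul, AlgEquiv.apply_symm_apply]
    generalize E y = w
    induction w using CliffordAlgebra.induction with
    | algebraMap r => exact Algebra.commutes r z'
    | ι v => exact hzc' v
    | add a c ha hc => rw [add_mul, mul_add, ha, hc]
    | mul a c ha hc => rw [mul_assoc, hc, ← mul_assoc, ha, mul_assoc]
  have hzu : IsUnit z := hzu'.map E.symm
  have hg : GoodPolar Q b := goodPolar_of_goodMat (goodMat_of_isSemiregular (odd_two_mul_add_one m) b hQ)
  have hzz := SetLike.mul_mem_graded hz1 hz1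
  rw [show (1 : ZMod 2) + 1 = 0 from rfl] at hzz
  obtain ⟨c, hc⟩ := even_central hg hzz fun v => by rw [← mul_assoc, hcom, mul_assoc, hcom, ← mul_assoc]
  have hcu : IsUnit c := by
    have h := (hzu.mul hzu)
    rw [← hc] at h
    have h' : ∀ {y : CliffordAlgebra Q}, algebraMap R _ c * y = 1 → IsUnit c := fun {y} hy => by
      refine IsUnit.of_mul_eq_one (ExteriorAlgebra.algebraMapInv (toExt Q y)) ?_
      have := congrArg (fun w => ExteriorAlgebra.algebraMapInv (toExt Q w)) hy
      rw [← Algebra.smul_def] at this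
      simp only [map_smul, smul_eq_mul] at this
      rw [this, ← map_one (algebraMap R (CliffordAlgebra Q)), toExt_algebraMap, AlgHom.commutes, Algebra.algebraMap_self,
        RingHom.id_apply]
    obtain ⟨u, hu⟩ := h
    exact h' (y := ↑u⁻¹) (by rw [← hu, Units.mul_inv])
  refine ⟨z, c, hcom, hz1, hzu, hcu, hc, fun x hx => ?_⟩
  have hcp : ∀ i v, ι Q v * par Q i x = par Q i x * ι Q v := fun i v => by
    rw [← (par_mul_ι (Q := Q) i x v).1, ← (par_mul_ι (Q := Q) i x v).2, hx]
  obtain ⟨r, hr⟩ := even_central hg (par_mem Q 0 x) (hcp 0)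
  have h1 := SetLike.mul_mem_graded hz1 (par_mem Q 1 x)
  rw [show (1 : ZMod 2) + 1 = 0 from rfl] at h1
  obtain ⟨s, hs⟩ := even_central hg h1 fun v => by rw [← mul_assoc, hcom, mul_assoc, hcp, ← mul_assoc]
  obtain ⟨cu, hcu'⟩ := hcu
  refine ⟨r, ↑cu⁻¹ * s, ?_⟩
  have h2 : par Q 1 x = (↑cu⁻¹ * s) • z := by
    rw [mul_smul, Algebra.smul_def s z, hs, mul_assoc, hcom, ← mul_assoc, ← hc, ← hcu', ← Algebra.smul_def,
      smul_smul, Units.inv_mul, one_smul]
  rw [← h2, hr]
  exact (par_add_par Q x).symm

end AnyUniverse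

end Groth.Agent.CliffSmooth
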