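import Groth.Agent.CliffSmooth.FrameAlg

/-!
# Semiregular forms of odd rank are fppf locally the split form
-/

set_option autoImplicit false

universe u

namespace Groth.Agent.CliffSmooth

open QuadGrp TensorProduct

variable {A : Type u} [CommRing A] {V W : Type u} [AddCommGroup V] [Module A V] [AddCommGroup W] [Module A W]
  {q : QuadraticForm A V} {p : QuadraticForm A W} {m : ℕ}

/-- Forms with full frames forming bases are isometric. -/
theorem isometry_of_frames (F : FullFrame q m) (G : FullFrame p m) (fb : Module.Basis (FIdx m) A V)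
    (gb : Module.Basis (FIdx m) A W) (hf : ∀ a, fb a = F.vec a) (hg : ∀ a, gb a = G.vec a) :
    Nonempty (q.IsometryEquiv p) := by
  classical
  let σ : Fin (2 * m + 1) ≃ FIdx m := Fintype.equivOfCardEq (by simp [two_mul])
  let fb' := fb.reindex σ.symm
  let gb' := gb.reindex σ.symm
  let e : V ≃ₗ[A] W := fb'.equiv gb' (Equiv.refl _)
  have he : ∀ i, e (fb' i) = gb' i := fun i => by simp [e]
  have hq : ∀ a, q (F.vec a) = p (G.vec a) := fun a => by
    rcases a with _ | (i | i) <;> simp [FullFrame.vec, F.qv, G.qv, F.qe, G.qe, F.qf, G.qf]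
  have hb : q.toBilin fb' = (p.comp e.toLinearMap).toBilin fb' := by
    refine fb'.ext fun i => fb'.ext fun j => ?_
    rw [QuadraticMap.toBilin_apply, QuadraticMap.toBilin_apply]
    have hp : QuadraticMap.polar (p.comp e.toLinearMap) (fb' i) (fb' j) = QuadraticMap.polar p (gb' i) (gb' j) := by
      simp [QuadraticMap.polar, map_add, he]
    rw [hp, QuadraticMap.comp_apply, LinearEquiv.coe_coe, he]
    simp only [fb', gb', Module.Basis.reindex_apply, Equiv.symm_symm, hf, hg, hq, F.polar_vec, G.polar_vec]
  have heq : q = p.comp e.toLinearMap := by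
    rw [← QuadraticMap.toQuadraticMap_toBilin q fb', hb, QuadraticMap.toQuadraticMap_toBilin]
  exact ⟨{ e with map_app' := fun v => (congrArg (fun r => r v) heq).symm }⟩

variable (A) in
/-- Index of a frame vector in the split form. -/
def splitIdx (m : ℕ) : FIdx m → Fin (2 * m + 1)
  | none => ⟨0, by omega⟩
  | some (Sum.inl i) => ⟨2 * i + 1, by omega⟩
  | some (Sum.inr i) => ⟨2 * i + 2, by omega⟩

theorem splitIdx_injective (m : ℕ) : Function.Injective (splitIdx m) := by
  rintro (_ | (i | i)) (_ | (j | j)) h <;> simp [splitIdx, Fin.ext_iff] at h ⊢ <;> omega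

theorem splitForm_odd_apply {R : Type u} [CommRing R] (m : ℕ) (x : Fin (2 * m + 1) → R) :
    splitForm R (2 * m + 1) x = (∑ i : Fin m, x (splitIdx m (some (Sum.inl i))) * x (splitIdx m (some (Sum.inr i)))) +
      x (splitIdx m none) * x (splitIdx m none) := by
  have h2 : (2 * m + 1) % 2 = 1 := by omega
  rw [splitForm, dif_pos h2, QuadraticMap.add_apply, QuadraticMap.sum_apply]
  congr 1
  · refine Fintype.sum_equiv (finCongr (by omega)) _ _ fun i => ?_
    simp only [QuadraticMap.linMulLin_apply, LinearMap.proj_apply, splitIdx, finCongr_apply, Fin.val_cast]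
    congr 2 <;> exact Fin.ext (by simp only; omega)

theorem split_polar {R : Type u} [CommRing R] (m : ℕ) (a c : FIdx m) :
    QuadraticMap.polar (splitForm R (2 * m + 1)) (Pi.single (splitIdx m a) 1) (Pi.single (splitIdx m c) 1) =
      if c = partner m a then (if a = none then 2 else 1) else 0 := by
  classical
  simp only [QuadraticMap.polar, splitForm_odd_apply, Pi.add_apply, Pi.single_apply, (splitIdx_injective m).eq_iff]
  rcases a with _ | (i | i) <;> rcases c with _ | (j | j) <;>
    simp [partner, add_mul, mul_add, Finset.sum_add_distrib, eq_comm] <;> ring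

theorem split_value {R : Type u} [CommRing R] (m : ℕ) (a : FIdx m) :
    splitForm R (2 * m + 1) (Pi.single (splitIdx m a) 1) = if a = none then 1 else 0 := by
  classical
  simp only [splitForm_odd_apply, Pi.single_apply, (splitIdx_injective m).eq_iff]
  rcases a with _ | (i | i) <;> simp

/-- The standard frame of the split form after base change. -/
theorem exists_split_frame (R : Type u) [CommRing R] (A : Type u) [CommRing A] [Algebra R A] (m : ℕ) :
    ∃ (G : FullFrame (baseChangeForm A (splitForm R (2 * m + 1))) m)
      (gb : Module.Basis (FIdx m) A (A ⊗[R] (Fin (2 * m + 1) → R))), ∀ a, gb a = G.vec a := by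
  classical
  let w : FIdx m → A ⊗[R] (Fin (2 * m + 1) → R) := fun a => (1 : A) ⊗ₜ[R] Pi.single (splitIdx m a) 1
  have hq : ∀ a, baseChangeForm A (splitForm R (2 * m + 1)) (w a) = if a = none then 1 else 0 := fun a => by
    rw [baseChangeForm_one_tmul, split_value]; split_ifs <;> simp
  have hp : ∀ a c, QuadraticMap.polar (baseChangeForm A (splitForm R (2 * m + 1))) (w a) (w c) =
      if c = partner m a then (if a = none then 2 else 1) else 0 := fun a c => by
    rw [polar_baseChangeForm, split_polar, one_mul, one_mul]
    split_ifs <;> simp [map_ofNat]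
  let G : FullFrame (baseChangeForm A (splitForm R (2 * m + 1))) m :=
    ⟨⟨fun i => w (some (Sum.inl i)), fun i => w (some (Sum.inr i)), fun i => by rw [hq]; simp, fun i => by rw [hq]; simp,
      fun i j => by rw [hp]; simp [partner, eq_comm], fun i j => by rw [hp]; simp [partner], fun i j => by rw [hp]; simp [partner]⟩,
      w none, by rw [hq]; simp, fun i => by rw [hp]; simp [partner], fun i => by rw [hp]; simp [partner]⟩
  let σ : FIdx m ≃ Fin (2 * m + 1) := Equiv.ofBijective (splitIdx m)
    ((Fintype.bijective_iff_injective_and_card _).2 ⟨splitIdx_injective m, by simp [two_mul]⟩)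
  refine ⟨G, ((Algebra.TensorProduct.basis A (Pi.basisFun R (Fin (2 * m + 1)))).reindex σ.symm), fun a => ?_⟩
  rcases a with _ | (i | i) <;>
    simp [G, w, FullFrame.vec, Algebra.TensorProduct.basis_apply, Pi.basisFun_apply, σ, Equiv.ofBijective_apply]

end Groth.Agent.CliffSmooth
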