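import Groth.Agent.CliffSmooth.OddCentre
import Groth.Agent.CliffSmooth.SplitIso
import Groth.Agent.CliffSmooth.EvenLift
import Groth.Agent.OrthSmooth.RelDim
import Mathlib.RingTheory.Smooth.Flat
import Mathlib.RingTheory.Flat.TorsionFree
import Mathlib.RingTheory.Nilpotent.Lemmas
import Groth.Agent.CliffSmooth.EvenDet
import Groth.Agent.OrthSmooth.SOrthOdd

/-!
# The odd central involution under isometries, and lifting in odd rank
-/

set_option autoImplicit false

universe u v w

namespace Groth.Agent.CliffSmooth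

open CliffordAlgebra QuadGrp TensorProduct Groth.Agent.OrthSmooth Groth.Agent.QuadHalfDisc

/-- A form with a full frame as basis is semiregular. -/
theorem FullFrame.isSemiregular {A : Type u} [CommRing A] {V : Type u} [AddCommGroup V] [Module A V]
    {q : QuadraticForm A V} {m : ℕ} (F : FullFrame q m) (b : Module.Basis (Fin (2 * m + 1)) A V)
    (σ : Fin (2 * m + 1) ≃ FIdx m) (hgb : ∀ l, b l = F.vec (σ l)) : IsSemiregular b (LinearEquiv.refl A A) q := by
  classical
  set c := coeffs b (LinearEquiv.refl A A) q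
  set i := σ.symm none
  have hc : ∀ j l, c (Sym2.mk j l) = if j = l then (if j = i then 1 else 0)
      else (if σ l = partner m (σ j) then 1 else 0) := by
    intro j l
    simp only [c, coeffs_mk, LinearEquiv.refl_apply]
    by_cases h : j = l
    · subst h
      rw [if_pos rfl, if_pos rfl, hgb]
      rcases hj : σ j with _ | (a | a)
      · simp [i, ← hj, FullFrame.vec, F.qv]
      · have hne : j ≠ i := fun e => by simp [e, i] at hj
        simp [hne, FullFrame.vec, F.qe]
      · have hne : j ≠ i := fun e => by simp [e, i] at hj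
        simp [hne, FullFrame.vec, F.qf]
    · rw [if_neg h, if_neg h]
      rw [hgb, hgb, F.polar_vec]
      by_cases hp : σ l = partner m (σ j)
      · rw [if_pos hp, if_pos hp, if_neg]
        intro hj
        rw [hj] at hp
        exact h (σ.injective (hj.trans (hp.trans rfl).symm))
      · rw [if_neg hp, if_neg hp]
  have hh : IsUnit (OrthSmooth.hd (QuadHalfDisc.co (QuadHalfDisc.up c))) := by
    rw [OrthSmooth.hd_block (odd_two_mul_add_one m) i]
    · have h1 : QuadHalfDisc.up c i i = 1 := by simp [QuadHalfDisc.up, hc]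
      rw [h1, one_mul, Matrix.adjugate_apply]
      set P := (QuadHalfDisc.up c + (QuadHalfDisc.up c).transpose).updateRow i (Pi.single i 1)
      let π : Fin (2 * m + 1) → Fin (2 * m + 1) := fun j => σ.symm (partner m (σ j))
      have hP : P = Matrix.of fun j l => if l = π j then (1 : A) else 0 := by
        ext j l
        by_cases hj : j = i
        · subst hj
          simp only [P, Matrix.updateRow_self, Matrix.of_apply, π, i, Equiv.apply_symm_apply]
          simp [partner, Pi.single_apply]
        · have hσ : σ j ≠ none := fun e => hj (by simp [i, ← e])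
          have hjl : (QuadHalfDisc.up c + (QuadHalfDisc.up c).transpose) j l =
              if j = l then 2 * c (Sym2.mk j j) else c (Sym2.mk j l) := by
            rcases lt_trichotomy j l with h | h | h
            · simp [QuadHalfDisc.up, h.le, h.not_ge, h.ne]
            · subst h; simp [QuadHalfDisc.up, two_mul]
            · simp [QuadHalfDisc.up, h.le, h.not_ge, h.ne', Sym2.eq_swap]
          simp only [P, Matrix.updateRow_ne hj, Matrix.of_apply, hjl, π, hc]
          by_cases h : j = l
          · subst h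
            have : j ≠ σ.symm (partner m (σ j)) := fun e => by
              have e' := congrArg σ e
              rw [Equiv.apply_symm_apply] at e'
              rcases hh' : σ j with _ | (a | a)
              · exact hσ hh'
              · rw [hh'] at e'; simp [partner] at e'
              · rw [hh'] at e'; simp [partner] at e'
            simp [hj, this]
          · simp [h, Equiv.eq_symm_apply]
      have hinv : P * P = 1 := by
        rw [hP]
        ext j l
        simp only [Matrix.mul_apply, Matrix.of_apply, ite_mul, one_mul, zero_mul, Finset.sum_ite_eq', Finset.mem_univ,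
          if_true, Matrix.one_apply]
        simp [π, partner_partner, eq_comm]
      exact IsUnit.of_mul_eq_one P.det (by rw [← Matrix.det_mul, hinv, Matrix.det_one])
    · intro l hl
      simp only [QuadHalfDisc.up, Matrix.of_apply, hc, if_neg (Ne.symm hl)]
      have : ¬ σ l = partner m (σ i) := by
        simp only [i, Equiv.apply_symm_apply, partner, Option.map_none]
        exact fun e => hl (by simp [i, ← e])
      simp [this]
    · intro l hl
      simp only [QuadHalfDisc.up, Matrix.of_apply, hc, if_neg hl]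
      have : ¬ σ i = partner m (σ l) := by
        intro e
        have := congrArg (partner m) e
        rw [partner_partner] at this
        simp only [i, Equiv.apply_symm_apply, partner, Option.map_none] at this
        exact hl (by simp [i, this])
      simp [this]
  rw [QuadHalfDisc.co_up] at hh
  exact hh

section Scalar

variable {A : Type u} [CommRing A] {V : Type v} [AddCommGroup V] [Module A V] [Module.Free A V]
  {q : QuadraticForm A V} {n : ℕ} {b : Module.Basis (Fin n) A V}

/-- The scalar by which an isometry moves an odd central involution. -/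
noncomputable def zsc (q : QuadraticForm A V) (z : CliffordAlgebra q) (g : V ≃ₗ[A] V) (hg : g ∈ O q) : A :=
  ExteriorAlgebra.algebraMapInv (toExt q (CliffordAlgebra.map (isometryOfMem q g hg) z * z))

omit [Module.Free A V] in
theorem central_mul {z : CliffordAlgebra q} (hc : ∀ v, ι q v * z = z * ι q v) (y : CliffordAlgebra q) : y * z = z * y := by
  induction y using CliffordAlgebra.induction with
  | algebraMap r => exact Algebra.commutes r z
  | ι v => exact hc v
  | add a c ha hc' => rw [add_mul, mul_add, ha, hc']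
  | mul a c ha hc' => rw [mul_assoc, hc', ← mul_assoc, ha, mul_assoc]

theorem zsc_spec (hb : GoodPolar q b) {z : CliffordAlgebra q} (hz1 : z ∈ evenOdd q 1) (hzz : z * z = 1)
    (hzc : ∀ v, ι q v * z = z * ι q v) (g : V ≃ₗ[A] V) (hg : g ∈ O q) :
    CliffordAlgebra.map (isometryOfMem q g hg) z = zsc q z g hg • z ∧ zsc q z g hg * zsc q z g hg = 1 := by
  set Φ := CliffordAlgebra.map (isometryOfMem q g hg)
  have hΦ1 : Φ z ∈ evenOdd q 1 := map_mem_evenOdd _ hz1
  have hΦc : ∀ v, ι q v * Φ z = Φ z * ι q v := fun v => by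
    obtain ⟨w, rfl⟩ := g.surjective v
    rw [← isometryOfMem_apply q g hg, ← map_apply_ι, ← map_mul, ← map_mul, hzc]
  obtain ⟨s, hs⟩ := even_central hb (x := Φ z * z) (by
    have := SetLike.mul_mem_graded hΦ1 hz1
    rwa [show (1 : ZMod 2) + 1 = 0 from rfl] at this)
    fun v => by rw [← mul_assoc, hΦc, mul_assoc, hzc, ← mul_assoc]
  have hS : zsc q z g hg = s := by
    rw [zsc, show CliffordAlgebra.map (isometryOfMem q g hg) z * z = algebraMap A _ s from hs.symm, toExt_algebraMap]
    exact ExteriorAlgebra.algebraMap_leftInverse V s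
  have e1 : Φ z = s • z := by
    rw [Algebra.smul_def, hs, mul_assoc, hzz, mul_one]
  refine ⟨hS ▸ e1, ?_⟩
  rw [hS]
  apply algebraMap_injective q
  rw [map_one, ← map_one Φ, ← hzz, map_mul Φ, e1, smul_mul_smul_comm, hzz, Algebra.algebraMap_eq_smul_one]

theorem zsc_comp (hb : GoodPolar q b) {z : CliffordAlgebra q} (hz1 : z ∈ evenOdd q 1) (hzz : z * z = 1)
    (hzc : ∀ v, ι q v * z = z * ι q v) (g h : V ≃ₗ[A] V) (hg : g ∈ O q) (hh : h ∈ O q) :
    zsc q z (g * h) ((O q).mul_mem hg hh) = zsc q z g hg * zsc q z h hh := by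
  have hc : CliffordAlgebra.map (isometryOfMem q (g * h) ((O q).mul_mem hg hh)) =
      (CliffordAlgebra.map (isometryOfMem q g hg)).comp (CliffordAlgebra.map (isometryOfMem q h hh)) := by
    apply CliffordAlgebra.hom_ext; ext w; simp [isometryOfMem]
  apply algebraMap_injective q
  rw [Algebra.algebraMap_eq_smul_one, Algebra.algebraMap_eq_smul_one, ← hzz, ← smul_mul_assoc, ← smul_mul_assoc,
    ← (zsc_spec hb hz1 hzz hzc _ _).1, hc, AlgHom.comp_apply, (zsc_spec hb hz1 hzz hzc h hh).1, map_smul,
    (zsc_spec hb hz1 hzz hzc g hg).1, smul_smul, mul_comm]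

variable {A' : Type u} [CommRing A'] {V' : Type w} [AddCommGroup V'] [Module A' V'] [Module.Free A' V']
  {q' : QuadraticForm A' V'} {n' : ℕ} {b' : Module.Basis (Fin n') A' V'}

theorem zsc_natural (hb : GoodPolar q b) (hb' : GoodPolar q' b') {z : CliffordAlgebra q} (hz1 : z ∈ evenOdd q 1)
    (hzz : z * z = 1) (hzc : ∀ v, ι q v * z = z * ι q v) (φ : A →+* A') (ψ : V → V')
    (F : CliffordAlgebra q →+* CliffordAlgebra q') (hF : ∀ v, F (ι q v) = ι q' (ψ v))
    (hFa : ∀ a, F (algebraMap A _ a) = algebraMap A' _ (φ a))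
    (hz1' : F z ∈ evenOdd q' 1) (hzc' : ∀ v, ι q' v * F z = F z * ι q' v)
    {g : V ≃ₗ[A] V} (hg : g ∈ O q) {g' : V' ≃ₗ[A'] V'} (hg' : g' ∈ O q') (hc : ∀ v, g' (ψ v) = ψ (g v)) :
    zsc q' (F z) g' hg' = φ (zsc q z g hg) := by
  have hzz' : F z * F z = 1 := by rw [← map_mul, hzz, map_one]
  apply algebraMap_injective q'
  rw [Algebra.algebraMap_eq_smul_one, ← hzz', ← smul_mul_assoc, ← (zsc_spec hb' hz1' hzz' hzc' g' hg').1,
    ← hom_map_comm φ ψ F hF hFa (hg := hg) (hg' := hg') hc, (zsc_spec hb hz1 hzz hzc g hg).1, Algebra.smul_def, map_mul, hFa,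
    mul_assoc, hzz', mul_one]

end Scalar

section Universal

variable (m : ℕ)

/-- The frame of the split form. -/
noncomputable def splitFrame (S : Type u) [CommRing S] : FullFrame (splitForm S (2 * m + 1)) m where
  e i := Pi.single (splitIdx m (some (Sum.inl i))) 1
  f i := Pi.single (splitIdx m (some (Sum.inr i))) 1
  qe i := by rw [split_value]; simp
  qf i := by rw [split_value]; simp
  ef i j := by rw [split_polar]; simp [partner, eq_comm]
  ee i j := by rw [split_polar]; simp [partner]
  ff i j := by rw [split_polar]; simp [partner]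
  v := Pi.single (splitIdx m none) 1
  qv := by rw [split_value]; simp
  ve i := by rw [split_polar]; simp [partner]
  vf i := by rw [split_polar]; simp [partner]

/-- The indices of the frame of the split form. -/
noncomputable def splitSigma : FIdx m ≃ Fin (2 * m + 1) := Equiv.ofBijective (splitIdx m)
  ((Fintype.bijective_iff_injective_and_card _).2 ⟨splitIdx_injective m, by simp [two_mul]⟩)

theorem splitFrame_basis (S : Type u) [CommRing S] (a : FIdx m) :
    ((Pi.basisFun S (Fin (2 * m + 1))).reindex (splitSigma m).symm) a = (splitFrame m S).vec a := by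
  rcases a with _ | (i | i) <;>
    simp [splitFrame, FullFrame.vec, Pi.basisFun_apply, splitSigma, Equiv.ofBijective_apply]

theorem isSemiregular_splitForm' (S : Type u) [CommRing S] :
    IsSemiregular (Pi.basisFun S (Fin (2 * m + 1))) (LinearEquiv.refl S S) (splitForm S (2 * m + 1)) :=
  (splitFrame m S).isSemiregular _ (splitSigma m).symm fun l => by
    rw [← splitFrame_basis]; simp

/-- The central involution of the split form. -/
noncomputable def zSplit (S : Type u) [CommRing S] : CliffordAlgebra (splitForm S (2 * m + 1)) := (splitFrame m S).zc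

variable {R : Type u} [CommRing R] {M : Type u} [AddCommGroup M] [Module R M] [Module.Free R M] {Q : QuadraticForm R M}

theorem bcl_mem_odd (A : Type u) [CommRing A] [Algebra R A] {y : CliffordAlgebra Q} (hy : y ∈ evenOdd Q 1) :
    bcl Q A y ∈ evenOdd (baseChangeForm A Q) 1 := by
  induction y, hy using CliffordAlgebra.evenOdd_induction (Q := Q) (n := (1 : ZMod 2)) with
  | range_ι_pow v hv =>
    rw [ZMod.val_one, pow_one] at hv
    obtain ⟨w, rfl⟩ := hv
    rw [ofBCAux_ι]
    exact ι_mem_evenOdd_one _ _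
  | add x y _ _ ihx ihy => rw [map_add]; exact Submodule.add_mem _ ihx ihy
  | ι_mul_ι_mul m₁ m₂ x _ ih =>
    rw [map_mul, map_mul, ofBCAux_ι, ofBCAux_ι]
    have := SetLike.mul_mem_graded (ι_mul_ι_mem_evenOdd_zero (baseChangeForm A Q) (1 ⊗ₜ m₁) (1 ⊗ₜ m₂)) ih
    rwa [zero_add] at this

theorem bcl_central (A : Type u) [CommRing A] [Algebra R A] {z : CliffordAlgebra Q}
    (hc : ∀ v, ι Q v * z = z * ι Q v) (v : A ⊗[R] M) :
    ι (baseChangeForm A Q) v * bcl Q A z = bcl Q A z * ι (baseChangeForm A Q) v := by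
  induction v using TensorProduct.induction_on with
  | zero => simp
  | add x y hx hy => rw [map_add, add_mul, mul_add, hx, hy]
  | tmul a w =>
    rw [show a ⊗ₜ[R] w = a • ((1 : A) ⊗ₜ[R] w) by rw [TensorProduct.smul_tmul', smul_eq_mul, mul_one], map_smul,
      smul_mul_assoc, mul_smul_comm, ← ofBCAux_ι, ← map_mul, ← map_mul, hc]

theorem goodPolar_odd {n : ℕ} (hn : Odd n) (b : Module.Basis (Fin n) R M) (hQ : IsSemiregular b (LinearEquiv.refl R R) Q)
    (A : Type u) [CommRing A] [Algebra R A] : GoodPolar (baseChangeForm A Q) (Algebra.TensorProduct.basis A b) :=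
  goodPolar_of_goodMat (goodMat_of_isSemiregular hn _ (isSemiregular_baseChange Q b hQ A))

end Universal

section UnivId

variable (m : ℕ)

set_option maxHeartbeats 1000000 in
set_option maxRecDepth 4000 in
/-- Isometries of determinant one fix the central involution of the split form. -/
theorem zsc_univ (A : Type u) [CommRing A] :
    letI := z0Alg A
    ∀ (g : (A ⊗[Z0.{u}] (Fin (2 * m + 1) → Z0.{u})) ≃ₗ[A] (A ⊗[Z0.{u}] (Fin (2 * m + 1) → Z0.{u})))
      (hg : g ∈ O (baseChangeForm A (splitForm Z0.{u} (2 * m + 1)))),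
      LinearMap.det g.toLinearMap = 1 →
      zsc (baseChangeForm A (splitForm Z0.{u} (2 * m + 1))) (bcl _ A (zSplit m Z0.{u})) g hg = 1 := by
  letI := z0Alg A
  set Q := splitForm Z0.{u} (2 * m + 1)
  intro g hg hdet
  have hn := odd_two_mul_add_one m
  have hs : IsSemiregular (Pi.basisFun Z0.{u} (Fin (2 * m + 1))) (LinearEquiv.refl Z0.{u} Z0.{u}) Q :=
    isSemiregular_splitForm' m _
  have hnd : IsNondeg (Pi.basisFun Z0.{u} (Fin (2 * m + 1))) (LinearEquiv.refl Z0.{u} Z0.{u}) Q :=
    ⟨fun h => absurd hn (Nat.not_odd_iff_even.2 h), fun _ => hs⟩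
  obtain ⟨z1, zz, zc, -⟩ := (splitFrame m Z0.{u}).zc_spec _ (fun a => splitFrame_basis m Z0.{u} a)
  change zSplit m Z0.{u} ∈ evenOdd Q 1 at z1
  change zSplit m Z0.{u} * zSplit m Z0.{u} = 1 at zz
  set z := zSplit m Z0.{u}
  have hZ : ∀ (B : Type u) [CommRing B] [Algebra Z0.{u} B], bcl Q B z ∈ evenOdd (baseChangeForm B Q) 1 ∧
      bcl Q B z * bcl Q B z = 1 ∧ ∀ v, ι (baseChangeForm B Q) v * bcl Q B z = bcl Q B z * ι _ v := fun B _ _ =>
    ⟨bcl_mem_odd B z1, by rw [← map_mul, zz, map_one], bcl_central B zc⟩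
  have hgp := fun (B : Type u) [CommRing B] [Algebra Z0.{u} B] => goodPolar_odd hn _ hs B
  let C := Coord Q (detEq (2 * m + 1))
  set U := (OrthSmooth.homEquiv Q _ C (AlgHom.id _ C)).1
  have hU := (OrthSmooth.homEquiv Q _ C (AlgHom.id _ C)).2
  have hUd : IsUnit U.det := by rw [((isSol_detEq_iff Q U).1 hU).2]; exact isUnit_one
  obtain ⟨gU, hgU⟩ : ∃ gU : (C ⊗[Z0.{u}] (Fin (2 * m + 1) → Z0.{u})) ≃ₗ[C] (C ⊗[Z0.{u}] (Fin (2 * m + 1) → Z0.{u})),
      LinearMap.toMatrix (bA C) (bA C) gU.toLinearMap = U :=
    ⟨toAut (R := Z0.{u}) C U hUd, toMatrix_toAut (R := Z0.{u}) C U _⟩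
  have hsolU : IsSol Q ∅ (LinearMap.toMatrix (bA C) (bA C) gU.toLinearMap) := by
    rw [hgU]; exact isSol_of_subset hU
  have hgUO : gU ∈ O (baseChangeForm C Q) := (mem_O_iff (Q := Q) C gU).2 hsolU
  set s := zsc (baseChangeForm C Q) (bcl Q C z) gU hgUO
  have nat : ∀ (B : Type u) [CommRing B] [Algebra Z0.{u} B] (f : C →ₐ[Z0.{u}] B)
      (h : (B ⊗[Z0.{u}] (Fin (2 * m + 1) → Z0.{u})) ≃ₗ[B] (B ⊗[Z0.{u}] (Fin (2 * m + 1) → Z0.{u})))
      (hh : h ∈ O (baseChangeForm B Q)), LinearMap.toMatrix (bA B) (bA B) h.toLinearMap = U.map f →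
      zsc (baseChangeForm B Q) (bcl Q B z) h hh = f s := by
    intro B _ _ f h hh hm'
    have hF : cbMap Q f (bcl Q C z) = bcl Q B z := by
      apply (cb Q B).injective
      rw [cb_cbMap, cb_bcl, cb_bcl, Algebra.TensorProduct.map_tmul, map_one, AlgHom.id_apply]
    rw [← hF]
    exact zsc_natural (hgp C) (hgp B) (hZ C).1 (hZ C).2.1 (hZ C).2.2 f.toRingHom (mapV f) (cbMap Q f)
      (cbMap_ι Q f) (cbMap_algebraMap Q f) (hF.symm ▸ (hZ B).1) (hF.symm ▸ (hZ B).2.2) hgUO hh
      (compat_of_matrix f gU h (by rw [hgU, hm']))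
  have hs2 : s * s = 1 := (zsc_spec (hgp C) (hZ C).1 (hZ C).2.1 (hZ C).2.2 gU hgUO).2
  have hpts : ∀ (K : Type u) [Field K] [IsAlgClosed K] (ψ : C →+* K), ψ (s - 1) = 0 := by
    intro K _ _ ψ
    letI : Algebra Z0.{u} K := (ψ.comp (algebraMap Z0.{u} C)).toAlgebra
    let f : C →ₐ[Z0.{u}] K := ⟨ψ, fun _ => rfl⟩
    change f (s - 1) = 0
    rw [map_sub, map_one]
    have hf2 : f s * f s = 1 := by rw [← map_mul, hs2, map_one]
    by_cases h2 : (2 : K) = 0
    · have : (f s - 1) * (f s - 1) = 0 := by linear_combination hf2 - (f s - 1) * h2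
      exact mul_self_eq_zero.1 this
    have hsol : IsSol Q (detEq (2 * m + 1)) (U.map f) := by
      rw [isSol_detEq_iff]
      refine ⟨(isSol_map f (isSol_of_subset hU)).1, ?_⟩
      rw [← AlgHom.mapMatrix_apply, ← AlgHom.map_det, ((isSol_detEq_iff Q U).1 hU).2, map_one]
    obtain ⟨gl, hgl⟩ : ∃ gl : (K ⊗[Z0.{u}] (Fin (2 * m + 1) → Z0.{u})) ≃ₗ[K] (K ⊗[Z0.{u}] (Fin (2 * m + 1) → Z0.{u})),
        LinearMap.toMatrix (bA K) (bA K) gl.toLinearMap = U.map f :=
      ⟨toAut (R := Z0.{u}) K (U.map f) (by rw [((isSol_detEq_iff Q _).1 hsol).2]; exact isUnit_one),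
        toMatrix_toAut (R := Z0.{u}) K _ _⟩
    have hsol0 : IsSol Q ∅ (LinearMap.toMatrix (bA K) (bA K) gl.toLinearMap) := by
      rw [hgl]; exact isSol_of_subset hsol
    have hO : gl ∈ O (baseChangeForm K Q) := (mem_O_iff (Q := Q) K gl).2 hsol0
    rw [← nat K f gl hO hgl, sub_eq_zero]
    set qK := baseChangeForm K Q
    haveI : FiniteDimensional K (K ⊗[Z0.{u}] (Fin (2 * m + 1) → Z0.{u})) := Module.Finite.of_basis (bA K)
    have hel : El qK gl.toLinearMap := by
      refine mem_el (K := K) (2 * m + 1) _ qK ?_ hn ?_ gl.toLinearMap hO ?_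
      · rw [Module.finrank_eq_card_basis (bA K), Fintype.card_fin]
      · exact fun v hv hv0 => (semiregular_radical (bA K) hn
          (isSemiregular_baseChange Q (Pi.basisFun Z0.{u} (Fin (2 * m + 1))) hs K)).1 v hv hv0
      · rw [← LinearMap.det_toMatrix (bA K), hgl]
        exact ((isSol_detEq_iff Q _).1 hsol).2
    obtain ⟨k1, k2, k3⟩ := hZ K
    have key : ∀ t : (K ⊗[Z0.{u}] (Fin (2 * m + 1) → Z0.{u})) →ₗ[K] (K ⊗[Z0.{u}] (Fin (2 * m + 1) → Z0.{u})),
        El qK t → ∀ (T : (K ⊗[Z0.{u}] (Fin (2 * m + 1) → Z0.{u})) ≃ₗ[K] (K ⊗[Z0.{u}] (Fin (2 * m + 1) → Z0.{u})))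
          (hT : T ∈ O qK), T.toLinearMap = t → zsc qK (bcl Q K z) T hT = 1 := by
      intro t ht
      induction ht with
      | one =>
        intro T hT hTt
        have : T = 1 := LinearEquiv.toLinearMap_injective hTt
        subst this
        obtain ⟨e1, e2⟩ := zsc_spec (hgp K) k1 k2 k3 1 hT
        have e3 := zsc_comp (hgp K) k1 k2 k3 1 1 hT hT
        simp only [mul_one] at e3
        exact mul_left_cancel₀ (left_ne_zero_of_mul_eq_one e2) (e3.symm.trans (mul_one _).symm)
      | @step a x ha hax t' ht' ih =>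
        intro T hT hTt
        have hax' : ∀ c : K, QuadraticMap.polarBilin qK a (c • x) = 0 := fun c => by rw [map_smul, hax, smul_zero]
        let E1 : (K ⊗[Z0.{u}] (Fin (2 * m + 1) → Z0.{u})) ≃ₗ[K] (K ⊗[Z0.{u}] (Fin (2 * m + 1) → Z0.{u})) :=
          LinearEquiv.ofLinear (eich qK a ((2 : K)⁻¹ • x)) (eich qK a (-((2 : K)⁻¹ • x)))
            (by
              have := eich_comp_neg qK (x := -((2 : K)⁻¹ • x)) ha (by rw [map_neg, hax', neg_zero])
              rwa [neg_neg] at this)
            (eich_comp_neg qK ha (hax' _))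
        have hE1 : E1 ∈ O qK := fun v => eich_isometry qK ha (hax' _) v
        obtain ⟨si, hsi, hsis⟩ := El.exists_inv qK ht'
        have hinj : Function.Injective t' := fun v w h => by
          simpa [← LinearMap.comp_apply, hsis] using congrArg si h
        let T' := LinearEquiv.ofBijective t' ⟨hinj, LinearMap.injective_iff_surjective.1 hinj⟩
        have hT' : T' ∈ O qK := fun v => El.isometry qK ht' v
        have hTT : T = E1 * E1 * T' := by
          refine LinearEquiv.ext fun v => ?_
          rw [← LinearEquiv.coe_coe, hTt, LinearMap.comp_apply, LinearEquiv.mul_apply, LinearEquiv.mul_apply]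
          change eich qK a x (t' v) = eich qK a ((2 : K)⁻¹ • x) (eich qK a ((2 : K)⁻¹ • x) (t' v))
          generalize t' v = w
          have h1 : QuadraticMap.polar qK a x = 0 := hax
          simp only [eich_apply, map_add, map_sub, map_smul, LinearMap.add_apply, LinearMap.sub_apply,
            LinearMap.smul_apply, QuadraticMap.polarBilin_apply_apply, QuadraticMap.map_smul,
            QuadraticMap.polar_add_left, QuadraticMap.polar_sub_left, QuadraticMap.polar_smul_left,
            QuadraticMap.polar_smul_right, QuadraticMap.polar_self, ha, h1, QuadraticMap.polar_comm qK x a,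
            smul_eq_mul, smul_zero, mul_zero, sub_zero, add_zero]
          match_scalars <;> field_simp <;> ring
        subst hTT
        rw [zsc_comp (hgp K) k1 k2 k3 (E1 * E1) T' ((O qK).mul_mem hE1 hE1) hT',
          zsc_comp (hgp K) k1 k2 k3 E1 E1 hE1 hE1, (zsc_spec (hgp K) k1 k2 k3 E1 hE1).2, one_mul, ih T' hT' rfl]
    exact key _ hel gl hO rfl
  have hnil : IsNilpotent (s - 1) := by
    rw [nilpotent_iff_mem_prime]
    intro p hp
    let K := AlgebraicClosure p.ResidueField
    have h0 := hpts K ((algebraMap p.ResidueField K).comp (algebraMap C p.ResidueField))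
    rw [RingHom.comp_apply, map_eq_zero_iff _ (algebraMap p.ResidueField K).injective,
      Ideal.algebraMap_residueField_eq_zero] at h0
    exact h0
  haveI : Algebra.Smooth Z0.{u} C :=
    { formallySmooth := formallySmooth_sorth' hnd (Or.inl hn), finitePresentation := inferInstance }
  haveI : Module.Flat Z0.{u} C := Algebra.Smooth.flat _ _
  have h2 : ∀ x : C, 2 * x = 0 → x = 0 := by
    intro x hx
    have h2r : _root_.IsRegular (2 : Z0.{u}) := by
      have hinj : ∀ a b : Z0.{u}, (2 : Z0.{u}) * a = 2 * b → a = b := fun a b h => by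
        have h' := congrArg (MvPolynomial.isEmptyRingEquiv ℤ PEmpty.{u + 1}) h
        simp only [map_mul, map_ofNat] at h'
        exact (MvPolynomial.isEmptyRingEquiv ℤ PEmpty.{u + 1}).injective (by omega)
      exact ⟨fun a b h => hinj a b h, fun a b h => hinj a b (by simpa [mul_comm] using h)⟩
    refine Module.Flat.isSMulRegular_of_isRegular (M := C) h2r ?_
    change (2 : Z0.{u}) • x = (2 : Z0.{u}) • 0
    rw [smul_zero, two_smul, ← two_mul, hx]
  have hc0 : s - 1 = 0 := by
    set c := s - 1 with hc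
    have hc2 : c * (c + 2) = 0 := by linear_combination hs2
    obtain ⟨k, hk⟩ := hnil
    induction k with
    | zero => exact (subsingleton_of_zero_eq_one (by rw [pow_zero] at hk; exact hk.symm)).elim _ _
    | succ k ih =>
      rcases k with _ | k
      · simpa using hk
      · refine ih (h2 _ ?_)
        have e : c ^ (k + 1 + 1) + 2 * c ^ (k + 1) = c ^ k * (c * (c + 2)) := by ring
        rw [hc2, hk, mul_zero, zero_add] at e
        exact e
  set M := LinearMap.toMatrix (bA A) (bA A) g.toLinearMap with hM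
  have hMs : IsSol Q (detEq (2 * m + 1)) M := by
    rw [isSol_detEq_iff]
    exact ⟨((mem_O_iff A g).1 hg).1, by rw [hM, LinearMap.det_toMatrix, hdet]⟩
  let f := (OrthSmooth.homEquiv Q _ A).symm ⟨M, hMs⟩
  have hfU : M = U.map f := by
    ext i j
    simp [f, U, OrthSmooth.homEquiv]
    exact (MvPolynomial.aeval_X (fun ij : Fin (2 * m + 1) × Fin (2 * m + 1) => M ij.1 ij.2) (i, j)).symm
  rw [nat A f g hg hfU, sub_eq_zero.1 hc0, map_one]

end UnivId

section Main

variable {R : Type u} [CommRing R] {m : ℕ} {Q : QuadraticForm R (Fin (2 * m + 1) → R)}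

set_option maxHeartbeats 1000000 in
/-- After a cover the central involution moves by the determinant. -/
theorem map_zc_eq (hQ : IsSemiregular (Pi.basisFun R (Fin (2 * m + 1))) (LinearEquiv.refl R R) Q)
    (A : Type u) [CommRing A] [Algebra R A] (F : FullFrame (baseChangeForm A Q) m)
    (gA : (A ⊗[R] (Fin (2 * m + 1) → R)) ≃ₗ[A] (A ⊗[R] (Fin (2 * m + 1) → R))) (hgA : gA ∈ O (baseChangeForm A Q)) :
    ∃ z : CliffordAlgebra (baseChangeForm A Q), z ∈ evenOdd _ 1 ∧ z * z = 1 ∧
      (∀ v, ι (baseChangeForm A Q) v * z = z * ι _ v) ∧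
      CliffordAlgebra.map (isometryOfMem _ gA hgA) z = LinearMap.det gA.toLinearMap • z := by
  classical
  set q := baseChangeForm A Q
  have hb := goodPolar_odd (odd_two_mul_add_one m) _ hQ A
  have hsA := isSemiregular_baseChange Q _ hQ A
  obtain ⟨fb, hfb⟩ := F.exists_basis _ hsA
  letI := z0Alg A
  let Q0 := splitForm Z0.{u} (2 * m + 1)
  obtain ⟨G, gb, hgb⟩ := exists_split_frame Z0.{u} A m
  obtain ⟨e⟩ := isometry_of_frames F G fb gb hfb hgb
  obtain ⟨z1, zz, zc, -⟩ := (splitFrame m Z0.{u}).zc_spec _ (fun a => splitFrame_basis m Z0.{u} a)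
  let z0 := bcl Q0 A (zSplit m Z0.{u})
  have k1 : z0 ∈ evenOdd _ 1 := bcl_mem_odd A z1
  have k2 : z0 * z0 = 1 := (map_mul _ _ _).symm.trans ((congrArg _ zz).trans (map_one _))
  have k3 := bcl_central A zc
  let E := e.symm.toIsometry
  let z := CliffordAlgebra.map E z0
  have j1 : z ∈ evenOdd q 1 := map_mem_evenOdd E k1
  have j2 : z * z = 1 := (map_mul _ _ _).symm.trans ((congrArg _ k2).trans (map_one _))
  have j3 : ∀ v, ι q v * z = z * ι q v := fun v => by
    obtain ⟨w, rfl⟩ := e.symm.toLinearEquiv.surjective v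
    rw [show ι q (e.symm.toLinearEquiv w) = CliffordAlgebra.map E (ι _ w) from (map_apply_ι E w).symm, ← map_mul,
      ← map_mul]
    exact congrArg (CliffordAlgebra.map E) (k3 w)
  refine ⟨z, j1, j2, j3, ?_⟩
  rw [(zsc_spec hb j1 j2 j3 gA hgA).1]
  congr 1
  rcases subsingleton_or_nontrivial A with hA' | hA'
  · exact Subsingleton.elim _ _
  -- reduce to determinant one
  let d := LinearMap.det gA.toLinearMap
  have hd2 : d * d = 1 := by
    have h : q.comp gA.toLinearMap = q := QuadraticMap.ext fun v => hgA v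
    have h1 := halfDisc_comp (odd_two_mul_add_one m) (Algebra.TensorProduct.basis A (Pi.basisFun R (Fin (2 * m + 1)))) q
      gA.toLinearMap
    rw [h] at h1
    exact (hsA : IsUnit _).mul_right_cancel ((by rw [← sq]; exact h1.symm : d * d * _ = _).trans (one_mul _).symm)
  let du : Aˣ := ⟨d, d, hd2, hd2⟩
  let sd : (A ⊗[R] (Fin (2 * m + 1) → R)) ≃ₗ[A] (A ⊗[R] (Fin (2 * m + 1) → R)) := LinearEquiv.smulOfUnit du
  have hsd : sd ∈ O q := fun v => by
    change q (d • v) = q v
    rw [QuadraticMap.map_smul, hd2, one_smul]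
  have hsz : zsc q z sd hsd = d := by
    apply algebraMap_injective q
    rw [Algebra.algebraMap_eq_smul_one, Algebra.algebraMap_eq_smul_one, ← j2, ← smul_mul_assoc, ← smul_mul_assoc,
      ← (zsc_spec hb j1 j2 j3 sd hsd).1]
    congr 1
    -- a scalar isometry scales odd elements
    have : ∀ y ∈ evenOdd q 1, CliffordAlgebra.map (isometryOfMem q sd hsd) y = d • y := by
      intro y hy
      induction y, hy using CliffordAlgebra.evenOdd_induction (Q := q) (n := (1 : ZMod 2)) with
      | range_ι_pow v hv =>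
        rw [ZMod.val_one, pow_one] at hv
        obtain ⟨w, rfl⟩ := hv
        rw [map_apply_ι, isometryOfMem_apply, show sd w = d • w from rfl, map_smul]
      | add a c _ _ ha hc => rw [map_add, ha, hc, smul_add]
      | ι_mul_ι_mul v w a _ ih =>
        rw [map_mul, map_mul, map_apply_ι, map_apply_ι, isometryOfMem_apply, isometryOfMem_apply, ih,
          show sd w = d • w from rfl, show sd v = d • v from rfl, map_smul, map_smul, smul_mul_smul_comm,
          smul_mul_smul_comm, hd2, one_mul]
    exact this z j1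
  have hdet1 : LinearMap.det (sd * gA).toLinearMap = 1 := by
    rw [show (sd * gA).toLinearMap = d • gA.toLinearMap from rfl, LinearMap.det_smul,
      Module.finrank_eq_card_basis (Algebra.TensorProduct.basis A (Pi.basisFun R (Fin (2 * m + 1)))), Fintype.card_fin,
      pow_succ, pow_mul, sq, hd2, one_pow, one_mul, hd2]
  let g0 := (e.symm.toLinearEquiv.trans (sd * gA)).trans e.toLinearEquiv
  have hg0 : g0 ∈ O (baseChangeForm A Q0) := fun x => by
    change baseChangeForm A Q0 (e ((sd * gA) (e.symm x))) = _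
    rw [e.map_app, ((O q).mul_mem hsd hgA) (e.symm x), e.symm.map_app]
  have h0 := zsc_univ m A g0 hg0 ((LinearMap.det_conj (sd * gA).toLinearMap e.toLinearEquiv).trans hdet1)
  have h1 : zsc q z (sd * gA) ((O q).mul_mem hsd hgA) = 1 := by
    refine (zsc_natural (goodPolar_odd (odd_two_mul_add_one m) _ (isSemiregular_splitForm' m _) A) hb k1 k2 k3
      (RingHom.id A) E (CliffordAlgebra.map E).toRingHom (fun v => map_apply_ι E v) (fun a => AlgHom.commutes _ a)
      j1 j3 hg0 ((O q).mul_mem hsd hgA) fun v => ?_).trans (by rw [RingHom.id_apply]; exact h0)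
    change (sd * gA) (e.symm v) = e.symm (e ((sd * gA) (e.symm v)))
    exact (e.toLinearEquiv.symm_apply_apply _).symm
  rw [zsc_comp hb j1 j2 j3 sd gA hsd hgA, hsz] at h1
  calc zsc q z gA hgA = d * d * zsc q z gA hgA := by rw [hd2, one_mul]
    _ = d := by rw [mul_assoc, h1, mul_one]

end Main

end Groth.Agent.CliffSmooth
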