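import Groth.Agent.CliffSmooth.OddDet
import Groth.Agent.CliffSmooth.EvenLift

/-!
# Lifting isometries to the Clifford algebra over a local ring, odd rank
-/

set_option autoImplicit false

universe u v

namespace Groth.Agent.CliffSmooth

open CliffordAlgebra QuadGrp TensorProduct

/-- The base change of a full frame. -/
noncomputable def FullFrame.mapBC {R : Type u} [CommRing R] {M : Type u} [AddCommGroup M] [Module R M] [Module.Free R M]
    {Q : QuadraticForm R M} {A B : Type u} [CommRing A] [Algebra R A] [CommRing B] [Algebra R B] (φ : A →ₐ[R] B)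
    {m : ℕ} (F : FullFrame (baseChangeForm A Q) m) : FullFrame (baseChangeForm B Q) m where
  toFrame := F.toFrame.map φ
  v := mapV φ F.v
  qv := by rw [form_mapV, F.qv, map_one]
  ve i := by
    change QuadraticMap.polar _ (mapV φ F.v) (mapV φ (F.e i)) = 0
    rw [polar_mapV, F.ve, map_zero]
  vf i := by
    change QuadraticMap.polar _ (mapV φ F.v) (mapV φ (F.f i)) = 0
    rw [polar_mapV, F.vf, map_zero]

/-- The automorphism of the even part. -/
noncomputable def evenAut {A : Type u} [CommRing A] {V : Type u} [AddCommGroup V] [Module A V] (q : QuadraticForm A V)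
    (g : V ≃ₗ[A] V) (hg : g ∈ O q) : CliffordAlgebra.even q ≃ₐ[A] CliffordAlgebra.even q :=
  AlgEquiv.ofBijective
    (((CliffordAlgebra.map (isometryOfMem q g hg)).comp (CliffordAlgebra.even q).val).codRestrict _
      fun x => map_mem_evenOdd _ x.2)
    ⟨fun x y h => Subtype.ext ((equivOfIsometry ({ g with map_app' := hg } : q.IsometryEquiv q)).injective
      (congrArg Subtype.val h)),
    fun y => ⟨⟨CliffordAlgebra.map (isometryOfMem q g⁻¹ ((O q).inv_mem hg)) y, map_mem_evenOdd _ y.2⟩,
      Subtype.ext ((equivOfIsometry ({ g with map_app' := hg } : q.IsometryEquiv q)).apply_symm_apply _)⟩⟩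

section Descent

variable {R : Type u} [CommRing R] [IsLocalRing R] {m : ℕ} {Q : QuadraticForm R (Fin (2 * m + 1) → R)}

set_option maxHeartbeats 1000000 in
/-- Over a local ring every isometry of determinant one is conjugation by an even unit. -/
theorem exists_lift_coord_odd (hQ : IsSemiregular (Pi.basisFun R (Fin (2 * m + 1))) (LinearEquiv.refl R R) Q)
    (g : (Fin (2 * m + 1) → R) ≃ₗ[R] (Fin (2 * m + 1) → R)) (hg : g ∈ O Q) (hdet : LinearMap.det g.toLinearMap = 1) :
    ∃ u : (CliffordAlgebra Q)ˣ, (u : CliffordAlgebra Q) ∈ evenOdd Q 0 ∧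
      ∀ v, (u : CliffordAlgebra Q) * ι Q v = ι Q (g v) * u := by
  classical
  let M := Fin (2 * m + 1) → R
  let b := Pi.basisFun R (Fin (2 * m + 1))
  obtain ⟨A₀, _, _, hA₀, ⟨F₀⟩⟩ := exists_fullFrame b hQ
  haveI := hA₀.1
  obtain ⟨⟨P, hP⟩, hPm⟩ := PrimeSpectrum.comap_surjective_of_faithfullyFlat (A := R) (B := A₀)
    (IsLocalRing.closedPoint R)
  haveI := hP
  let A := Localization.AtPrime P
  let φ : A₀ →ₐ[R] A := IsScalarTower.toAlgHom R A₀ A
  let F : FullFrame (baseChangeForm A Q) m := F₀.mapBC φ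
  haveI : Module.Flat R A := Module.Flat.trans R A₀ A
  haveI : IsLocalHom (algebraMap R A) := by
    refine ((IsLocalRing.local_hom_TFAE (algebraMap R A)).out 0 4).mpr ?_
    rw [IsScalarTower.algebraMap_eq R A₀ A, ← Ideal.comap_comap,
      show Ideal.comap (algebraMap A₀ A) (IsLocalRing.maximalIdeal A) = P from Localization.AtPrime.comap_maximalIdeal]
    exact congrArg PrimeSpectrum.asIdeal hPm
  haveI : Module.FaithfullyFlat R A := Module.FaithfullyFlat.of_flat_of_isLocalHom
  set q := baseChangeForm A Q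
  set gA := g.baseChange R A M M
  have hgv : ∀ x : M, gA ((1 : A) ⊗ₜ[R] x) = (1 : A) ⊗ₜ[R] g x := fun x => by simp [gA]
  have hgA : gA ∈ O q := by
    rw [mem_O]
    intro v
    have : q.comp gA.toLinearMap = q := by
      refine _root_.baseChange_ext fun x => ?_
      simp [q, gA, baseChangeForm_one_tmul, hg x]
    exact DFunLike.congr_fun this v
  obtain ⟨fb, hfb⟩ := F.exists_basis _ (isSemiregular_baseChange Q b hQ A)
  obtain ⟨θ⟩ := F.even_equiv fb hfb
  obtain ⟨z, hz1, hzz, hzc, hzg⟩ := map_zc_eq hQ A F gA hgA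
  rw [show LinearMap.det gA.toLinearMap = 1 by
    rw [show gA.toLinearMap = g.toLinearMap.baseChange A from rfl, LinearMap.det_baseChange, hdet, map_one], one_smul] at hzg
  set f := isometryOfMem q gA hgA
  obtain ⟨uE, huE⟩ := exists_inner θ (evenAut q gA hgA)
  let uA : (CliffordAlgebra q)ˣ := Units.map (CliffordAlgebra.even q).val.toRingHom.toMonoidHom uE
  have huA0 : (uA : CliffordAlgebra q) ∈ evenOdd q 0 := (uE : CliffordAlgebra.even q).2
  have huAi : (↑uA⁻¹ : CliffordAlgebra q) ∈ evenOdd q 0 := ((uE⁻¹ : (CliffordAlgebra.even q)ˣ) : CliffordAlgebra.even q).2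
  have huA : ∀ y ∈ evenOdd q 0, (uA : CliffordAlgebra q) * y = CliffordAlgebra.map f y * uA := fun y hy =>
    congrArg Subtype.val (huE ⟨y, hy⟩)
  have hzu : (uA : CliffordAlgebra q) * z = z * uA := central_mul hzc _
  have huv : ∀ x : M, (uA : CliffordAlgebra q) * bcl Q A (ι Q x) = bcl Q A (ι Q (g x)) * uA := fun x => by
    rw [ofBCAux_ι, ofBCAux_ι, ← hgv]
    have hmem : ι q ((1 : A) ⊗ₜ[R] x) * z ∈ evenOdd q 0 := by
      have := SetLike.mul_mem_graded (ι_mem_evenOdd_one q ((1 : A) ⊗ₜ[R] x)) hz1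
      rwa [show (1 : ZMod 2) + 1 = 0 from rfl] at this
    have h := huA _ hmem
    rw [map_mul, map_apply_ι, isometryOfMem_apply, hzg] at h
    have h' := congrArg (fun y => y * z) h
    simp only [mul_assoc, hzz, mul_one, hzu] at h'
    rw [← mul_assoc z z, hzz, one_mul] at h'
    exact h'
  -- the module of intertwiners
  let C := CliffordAlgebra Q
  let Φ : C →ₗ[R] (Fin (2 * m + 1) ⊕ Unit → C) :=
    LinearMap.pi (Sum.elim (fun i => LinearMap.mulRight R (ι Q (b i)) - LinearMap.mulLeft R (ι Q (g (b i))))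
      fun _ => par Q 1)
  have hker0 : ∀ y, Φ y = 0 → y ∈ evenOdd Q 0 := fun y hy => by
    rw [← par_add_par Q y, show par Q 1 y = 0 from congrFun hy (Sum.inr ()), add_zero]
    exact par_mem Q 0 y
  have hker : ∀ y, Φ y = 0 → ∀ v, y * ι Q v = ι Q (g v) * y := fun y hy v => by
    rw [← b.sum_repr v, map_sum, map_sum, map_sum, Finset.mul_sum, Finset.sum_mul]
    refine Finset.sum_congr rfl fun i _ => ?_
    rw [map_smul, map_smul, map_smul, mul_smul_comm, smul_mul_assoc]
    exact congrArg _ (sub_eq_zero.1 (congrFun hy (Sum.inl i)))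
  have hΦt : Φ.lTensor A (cb Q A uA) = 0 := by
    apply (TensorProduct.piRight R R A (fun _ : Fin (2 * m + 1) ⊕ Unit => C)).injective
    rw [map_zero]
    funext i
    have hcomp : ∀ z : A ⊗[R] C, TensorProduct.piRight R R A (fun _ : Fin (2 * m + 1) ⊕ Unit => C) (Φ.lTensor A z) i =
        Sum.elim (fun i => z * ((1 : A) ⊗ₜ[R] ι Q (b i)) - ((1 : A) ⊗ₜ[R] ι Q (g (b i))) * z)
          (fun _ => parBC Q A 1 z) i := by
      intro z
      induction z using TensorProduct.induction_on with
      | zero => rcases i with i | i <;> simp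
      | add a c ha hc =>
        rw [map_add, map_add, Pi.add_apply, ha, hc]
        rcases i with i | i
        · simp only [Sum.elim_inl]; rw [add_mul, mul_add]; abel
        · simp only [Sum.elim_inr, map_add]
      | tmul a w => rcases i with i | i <;> simp [Φ, TensorProduct.tmul_sub, parBC]
    rw [hcomp]
    rcases i with i | i
    · simp only [Sum.elim_inl, Pi.zero_apply]
      rw [← cb_bcl, ← cb_bcl, ← map_mul, ← map_mul, huv, sub_self]
    · simp only [Sum.elim_inr, Pi.zero_apply]
      rw [← cb_par, par_of_mem_ne q huA0 (by decide), map_zero]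
  obtain ⟨ζ, hz⟩ := ((Module.Flat.lTensor_exact A (LinearMap.exact_subtype_ker_map Φ)) _).1 hΦt
  obtain ⟨S, rfl⟩ := TensorProduct.exists_finset ζ
  have hb := goodPolar_odd (odd_two_mul_add_one m) b hQ A
  have hsc : ∀ i : A × ↥(LinearMap.ker Φ), ∃ c : A, bcl Q A (i.2 : C) = c • (uA : CliffordAlgebra q) := by
    intro i
    set x := (↑uA⁻¹ : CliffordAlgebra q) * bcl Q A (i.2 : C)
    have hx1 : ∀ v : M, ι q ((1 : A) ⊗ₜ[R] v) * x = x * ι q ((1 : A) ⊗ₜ[R] v) := fun v => by
      have h1 := huv v
      have h2 : bcl Q A (i.2 : C) * bcl Q A (ι Q v) = bcl Q A (ι Q (g v)) * bcl Q A (i.2 : C) := by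
        rw [← map_mul, ← map_mul, hker _ i.2.2 v]
      rw [← ofBCAux_ι]
      calc bcl Q A (ι Q v) * x = (↑uA⁻¹ : CliffordAlgebra q) * ((uA : CliffordAlgebra q) * bcl Q A (ι Q v)) * x := by
            rw [← mul_assoc (↑uA⁻¹ : CliffordAlgebra q), Units.inv_mul, one_mul]
        _ = ↑uA⁻¹ * (bcl Q A (ι Q (g v)) * bcl Q A (i.2 : C)) := by
            rw [h1]
            simp only [x, mul_assoc, Units.mul_inv_cancel_left]
        _ = x * bcl Q A (ι Q v) := by rw [← h2]; simp only [x, mul_assoc]
    have hcx : ∀ v, ι q v * x = x * ι q v := fun v => by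
      induction v using TensorProduct.induction_on with
      | zero => simp
      | add a c ha hc => rw [map_add, add_mul, mul_add, ha, hc]
      | tmul a w => rw [show a ⊗ₜ[R] w = a • ((1 : A) ⊗ₜ[R] w) by rw [TensorProduct.smul_tmul', smul_eq_mul, mul_one],
          map_smul, smul_mul_assoc, mul_smul_comm, hx1]
    obtain ⟨c, hc⟩ := even_central hb (x := x) (by
      simpa using SetLike.mul_mem_graded huAi (bcl_mem_even A (hker0 _ i.2.2))) hcx
    have hxc : x = algebraMap A _ c := hc.symm
    refine ⟨c, ?_⟩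
    rw [Algebra.smul_def, Algebra.commutes, ← hxc]
    simp [x]
  choose c hc using hsc
  have hone : ∑ i ∈ S, i.1 * c i = 1 := by
    apply algebraMap_injective q
    have h : cb Q A (uA : CliffordAlgebra q) = cb Q A (∑ i ∈ S, i.1 • bcl Q A (i.2 : C)) := by
      rw [← hz, map_sum, map_sum]
      refine Finset.sum_congr rfl fun i _ => ?_
      rw [map_smul, cb_bcl, TensorProduct.smul_tmul', smul_eq_mul, mul_one]
      rfl
    have h' := (cb Q A).injective h
    rw [Finset.sum_congr rfl fun i _ => by rw [hc, smul_smul], ← Finset.sum_smul, Algebra.smul_def] at h'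
    have h'' := congrArg (fun y => y * (↑uA⁻¹ : CliffordAlgebra q)) h'
    simp only [Units.mul_inv, mul_assoc, mul_one] at h''
    rw [map_one]
    exact h''.symm
  obtain ⟨i, -, hi⟩ : ∃ i ∈ S, IsUnit (c i) := by
    by_contra hcon
    push Not at hcon
    have : (1 : A) ∈ IsLocalRing.maximalIdeal A := hone ▸ Ideal.sum_mem _ fun i hi =>
      Ideal.mul_mem_left _ _ ((IsLocalRing.mem_maximalIdeal _).2 (hcon i hi))
    exact (IsLocalRing.maximalIdeal.isMaximal A).ne_top ((Ideal.eq_top_iff_one _).2 this)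
  -- units descend
  have hu : IsUnit (bcl Q A (i.2 : C)) := by
    rw [hc i, Algebra.smul_def]
    exact (hi.map _).mul uA.isUnit
  have hu' : IsUnit ((1 : A) ⊗ₜ[R] (i.2 : C)) := by rw [← cb_bcl]; exact hu.map (cb Q A)
  exact ⟨(isUnit_of_baseChange A hu').unit, hker0 _ i.2.2, hker _ i.2.2⟩

end Descent

section General

variable {R : Type u} [CommRing R] {M : Type v} [AddCommGroup M] [Module R M] [Module.Free R M]
  {m : ℕ} (b : Module.Basis (Fin (2 * m + 1)) R M) {Q : QuadraticForm R M}

/-- Conjugation in the naive Clifford group is an isometry of determinant one. -/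
theorem exists_conj_isometry (hQ : IsSemiregular b (LinearEquiv.refl R R) Q) (u : (CliffordAlgebra Q)ˣ)
    (hu : u ∈ GPin' Q) :
    ∃ g ∈ SO' Q, ∀ v : M, (u : CliffordAlgebra Q) * ι Q v * ↑u⁻¹ = ι Q (g v) := by
  obtain ⟨h1, h2⟩ := (mem_GPin'_iff u).1 hu
  choose G hG using h1
  choose H hH using h2
  let g : M ≃ₗ[R] M :=
    { toFun := G
      map_add' := fun x y => ι_injective Q (by simp only [hG, map_add, mul_add, add_mul])
      map_smul' := fun c x => ι_injective Q (by simp only [hG, map_smul, mul_smul_comm, smul_mul_assoc, RingHom.id_apply])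
      invFun := H
      left_inv := fun x => ι_injective Q (by simp [hH, hG, ← mul_assoc])
      right_inv := fun x => ι_injective Q (by simp [hG, hH, ← mul_assoc]) }
  have hc : ∀ v, (u : CliffordAlgebra Q) * ι Q v * ↑u⁻¹ = ι Q (g v) := fun v => (hG v).symm
  have hg : g ∈ O Q := fun v => by
    apply algebraMap_injective Q
    rw [← ι_sq_scalar, ← hc, show (u : CliffordAlgebra Q) * ι Q v * ↑u⁻¹ * ((u : CliffordAlgebra Q) * ι Q v * ↑u⁻¹) =
      (u : CliffordAlgebra Q) * (ι Q v * ι Q v) * ↑u⁻¹ by simp only [mul_assoc, Units.inv_mul_cancel_left], ι_sq_scalar,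
      ← Algebra.commutes (Q v) (u : CliffordAlgebra Q), mul_assoc, Units.mul_inv, mul_one]
  refine ⟨g, ⟨hg, MonoidHom.mem_ker.2 (Units.ext ?_)⟩, hc⟩
  rw [LinearEquiv.coe_det, Units.val_one]
  -- coordinates
  let Q' := coordForm b Q
  have hQ' := isSemiregular_coordForm b Q hQ
  let E := (coordIso b Q).toIsometry
  let g' := (b.equivFun.symm.trans g).trans b.equivFun
  have hg' : g' ∈ O Q' := fun x => by
    change Q (b.equivFun.symm (b.equivFun (g (b.equivFun.symm x)))) = Q (b.equivFun.symm x)
    rw [LinearEquiv.symm_apply_apply, hg]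
  let u' := Units.map (CliffordAlgebra.map E).toRingHom.toMonoidHom u
  have hu' : ∀ x, (u' : CliffordAlgebra Q') * ι Q' x = ι Q' (g' x) * u' := fun x => by
    have h := congrArg (CliffordAlgebra.map E) (show (u : CliffordAlgebra Q) * ι Q (b.equivFun.symm x) =
      ι Q (g (b.equivFun.symm x)) * u by rw [← hc, Units.inv_mul_cancel_right])
    rw [map_mul, map_mul, map_apply_ι, map_apply_ι] at h
    rw [show E (b.equivFun.symm x) = x from b.equivFun.apply_symm_apply x,
      show E (g (b.equivFun.symm x)) = g' x from rfl] at h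
    exact h
  rw [← LinearMap.det_conj g.toLinearMap b.equivFun]
  change LinearMap.det g'.toLinearMap = 1
  obtain ⟨A, _, _, hA, ⟨F⟩⟩ := exists_fullFrame (Pi.basisFun R (Fin (2 * m + 1))) hQ'
  haveI := hA.1
  apply FaithfulSMul.algebraMap_injective R A
  rw [map_one]
  let q := baseChangeForm A Q'
  let gA := g'.baseChange R A (Fin (2 * m + 1) → R) (Fin (2 * m + 1) → R)
  have hgv : ∀ x : Fin (2 * m + 1) → R, gA ((1 : A) ⊗ₜ[R] x) = (1 : A) ⊗ₜ[R] g' x := fun x => by simp [gA]
  have hgA : gA ∈ O q := by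
    rw [mem_O]
    intro v
    have : q.comp gA.toLinearMap = q := by
      refine _root_.baseChange_ext fun x => ?_
      simp [q, gA, baseChangeForm_one_tmul, hg' x]
    exact DFunLike.congr_fun this v
  obtain ⟨z, hz1, hzz, hzc, hzg⟩ := map_zc_eq hQ' A F gA hgA
  let uA := Units.map (bcl Q' A).toRingHom.toMonoidHom u'
  have hΦ : ∀ y, (uA : CliffordAlgebra q) * y = CliffordAlgebra.map (isometryOfMem q gA hgA) y * uA := by
    intro y
    induction y using CliffordAlgebra.induction with
    | algebraMap r => rw [AlgHom.commutes]; exact (Algebra.commutes r _).symm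
    | ι w =>
      rw [map_apply_ι, isometryOfMem_apply]
      induction w using TensorProduct.induction_on with
      | zero => simp
      | add x y hx hy => simp only [map_add, mul_add, add_mul, hx, hy]
      | tmul a w =>
        rw [show a ⊗ₜ[R] w = a • ((1 : A) ⊗ₜ[R] w) by rw [TensorProduct.smul_tmul', smul_eq_mul, mul_one], map_smul,
          map_smul, map_smul, mul_smul_comm, smul_mul_assoc, hgv, ← ofBCAux_ι, ← ofBCAux_ι]
        exact congrArg (a • ·) ((map_mul (bcl Q' A) _ _).symm.trans ((congrArg _ (hu' w)).trans (map_mul _ _ _)))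
    | add x y hx hy => rw [map_add, mul_add, add_mul, hx, hy]
    | mul x y hx hy => rw [map_mul, ← mul_assoc, hx, mul_assoc, hy, mul_assoc]
  have hfix : CliffordAlgebra.map (isometryOfMem q gA hgA) z = z := by
    have h := hΦ z
    rw [central_mul hzc] at h
    exact (Units.mul_left_inj uA).1 h.symm
  rw [hzg] at hfix
  apply algebraMap_injective q
  rw [map_one, Algebra.algebraMap_eq_smul_one, ← hzz, ← smul_mul_assoc]
  rw [← LinearMap.det_baseChange]
  exact congrArg (· * z) hfix

variable [IsLocalRing R]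

/-- Over a local ring an isometry of determinant one is conjugation by an even unit. -/
theorem exists_lift_gspin_odd (hQ : IsSemiregular b (LinearEquiv.refl R R) Q) (g : M ≃ₗ[R] M) (hgs : g ∈ SO' Q) :
    ∃ u ∈ GSpin Q, ∀ v, (u : CliffordAlgebra Q) * ι Q v * ↑u⁻¹ = ι Q (g v) := by
  obtain ⟨hg, hd⟩ := id hgs
  let g' := (b.equivFun.symm.trans g).trans b.equivFun
  have hg' : g' ∈ O (coordForm b Q) := fun x => by
    change Q (b.equivFun.symm (b.equivFun (g (b.equivFun.symm x)))) = Q (b.equivFun.symm x)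
    rw [LinearEquiv.symm_apply_apply, hg]
  have hd' : LinearMap.det g'.toLinearMap = 1 :=
    (LinearMap.det_conj g.toLinearMap b.equivFun).trans
      ((LinearEquiv.coe_det g).symm.trans ((congrArg Units.val (MonoidHom.mem_ker.1 hd)).trans Units.val_one))
  obtain ⟨u', hu0, hu'⟩ := exists_lift_coord_odd (isSemiregular_coordForm b Q hQ) g' hg' hd'
  let E := (coordIso b Q).symm.toIsometry
  let u := Units.map (CliffordAlgebra.map E).toRingHom.toMonoidHom u'
  have hu : ∀ v, (u : CliffordAlgebra Q) * ι Q v = ι Q (g v) * u := fun v => by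
    have h := congrArg (CliffordAlgebra.map E) (hu' (b.equivFun v))
    rw [map_mul, map_mul, map_apply_ι, map_apply_ι] at h
    have e1 : E (b.equivFun v) = v := b.equivFun.symm_apply_apply v
    have e2 : E (g' (b.equivFun v)) = g v := by
      change b.equivFun.symm (b.equivFun (g (b.equivFun.symm (b.equivFun v)))) = g v
      rw [LinearEquiv.symm_apply_apply, LinearEquiv.symm_apply_apply]
    rw [e1, e2] at h
    exact h
  have hc : ∀ v, (u : CliffordAlgebra Q) * ι Q v * ↑u⁻¹ = ι Q (g v) := fun v => by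
    rw [hu, mul_assoc, Units.mul_inv, mul_one]
  have heven : (u : CliffordAlgebra Q) ∈ evenOdd Q 0 := map_mem_evenOdd E hu0
  refine ⟨u, ⟨⟨(mem_GPin'_iff u).2 ⟨fun v => ⟨g v, (hc v).symm⟩, fun v => ⟨g.symm v, ?_⟩⟩,
    ⟨1, IsIdempotentElem.one, by rwa [one_smul], by rw [sub_self, zero_smul]; exact Submodule.zero_mem _⟩⟩, heven⟩, hc⟩
  conv_rhs => rw [← g.apply_symm_apply v, mul_assoc, ← hu, ← mul_assoc, Units.inv_mul, one_mul]

end General

end Groth.Agent.CliffSmooth
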