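import Groth.Agent.CliffSmooth.Struct
import Mathlib.RingTheory.Ideal.Operations
import Mathlib.Algebra.Module.Submodule.Map

/-!
# Solving `d_{B v} y = ω v` in the exterior algebra of a form with invertible polar minors
-/

set_option autoImplicit false

universe u v

namespace Groth.Agent.CliffSmooth

open CliffordAlgebra

variable {R : Type u} [CommRing R] {M : Type v} [AddCommGroup M] [Module R M] {n : ℕ}

/-- Vectors whose polar functionals are, up to a multiple of one functional, `D` times the coordinates. -/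
structure PolarDatum (Q : QuadraticForm R M) (b : Module.Basis (Fin n) R M) where
  D : R
  w : Fin n → M
  c : Fin n → R
  ψ : Module.Dual R M
  eq : ∀ j, QuadraticMap.polarBilin Q (w j) = D • b.coord j + c j • ψ
  dual : ∀ k, w k = 0 ∨ ∀ i, QuadraticMap.polarBilin Q (w i) (b k) = if i = k then D else 0

/-- The multipliers of the polar data generate the unit ideal. -/
def GoodPolar (Q : QuadraticForm R M) (b : Module.Basis (Fin n) R M) : Prop :=
  Ideal.span {D : R | ∃ P : PolarDatum Q b, P.D = D} = ⊤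

theorem GoodPolar.mem_of_forall {Q : QuadraticForm R M} {b : Module.Basis (Fin n) R M} (h : GoodPolar Q b)
    (𝔞 : Ideal R) (hmem : ∀ P : PolarDatum Q b, ∃ N : ℕ, P.D ^ N ∈ 𝔞) : (1 : R) ∈ 𝔞 := by
  rw [← Ideal.eq_top_iff_one, ← Ideal.radical_eq_top, eq_top_iff, ← h, Ideal.span_le]
  rintro D ⟨P, rfl⟩
  exact hmem P

local notation "Λ" => ExteriorAlgebra R M
local notation "Λd" => contractLeft (Q := (0 : QuadraticForm R M))

theorem PolarDatum.expand {Q : QuadraticForm R M} {b : Module.Basis (Fin n) R M} (P : PolarDatum Q b)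
    (a : Module.Dual R M) :
    ∃ c : R, P.D • a = ∑ j, a (b j) • QuadraticMap.polarBilin Q (P.w j) + c • P.ψ := by
  refine ⟨-∑ j, a (b j) * P.c j, ?_⟩
  refine b.ext fun i => ?_
  simp [P.eq, Finsupp.single_apply, mul_add, Finset.sum_add_distrib, Finset.mul_sum]
  simp [Finset.mul_sum, mul_comm, mul_left_comm, add_assoc, ← Finset.sum_neg_distrib, ← Finset.sum_add_distrib]

/-- An element killed by the functionals of a datum has its double contractions killed by `D ^ 2`. -/
theorem contract_contract_eq_zero {Q : QuadraticForm R M} {b : Module.Basis (Fin n) R M} (P : PolarDatum Q b)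
    {N : Type*} [AddCommGroup N] [Module R N] (d : Module.Dual R M →ₗ[R] N →ₗ[R] N)
    (hcomm : ∀ a a' x, d a (d a' x) = -d a' (d a x)) (hsq : ∀ a x, d a (d a x) = 0) (z : N)
    (hz : ∀ j, d (QuadraticMap.polarBilin Q (P.w j)) z = 0) (a a' : Module.Dual R M) :
    d a (d a' (P.D ^ 2 • z)) = 0 := by
  have h1 : ∀ a, ∃ c : R, P.D • d a z = c • d P.ψ z := by
    intro a
    obtain ⟨c, hc⟩ := P.expand a
    refine ⟨c, ?_⟩
    rw [← LinearMap.smul_apply, ← map_smul, hc, map_add, LinearMap.add_apply, map_sum, LinearMap.sum_apply,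
      Finset.sum_eq_zero (fun j _ => by rw [map_smul, LinearMap.smul_apply, hz, smul_zero]), zero_add, map_smul,
      LinearMap.smul_apply]
  obtain ⟨c', hc'⟩ := h1 a'
  obtain ⟨c, hc⟩ := h1 a
  simp only [pow_two, mul_smul, map_smul]
  rw [← map_smul (d a) P.D (d a' z), hc', map_smul, smul_comm P.D c', hcomm, smul_neg, ← map_smul (d P.ψ), hc,
    map_smul, hsq, smul_zero, neg_zero, smul_zero]

theorem eq_zero_of_double_contract {ι' : Type*} [Fintype ι'] (b : Module.Basis ι' R M) (x : Λ) (k : ℕ)
    (hx : tail (k + 2) x = x) (h : ∀ a a', Λd a (Λd a' x) = 0) : x = 0 := by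
  have h1 : ∀ a, Λd a x = 0 := fun a => by
    have e := eq_algebraMap_of_contractLeft_eq_zero b _ (fun a' => h a' a)
    rw [← hx, contractLeft_tail] at e
    have := congrArg (tail (k + 1)) e
    rw [tail_tail, max_self, tail_algebraMap] at this
    rw [← hx, contractLeft_tail, this]
  have e := eq_algebraMap_of_contractLeft_eq_zero b x h1
  rw [← hx, e, tail_algebraMap]

theorem tail_mem_smul (k : ℕ) (I : Ideal R) {x : Λ} (hx : x ∈ I • (⊤ : Submodule R Λ)) :
    tail k x ∈ I • (⊤ : Submodule R Λ) := by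
  have := Submodule.mem_map_of_mem (f := tail (R := R) (M := M) k) hx
  rw [Submodule.map_smul''] at this
  exact Submodule.smul_mono le_rfl le_top this

theorem map_mem_smul {N N' : Type*} [AddCommGroup N] [Module R N] [AddCommGroup N'] [Module R N'] (f : N →ₗ[R] N')
    (I : Ideal R) {x : N} (hx : x ∈ I • (⊤ : Submodule R N)) : f x ∈ I • (⊤ : Submodule R N') := by
  have := Submodule.mem_map_of_mem (f := f) hx
  rw [Submodule.map_smul''] at this
  exact Submodule.smul_mono le_rfl le_top this

/-- The Poincaré lemma for contractions by polar functionals. -/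
theorem exists_contract_eq {Q : QuadraticForm R M} {b : Module.Basis (Fin n) R M} (hQ : GoodPolar Q b)
    (I : Ideal R) (ω : M →ₗ[R] Λ) (hI : ∀ v, ω v ∈ I • (⊤ : Submodule R Λ))
    (hω : ∀ v, tail 3 (ω v) = ω v) (hd : ∀ v, Λd (QuadraticMap.polarBilin Q v) (ω v) = 0) :
    ∃ y ∈ I • (⊤ : Submodule R Λ), ∀ v, tail 3 (Λd (QuadraticMap.polarBilin Q v) y) = ω v := by
  let J : Submodule R Λ := I • ⊤
  let g : M →ₗ[R] Λ →ₗ[R] Λ := (Λd).comp (QuadraticMap.polarBilin Q)
  let 𝔞 : Ideal R :=
    { carrier := {r | ∃ y ∈ J, ∀ v, tail 3 (g v y) = r • ω v}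
      add_mem' := by
        rintro r s ⟨y, hy, h⟩ ⟨y', hy', h'⟩
        exact ⟨y + y', Submodule.add_mem _ hy hy', fun v => by rw [map_add, map_add, h, h', add_smul]⟩
      zero_mem' := ⟨0, Submodule.zero_mem _, fun v => by simp⟩
      smul_mem' := by
        rintro s r ⟨y, hy, h⟩
        exact ⟨s • y, Submodule.smul_mem _ _ hy, fun v => by rw [map_smul, map_smul, h, smul_smul, smul_eq_mul]⟩ }
  suffices (1 : R) ∈ 𝔞 by
    obtain ⟨y, hy, h⟩ := this
    exact ⟨y, hy, fun v => (h v).trans (one_smul _ _)⟩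
  refine hQ.mem_of_forall 𝔞 fun P => ?_
  have hsqg : ∀ v x, g v (g v x) = 0 := fun v x => contractLeft_contractLeft _ x
  have hpol : ∀ (ρ : M →ₗ[R] Λ), (∀ v, g v (ρ v) = 0) → ∀ v v', g v (ρ v') = -g v' (ρ v) := fun ρ hρ v v' => by
    have := hρ (v + v')
    rw [map_add, map_add, LinearMap.add_apply, map_add, map_add, hρ, hρ, add_zero, zero_add] at this
    exact eq_neg_of_add_eq_zero_left this
  -- iteration over the vectors `w j`
  have step : ∀ s : Finset (Fin n), ∃ y ∈ J, ∀ j ∈ s, g (P.w j) y = P.D ^ s.card • ω (P.w j) := by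
    intro s
    induction s using Finset.induction_on with
    | empty => exact ⟨0, Submodule.zero_mem _, fun j hj => absurd hj (Finset.notMem_empty j)⟩
    | @insert k s hk ih =>
      obtain ⟨y, hy, h⟩ := ih
      rw [Finset.card_insert_of_notMem hk]
      rcases P.dual k with hw | hdual
      · refine ⟨P.D • y, Submodule.smul_mem _ _ hy, fun j hj => ?_⟩
        rcases Finset.mem_insert.1 hj with rfl | hj
        · simp [hw]
        · rw [map_smul, h j hj, smul_smul, pow_succ']
      let ρ : M →ₗ[R] Λ := P.D ^ s.card • ω - g.flip y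
      have hρ : ∀ v, g v (ρ v) = 0 := fun v => by
        simp only [ρ, LinearMap.sub_apply, LinearMap.smul_apply, LinearMap.flip_apply, map_sub, map_smul, hsqg,
          sub_zero]
        exact (congrArg (fun z => P.D ^ s.card • z) (hd v)).trans (smul_zero _)
      let L : Λ →ₗ[R] Λ := LinearMap.mulLeft R (ι (0 : QuadraticForm R M) (b k))
      refine ⟨P.D • y + L (ρ (P.w k)), ?_, fun j hj => ?_⟩
      · refine Submodule.add_mem _ (Submodule.smul_mem _ _ hy) (map_mem_smul L I ?_)
        exact Submodule.sub_mem _ (Submodule.smul_mem _ _ (hI _)) (map_mem_smul (g (P.w k)) I hy)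
      have hg : g (P.w j) (L (ρ (P.w k))) =
          (if j = k then P.D else 0) • ρ (P.w k) - L (g (P.w j) (ρ (P.w k))) := by
        rw [← hdual j]
        exact contractLeft_ι_mul _ _ _
      rw [map_add, map_smul, hg]
      rcases Finset.mem_insert.1 hj with rfl | hj
      · rw [if_pos rfl, hρ, map_zero, sub_zero]
        simp only [ρ, LinearMap.sub_apply, LinearMap.smul_apply, LinearMap.flip_apply, smul_sub]
        rw [add_sub_cancel, smul_smul, pow_succ']
      · have hne : j ≠ k := fun e => hk (e ▸ hj)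
        have : ρ (P.w j) = 0 := by simp [ρ, h j hj]
        rw [if_neg hne, zero_smul, zero_sub, hpol ρ hρ, this, map_zero, neg_zero, map_zero, neg_zero, add_zero,
          h j hj, smul_smul, pow_succ']
  obtain ⟨y, hy, h⟩ := step Finset.univ
  refine ⟨2 + (Finset.univ : Finset (Fin n)).card, P.D ^ 2 • y, Submodule.smul_mem _ _ hy, fun v => ?_⟩
  let ρ : M →ₗ[R] Λ := P.D ^ (Finset.univ : Finset (Fin n)).card • ω - g.flip y
  have hρ : ∀ v, g v (ρ v) = 0 := fun v => by
    simp only [ρ, LinearMap.sub_apply, LinearMap.smul_apply, LinearMap.flip_apply, map_sub, map_smul, hsqg, sub_zero]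
    exact (congrArg (fun z => P.D ^ (Finset.univ : Finset (Fin n)).card • z) (hd v)).trans (smul_zero _)
  have hzero : P.D ^ 2 • tail 3 (ρ v) = 0 := by
    refine eq_zero_of_double_contract b _ 1 (by rw [map_smul, tail_tail]; rfl) fun a a' => ?_
    refine contract_contract_eq_zero P Λd (fun _ _ _ => contractLeft_comm _ _ _)
      (fun _ _ => contractLeft_contractLeft _ _) _ (fun j => ?_) a a'
    have hj : ρ (P.w j) = 0 := by simp [ρ, h j (Finset.mem_univ j)]
    rw [contractLeft_tail, show Λd (QuadraticMap.polarBilin Q (P.w j)) (ρ v) = g (P.w j) (ρ v) from rfl,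
      hpol ρ hρ, hj, map_zero, neg_zero, map_zero]
  simp only [ρ, LinearMap.sub_apply, LinearMap.smul_apply, LinearMap.flip_apply, map_sub, map_smul, hω,
    smul_sub, sub_eq_zero, smul_smul, ← pow_add] at hzero
  rw [map_smul, map_smul, ← hzero]

end Groth.Agent.CliffSmooth
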