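import Groth.Agent.CSA.AzumayaDescent
import Mathlib.Algebra.Azumaya.Matrix
import Mathlib.Data.Matrix.Basis
import Mathlib.RingTheory.Etale.Descent
import Mathlib.RingTheory.Etale.Pi
import Mathlib.RingTheory.Finiteness.ModuleFinitePresentation
import Mathlib.RingTheory.Spectrum.Prime.FreeLocus
import Mathlib.RingTheory.Unramified.Finite
import Mathlib.LinearAlgebra.TensorProduct.Pi

/-!
# Algebras that become a product of two matrix algebras after a cover
-/

set_option autoImplicit false

universe u v

namespace Groth.Agent.CliffSmooth.SplitCentre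

open TensorProduct

theorem etale_prod (T : Type u) [CommRing T] : Algebra.Etale T (T × T) := by
  let f : (Fin 2 → T) →ₐ[T] T × T := (Pi.evalAlgHom T (fun _ => T) 0).prod (Pi.evalAlgHom T (fun _ => T) 1)
  have hf : Function.Bijective f := by
    constructor
    · intro x y h
      funext i
      fin_cases i
      · exact congrArg Prod.fst h
      · exact congrArg Prod.snd h
    · exact fun p => ⟨![p.1, p.2], Prod.ext rfl rfl⟩
  exact Algebra.Etale.of_equiv (AlgEquiv.ofBijective f hf)

/-- Pairs of matrices are matrices of pairs. -/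
noncomputable def pairMat (T : Type u) [CommRing T] (n : ℕ) :
    (Matrix (Fin n) (Fin n) T × Matrix (Fin n) (Fin n) T) ≃+* Matrix (Fin n) (Fin n) (T × T) where
  toFun P := Matrix.of fun i j => (P.1 i j, P.2 i j)
  invFun X := (X.map Prod.fst, X.map Prod.snd)
  left_inv P := rfl
  right_inv X := rfl
  map_add' P P' := rfl
  map_mul' P P' := by
    ext i j <;> simp [Matrix.mul_apply, Prod.fst_sum, Prod.snd_sum]

theorem pairMat_apply {T : Type u} [CommRing T] {n : ℕ}
    (P : Matrix (Fin n) (Fin n) T × Matrix (Fin n) (Fin n) T) (i j : Fin n) :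
    pairMat T n P i j = (P.1 i j, P.2 i j) := rfl

/-- Scalars move across. -/
theorem swap {Z : Type*} [CommRing Z] {S : Type*} [CommRing S] [Algebra Z S] {C : Type*} [Ring C] [Algebra Z C]
    (z : Z) (t : S) (c : C) : t ⊗ₜ[Z] (algebraMap Z C z * c) = (algebraMap Z S z * t) ⊗ₜ[Z] c := by
  rw [← Algebra.smul_def, TensorProduct.tmul_smul, TensorProduct.smul_tmul', Algebra.smul_def]

variable {A : Type u} [CommRing A] {C : Type v} [Ring C] [Algebra A C]

/-- The centre after base change. -/
noncomputable def centreMap (A : Type u) [CommRing A] (C : Type v) [Ring C] [Algebra A C] (T : Type u) [CommRing T] [Algebra A T] :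
    T ⊗[A] ↥(Subalgebra.center A C) →ₐ[T] T ⊗[A] C :=
  Algebra.TensorProduct.map (AlgHom.id T T) (Subalgebra.center A C).val

theorem centreMap_central (T : Type u) [CommRing T] [Algebra A T] (p : T ⊗[A] ↥(Subalgebra.center A C))
    (y : T ⊗[A] C) : y * centreMap A C T p = centreMap A C T p * y := by
  induction p using TensorProduct.induction_on with
  | zero => simp
  | add a c ha hc => rw [map_add, mul_add, add_mul, ha, hc]
  | tmul a z =>
    induction y using TensorProduct.induction_on with
    | zero => simp
    | add x y hx hy => rw [add_mul, mul_add, hx, hy]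
    | tmul a' x =>
      simp [centreMap, Algebra.TensorProduct.tmul_mul_tmul, mul_comm a a', Subalgebra.mem_center_iff.1 z.2 x]

theorem centreMap_injective (T : Type u) [CommRing T] [Algebra A T] [Module.Flat A T] :
    Function.Injective (centreMap A C T) :=
  Module.Flat.lTensor_preserves_injective_linearMap (M := T) (Subalgebra.center A C).val.toLinearMap
    Subtype.val_injective

theorem exists_centreMap [Module.Finite A C] (T : Type u) [CommRing T] [Algebra A T] [Module.Flat A T]
    {x : T ⊗[A] C} (hx : ∀ y, y * x = x * y) : ∃ p, centreMap A C T p = x := by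
  obtain ⟨k, s, hs⟩ := Module.Finite.exists_fin (R := A) (M := C)
  let c : C →ₗ[A] (Fin k → C) := LinearMap.pi fun i => LinearMap.mulLeft A (s i) - LinearMap.mulRight A (s i)
  have hex : Function.Exact (Subalgebra.center A C).val.toLinearMap c := by
    intro y
    constructor
    · intro hy
      refine ⟨⟨y, Subalgebra.mem_center_iff.2 fun w => ?_⟩, rfl⟩
      have hw : w ∈ Submodule.span A (Set.range s) := hs ▸ Submodule.mem_top
      induction hw using Submodule.span_induction with
      | mem w hw =>
        obtain ⟨i, rfl⟩ := hw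
        exact sub_eq_zero.1 (congrFun hy i)
      | zero => simp
      | add a b _ _ ha hb => rw [add_mul, mul_add, ha, hb]
      | smul r a _ ha => rw [smul_mul_assoc, mul_smul_comm, ha]
    · rintro ⟨ζ, rfl⟩
      funext i
      exact sub_eq_zero.2 (Subalgebra.mem_center_iff.1 ζ.2 _)
  refine ((Module.Flat.lTensor_exact T hex) x).1 ?_
  apply (TensorProduct.piRight A A T (fun _ : Fin k => C)).injective
  rw [map_zero]
  funext i
  have hcomp : ∀ z : T ⊗[A] C, TensorProduct.piRight A A T (fun _ : Fin k => C) (c.lTensor T z) i =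
      ((1 : T) ⊗ₜ[A] s i) * z - z * ((1 : T) ⊗ₜ[A] s i) := by
    intro z
    induction z using TensorProduct.induction_on with
    | zero => simp
    | add a b ha hb => rw [map_add, map_add, Pi.add_apply, ha, hb, mul_add, add_mul]; abel
    | tmul a w => simp [c, TensorProduct.tmul_sub]
  rw [hcomp, hx, sub_self, Pi.zero_apply]

theorem main [Module.Finite A C] [Module.Projective A C] (T : Type u) [CommRing T] [Algebra A T]
    [Module.FaithfullyFlat A T] {n : ℕ} (hn : 0 < n)
    (e : (T ⊗[A] C) ≃ₐ[T] (Matrix (Fin n) (Fin n) T × Matrix (Fin n) (Fin n) T)) :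
    letI : Algebra ↥(Subalgebra.center A C) C :=
      (Subalgebra.center A C).val.toRingHom.toAlgebra'
        (fun c x => (Subalgebra.mem_center_iff.mp c.2 x).symm)
    Algebra.Etale A ↥(Subalgebra.center A C) ∧ Module.Finite A ↥(Subalgebra.center A C) ∧
      Module.Projective A ↥(Subalgebra.center A C) ∧
      (∀ p : PrimeSpectrum A, Module.rankAtStalk ↥(Subalgebra.center A C) p = 2) ∧
      IsAzumaya ↥(Subalgebra.center A C) C := by
  classical
  let Z := ↥(Subalgebra.center A C)
  let i0 : Fin n := ⟨0, hn⟩
  let φ : T ⊗[A] Z →ₐ[T] Matrix (Fin n) (Fin n) T × Matrix (Fin n) (Fin n) T := e.toAlgHom.comp (centreMap A C T)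
  let χ : T × T →ₐ[T] Matrix (Fin n) (Fin n) T × Matrix (Fin n) (Fin n) T :=
    AlgHom.prodMap (Algebra.ofId T _) (Algebra.ofId T _)
  have hχ : Function.Injective χ := by
    intro p q h
    have h1 := congrFun (congrFun (congrArg Prod.fst h) i0) i0
    have h2 := congrFun (congrFun (congrArg Prod.snd h) i0) i0
    simp [χ, Algebra.ofId_apply, Matrix.algebraMap_matrix_apply] at h1 h2
    exact Prod.ext h1 h2
  have hφ : Function.Injective φ := e.injective.comp (centreMap_injective (A := A) (C := C) T)
  have hrange : φ.range = χ.range := by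
    refine le_antisymm ?_ ?_
    · rintro _ ⟨p, rfl⟩
      change φ p ∈ χ.range
      have hc : φ p ∈ Set.center (Matrix (Fin n) (Fin n) T × Matrix (Fin n) (Fin n) T) := by
        rw [Semigroup.mem_center_iff]
        intro y
        obtain ⟨y, rfl⟩ := e.surjective y
        change e y * e (centreMap A C T p) = e (centreMap A C T p) * e y
        rw [← map_mul, ← map_mul, centreMap_central]
      rw [Set.center_prod] at hc
      rw [Matrix.center_eq_range] at hc
      obtain ⟨⟨a, ha⟩, ⟨c, hc⟩⟩ := hc
      exact ⟨(a, c), Prod.ext ha hc⟩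
    · rintro _ ⟨⟨a, c⟩, rfl⟩
      have hc : ∀ y, y * e.symm (χ (a, c)) = e.symm (χ (a, c)) * y := by
        intro y
        apply e.injective
        simp only [map_mul, AlgEquiv.apply_symm_apply]
        exact Prod.ext (Algebra.commutes a _).symm (Algebra.commutes c _).symm
      obtain ⟨p, hp⟩ := exists_centreMap T hc
      exact ⟨p, by change e (centreMap A C T p) = _; rw [hp, e.apply_symm_apply]; rfl⟩
  let ψ : (T ⊗[A] Z) ≃ₐ[T] T × T :=
    (AlgEquiv.ofInjective φ hφ).trans ((Subalgebra.equivOfEq _ _ hrange).trans (AlgEquiv.ofInjective χ hχ).symm)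
  have hψ : ∀ p, χ (ψ p) = e (centreMap A C T p) := fun p => by
    have h := (AlgEquiv.ofInjective χ hχ).apply_symm_apply
      (Subalgebra.equivOfEq _ _ hrange (AlgEquiv.ofInjective φ hφ p))
    exact congrArg Subtype.val h
  haveI : Algebra.Etale T (T ⊗[A] Z) := by
    haveI := etale_prod T
    exact Algebra.Etale.of_equiv ψ.symm
  haveI hZet : Algebra.Etale A Z := Algebra.Etale.of_etale_tensorProduct_of_faithfullyFlat T
  haveI : Module.Finite T (T ⊗[A] Z) := Module.Finite.equiv ψ.toLinearEquiv.symm
  haveI hZfin : Module.Finite A Z := Module.Finite.of_finite_tensorProduct_of_faithfullyFlat T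
  haveI : Module.Flat T (T ⊗[A] Z) := Module.Flat.of_linearEquiv ψ.toLinearEquiv
  haveI : Module.Flat A Z := Module.Flat.of_flat_tensorProduct A Z T
  haveI : Module.FinitePresentation A Z := Module.FinitePresentation.of_finite_of_finitePresentation A Z
  haveI hZproj : Module.Projective A Z := Module.Flat.projective_of_finitePresentation
  letI algZ : Algebra Z C := (Subalgebra.center A C).val.toRingHom.toAlgebra'
    (fun c x => (Subalgebra.mem_center_iff.mp c.2 x).symm)
  letI : SMul Z C := algZ.toSMul
  letI : Module Z C := algZ.toModule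
  refine ⟨hZet, hZfin, hZproj, fun p => ?_, ?_⟩
  · obtain ⟨q, rfl⟩ := PrimeSpectrum.comap_surjective_of_faithfullyFlat (A := A) (B := T) p
    haveI : Nontrivial T := ⟨0, 1, fun h => q.2.ne_top
      ((Ideal.eq_top_iff_one _).2 (h ▸ q.asIdeal.zero_mem))⟩
    rw [← Module.rankAtStalk_baseChange, Module.rankAtStalk_eq_of_equiv ψ.toLinearEquiv,
      Module.rankAtStalk_eq_finrank_of_free]
    simp
  · haveI : IsScalarTower A Z C := IsScalarTower.of_algebraMap_eq fun r => rfl
    haveI : Module.Finite Z C := Module.Finite.of_restrictScalars_finite A Z C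
    haveI : Module.Projective Z C := Algebra.FormallyUnramified.projective_of_restrictScalars (R := A) (S := Z) (M := C)
    let g : Z →ₐ[A] T × T := (ψ.toAlgHom.restrictScalars A).comp Algebra.TensorProduct.includeRight
    letI algT : Algebra Z (T × T) := g.toRingHom.toAlgebra
    have hsurj : Function.Surjective (PrimeSpectrum.comap (algebraMap Z (T × T))) := by
      intro p
      obtain ⟨q, hq⟩ := PrimeSpectrum.comap_surjective_of_faithfullyFlat (A := Z) (B := Z ⊗[A] T) p
      let E : (Z ⊗[A] T) →+* T × T := ψ.toAlgHom.toRingHom.comp (Algebra.TensorProduct.comm A Z T).toAlgHom.toRingHom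
      let E' : (T × T) ≃+* (Z ⊗[A] T) :=
        ((Algebra.TensorProduct.comm A Z T).toRingEquiv.trans ψ.toRingEquiv).symm
      refine ⟨PrimeSpectrum.comap E'.toRingHom q, ?_⟩
      rw [← hq, ← PrimeSpectrum.comap_comp_apply]
      congr 2
      ext z
      change E' (g z) = z ⊗ₜ[A] 1
      rw [show g z = ((Algebra.TensorProduct.comm A Z T).toRingEquiv.trans ψ.toRingEquiv) (z ⊗ₜ[A] 1) from rfl]
      exact RingEquiv.symm_apply_apply _ _
    let κ := pairMat T n
    let e1 : C →+* Matrix (Fin n) (Fin n) (T × T) :=
      κ.toRingHom.comp (e.toAlgHom.toRingHom.comp (Algebra.TensorProduct.includeRight (R := A) (A := T) (B := C)).toRingHom)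
    have hκ : ∀ p : T × T, κ (χ p) = algebraMap (T × T) _ p := fun p => by
      refine Matrix.ext fun i j => ?_
      rw [pairMat_apply]
      obtain ⟨p1, p2⟩ := p
      refine Prod.ext ?_ ?_ <;> by_cases h : i = j <;>
        simp [χ, AlgHom.prodMap, Algebra.ofId_apply, Matrix.algebraMap_matrix_apply, h]
    let f : C →ₐ[Z] Matrix (Fin n) (Fin n) (T × T) :=
      { e1 with
        commutes' := fun z => by
          change κ (e ((1 : T) ⊗ₜ[A] (z : C))) = algebraMap (T × T) _ (ψ ((1 : T) ⊗ₜ[A] z))
          rw [← hκ, hψ]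
          rfl }
    let Θ : (T × T) ⊗[Z] C →ₐ[T × T] Matrix (Fin n) (Fin n) (T × T) :=
      Algebra.TensorProduct.lift (Algebra.ofId (T × T) _) f (fun t c => Algebra.commutes t _)
    have hΘt : ∀ (t : T × T) (c : C), Θ (t ⊗ₜ[Z] c) = algebraMap (T × T) _ t * κ (e ((1 : T) ⊗ₜ[A] c)) :=
      fun t c => Algebra.TensorProduct.lift_tmul ..
    let bk0 : T ⊗[A] C →+ (T × T) ⊗[Z] C := TensorProduct.liftAddHom
      { toFun := fun a =>
          { toFun := fun c => (algebraMap T (T × T) a) ⊗ₜ[Z] c
            map_zero' := TensorProduct.tmul_zero _ _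
            map_add' := fun c c' => TensorProduct.tmul_add _ _ _ }
        map_zero' := by
          ext c
          change algebraMap T (T × T) 0 ⊗ₜ[Z] c = 0
          rw [map_zero, TensorProduct.zero_tmul]
        map_add' := fun a a' => by ext c; simp [← TensorProduct.add_tmul] }
      (fun r a c => by
        change algebraMap T (T × T) (r • a) ⊗ₜ[Z] c = algebraMap T (T × T) a ⊗ₜ[Z] (r • c)
        rw [Algebra.smul_def r c, IsScalarTower.algebraMap_apply A Z C, swap, Algebra.smul_def, map_mul]
        congr 2
        change algebraMap T (T × T) (algebraMap A T r) = g (algebraMap A Z r)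
        rw [AlgHom.commutes]; rfl)
    have hsur : Function.Surjective bk0 := by
      intro x
      induction x using TensorProduct.induction_on with
      | zero => exact ⟨0, map_zero _⟩
      | add x y hx hy =>
        obtain ⟨a, ha⟩ := hx
        obtain ⟨c, hc⟩ := hy
        exact ⟨a + c, by rw [map_add, ha, hc]⟩
      | tmul t c =>
        obtain ⟨p, rfl⟩ := ψ.surjective t
        induction p using TensorProduct.induction_on with
        | zero => exact ⟨0, by simp⟩
        | add p p' hp hp' =>
          obtain ⟨a, ha⟩ := hp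
          obtain ⟨a', ha'⟩ := hp'
          exact ⟨a + a', by rw [map_add, ha, ha', map_add, TensorProduct.add_tmul]⟩
        | tmul a z =>
          refine ⟨a ⊗ₜ[A] (algebraMap Z C z * c), ?_⟩
          change algebraMap T (T × T) a ⊗ₜ[Z] (algebraMap Z C z * c) = _
          rw [swap]
          congr 1
          change ψ ((1 : T) ⊗ₜ[A] z) * algebraMap T (T × T) a = ψ (a ⊗ₜ[A] z)
          rw [← ψ.commutes a, ← map_mul, Algebra.TensorProduct.algebraMap_apply, Algebra.TensorProduct.tmul_mul_tmul]
          simp
    have hcomp : ∀ y, Θ (bk0 y) = κ (e y) := by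
      intro y
      induction y using TensorProduct.induction_on with
      | zero => simp
      | add a b ha hb => rw [map_add, map_add, map_add, map_add, ha, hb]
      | tmul a c =>
        change Θ (algebraMap T (T × T) a ⊗ₜ[Z] c) = _
        rw [hΘt, show a ⊗ₜ[A] c = a • ((1 : T) ⊗ₜ[A] c) by rw [TensorProduct.smul_tmul', smul_eq_mul, mul_one],
          map_smul]
        refine Matrix.ext fun i j => ?_
        simp [Algebra.algebraMap_eq_smul_one, pairMat_apply, κ]
    have hΘ : Function.Bijective Θ := by
      constructor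
      · intro x y h
        obtain ⟨x, rfl⟩ := hsur x
        obtain ⟨y, rfl⟩ := hsur y
        rw [hcomp, hcomp] at h
        rw [e.injective (κ.injective h)]
      · intro X
        exact ⟨bk0 (e.symm (κ.symm X)), by rw [hcomp, e.apply_symm_apply, RingEquiv.apply_symm_apply]⟩
    haveI : Nonempty (Fin n) := ⟨i0⟩
    haveI : IsAzumaya (T × T) (Matrix (Fin n) (Fin n) (T × T)) := IsAzumaya.matrix (T × T) (Fin n)
    haveI : IsAzumaya (T × T) ((T × T) ⊗[Z] C) := IsAzumaya.of_AlgEquiv _ _ _ (AlgEquiv.ofBijective Θ hΘ).symm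
    exact Groth.Agent.CSA.Azu.isAzumaya_of_baseChange Z (T × T) hsurj C

end Groth.Agent.CliffSmooth.SplitCentre
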