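import Groth.Agent.CliffSmooth.Exterior
import Groth.Prelude.Def_QuadGrp

/-!
# Clifford algebras of quadratic forms on free modules: linear structure, parity
-/

set_option autoImplicit false

universe u v

namespace Groth.Agent.CliffSmooth

open CliffordAlgebra

theorem zmod_two_cases : ∀ i : ZMod 2, i = 0 ∨ i = 1 := by decide

theorem zmod_two_cancel : ∀ i : ZMod 2, (1 : ZMod 2) + (i + 1) = i := by decide

variable {R : Type u} [CommRing R] {M : Type v} [AddCommGroup M] [Module R M] [Module.Free R M]
  (Q : QuadraticForm R M)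

theorem neg_bilinLift_spec : (-QuadGrp.bilinLift Q).toQuadraticMap = (0 : QuadraticForm R M) - Q := by
  rw [zero_sub, LinearMap.BilinMap.toQuadraticMap_neg, QuadGrp.bilinLift_spec]

/-- The module isomorphism with the exterior algebra. -/
noncomputable def toExt : CliffordAlgebra Q ≃ₗ[R] ExteriorAlgebra R M :=
  changeFormEquiv (neg_bilinLift_spec Q)

theorem toExt_ι (m : M) : toExt Q (ι Q m) = ExteriorAlgebra.ι R m := changeForm_ι (neg_bilinLift_spec Q) m

theorem toExt_algebraMap (r : R) : toExt Q (algebraMap R _ r) = algebraMap R _ r := changeForm_algebraMap (neg_bilinLift_spec Q) r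

theorem toExt_contractLeft (d : Module.Dual R M) (x : CliffordAlgebra Q) :
    toExt Q (contractLeft d x) = contractLeft (Q := (0 : QuadraticForm R M)) d (toExt Q x) :=
  changeForm_contractLeft (neg_bilinLift_spec Q) d x

/-- The vector part. -/
noncomputable def vecPart : CliffordAlgebra Q →ₗ[R] M := ExteriorAlgebra.ιInv.comp (toExt Q).toLinearMap

theorem vecPart_ι (m : M) : vecPart Q (ι Q m) = m := by
  rw [vecPart, LinearMap.comp_apply, LinearEquiv.coe_coe, toExt_ι]
  exact ExteriorAlgebra.ι_leftInverse m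

theorem ι_injective : Function.Injective (ι Q) := Function.LeftInverse.injective (g := vecPart Q) (vecPart_ι Q)

theorem algebraMap_injective : Function.Injective (algebraMap R (CliffordAlgebra Q)) := fun r s h => by
  have := congrArg (toExt Q) h
  rwa [toExt_algebraMap, toExt_algebraMap, ExteriorAlgebra.algebraMap_inj] at this

omit [Module.Free R M] in
/-- The twisted commutator with a vector is a contraction. -/
theorem ι_mul_sub_involute_mul (v : M) (x : CliffordAlgebra Q) :
    ι Q v * x - involute x * ι Q v = contractLeft (QuadraticMap.polarBilin Q v) x := by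
  induction x using CliffordAlgebra.left_induction with
  | algebraMap r => rw [AlgHom.commutes, contractLeft_algebraMap, Algebra.commutes, sub_self]
  | add a b ha hb => rw [map_add, map_add, mul_add, add_mul, ← ha, ← hb]; abel
  | ι_mul a w ha =>
    rw [map_mul, involute_ι, contractLeft_ι_mul, ← ha, QuadraticMap.polarBilin_apply_apply,
      ← mul_assoc (ι Q v), eq_sub_of_add_eq (ι_mul_ι_add_swap v w), sub_mul, ← Algebra.smul_def]
    noncomm_ring

omit [Module.Free R M] in
theorem contractLeft_mem_evenOdd (d : Module.Dual R M) :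
    ∀ (i : ZMod 2) {x : CliffordAlgebra Q}, x ∈ evenOdd Q i → contractLeft d x ∈ evenOdd Q (i + 1) := by
  intro i x hx
  induction x, hx using CliffordAlgebra.evenOdd_induction (Q := Q) (n := i) with
  | range_ι_pow v hv =>
    rcases zmod_two_cases i with rfl | rfl
    · rw [ZMod.val_zero, pow_zero, Submodule.mem_one] at hv
      obtain ⟨r, rfl⟩ := hv
      rw [contractLeft_algebraMap]
      exact Submodule.zero_mem _
    · rw [ZMod.val_one, pow_one] at hv
      obtain ⟨m, rfl⟩ := hv
      rw [contractLeft_ι, show (1 : ZMod 2) + 1 = 0 from rfl]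
      exact SetLike.algebraMap_mem_graded _ _
  | add x y hx hy ihx ihy => rw [map_add]; exact Submodule.add_mem _ ihx ihy
  | ι_mul_ι_mul m₁ m₂ x hx ih =>
    rw [mul_assoc, contractLeft_ι_mul, contractLeft_ι_mul]
    have h1 : ι Q m₂ * x ∈ evenOdd Q (1 + i) := SetLike.mul_mem_graded (ι_mem_evenOdd_one Q m₂) hx
    have h2 : ι Q m₂ * contractLeft d x ∈ evenOdd Q (1 + (i + 1)) :=
      SetLike.mul_mem_graded (ι_mem_evenOdd_one Q m₂) ih
    have h3 : d m₂ • x - ι Q m₂ * contractLeft d x ∈ evenOdd Q i := by
      refine Submodule.sub_mem _ (Submodule.smul_mem _ _ hx) ?_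
      rwa [zmod_two_cancel i] at h2
    refine Submodule.sub_mem _ (Submodule.smul_mem _ _ ?_) ?_
    · rwa [add_comm] at h1
    · have h4 := SetLike.mul_mem_graded (ι_mem_evenOdd_one Q m₁) h3
      rwa [add_comm] at h4

/-- The components for the parity grading. -/
noncomputable def par (i : ZMod 2) : CliffordAlgebra Q →ₗ[R] CliffordAlgebra Q := GradedAlgebra.proj (evenOdd Q) i

omit [Module.Free R M] in
theorem par_mem (i : ZMod 2) (x : CliffordAlgebra Q) : par Q i x ∈ evenOdd Q i :=
  (DirectSum.decompose (evenOdd Q) x i).2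

omit [Module.Free R M] in
theorem par_of_mem {i : ZMod 2} {x : CliffordAlgebra Q} (hx : x ∈ evenOdd Q i) : par Q i x = x :=
  DirectSum.decompose_of_mem_same _ hx

omit [Module.Free R M] in
theorem par_of_mem_ne {i j : ZMod 2} {x : CliffordAlgebra Q} (hx : x ∈ evenOdd Q i) (h : i ≠ j) : par Q j x = 0 :=
  DirectSum.decompose_of_mem_ne _ hx h

omit [Module.Free R M] in
theorem par_add_par (x : CliffordAlgebra Q) : par Q 0 x + par Q 1 x = x := by
  induction x using DirectSum.Decomposition.inductionOn (evenOdd Q) with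
  | zero => simp
  | add a b ha hb => rw [map_add, map_add, add_add_add_comm, ha, hb]
  | @homogeneous i m =>
    rcases zmod_two_cases i with rfl | rfl
    · rw [par_of_mem Q m.2, par_of_mem_ne Q m.2 (by decide), add_zero]
    · rw [par_of_mem_ne Q m.2 (by decide), par_of_mem Q m.2, zero_add]

omit [Module.Free R M] in
theorem mem_evenOdd_iff (x : CliffordAlgebra Q) :
    (x ∈ evenOdd Q 0 ↔ par Q 1 x = 0) ∧ (x ∈ evenOdd Q 1 ↔ par Q 0 x = 0) := by
  refine ⟨⟨fun h => par_of_mem_ne Q h (by decide), fun h => ?_⟩, ⟨fun h => par_of_mem_ne Q h (by decide), fun h => ?_⟩⟩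
  · rw [← par_add_par Q x, h, add_zero]; exact par_mem Q 0 x
  · rw [← par_add_par Q x, h, zero_add]; exact par_mem Q 1 x

theorem toExt_symm_mem_of_lt_three (x : ExteriorAlgebra R M) :
    (toExt Q).symm (x - tail 3 x) ∈ evenOdd Q 0 ⊔ LinearMap.range (ι Q) := by
  induction x using DirectSum.Decomposition.inductionOn (fun i : ℕ => ⋀[R]^i M) with
  | zero => simp
  | add a b ha hb =>
    have := Submodule.add_mem _ ha hb
    rw [← map_add] at this
    rwa [map_add, show a + b - (tail 3 a + tail 3 b) = a - tail 3 a + (b - tail 3 b) by abel]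
  | @homogeneous i m =>
    obtain ⟨y, hy⟩ := m
    rw [tail_of_mem hy]
    by_cases h : i < 3
    swap
    · rw [if_neg h, sub_self, map_zero]; exact Submodule.zero_mem _
    rw [if_pos h, sub_zero]
    change (toExt Q).symm y ∈ _
    interval_cases i
    · obtain ⟨r, rfl⟩ := mem_zero_iff.1 hy
      rw [← toExt_algebraMap Q r, LinearEquiv.symm_apply_apply]
      exact Submodule.mem_sup_left (SetLike.algebraMap_mem_graded _ _)
    · obtain ⟨a, rfl⟩ := mem_one_iff.1 hy
      rw [← toExt_ι Q a, LinearEquiv.symm_apply_apply]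
      exact Submodule.mem_sup_right ⟨a, rfl⟩
    · suffices (⋀[R]^2 M) ≤ Submodule.comap (toExt Q).symm.toLinearMap (evenOdd Q 0) from
        Submodule.mem_sup_left (this hy)
      change (LinearMap.range (ExteriorAlgebra.ι R : M →ₗ[R] ExteriorAlgebra R M)) ^ 2 ≤ _
      rw [pow_two, Submodule.mul_le]
      rintro _ ⟨a, rfl⟩ _ ⟨c, rfl⟩
      change (toExt Q).symm _ ∈ evenOdd Q 0
      rw [toExt, changeFormEquiv_symm, changeFormEquiv_apply]
      change changeForm _ (ι (0 : QuadraticForm R M) a * ι (0 : QuadraticForm R M) c) ∈ _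
      rw [changeForm_ι_mul_ι]
      exact Submodule.sub_mem _ (ι_mul_ι_mem_evenOdd_zero Q a c) (SetLike.algebraMap_mem_graded _ _)

end Groth.Agent.CliffSmooth
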